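/-
An element of order seven of the coordinate permutations, an element commuting with it and an
involution inverting it, conjugate to a sign change.
-/
import Cfsg.Agent.Lib.MonsterQ.Seven.Data
import Cfsg.Agent.Lib.CoTwoOut.Step
import Cfsg.Agent.Lib.Leech.ModStab
import Cfsg.Agent.Lib.Golay.Seven

set_option autoImplicit false
set_option maxRecDepth 100000
set_option linter.unusedSectionVars false

namespace CfsgLib.MonsterQ.Seven

open Cfsg CfsgGolay CfsgLeech CfsgLeech.Models CfsgCoTwoOut
open scoped Pointwise

attribute [local irreducible] codeL octadL dodecadL slpCodes r7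

/-- The code of an axis vector. -/
def axN (k : ℕ) : ℕ := pack (fun i => if i = k then 24 else 16) 24

theorem axN_code : ∀ k < 24, vecN (axN k) = (Pi.single (pt k) 8 : GolayPt → ℤ) := by decide +kernel

theorem ax_code {k : ℕ} (hk : k < 24) : (ax (pt k) : GolayPt → ℤ) = vecN (axN k) := by rw [axN_code k hk, ax_coe]

theorem wordOK_append : ∀ (u w : List Step), wordOK u = true → wordOK w = true → wordOK (u ++ w) = true
  | [], _, _, h => h
  | none :: u, w, h, h' => by
    rw [List.cons_append, wordOK]
    exact wordOK_append u w h h'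
  | some (c, m) :: u, w, h, h' => by
    rw [List.cons_append, wordOK, Bool.and_eq_true]
    rw [wordOK, Bool.and_eq_true] at h
    exact ⟨h.1, wordOK_append u w h.2 h'⟩

theorem el_append {u w : List Step} (hu : wordOK u = true) (hw : wordOK w = true) :
    el (u ++ w) = el w * el u :=
  aut_ext fun v => by
    rw [el_apply (wordOK_append u w hu hw), runW_append, mul_smul, el_apply hw, el_apply hu]

theorem el_nil : el [] = 1 := aut_ext fun v => by rw [el_apply rfl, one_smul]; rfl

/-- Two words agree on the axis vectors. -/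
noncomputable def eqB (u w : List Step) : Bool :=
  (List.range 24).all fun k => runB u (axN k) fun d => sendB w (axN k) d

theorem el_eq {u w : List Step} (hu : wordOK u = true) (hw : wordOK w = true) (h : eqB u w = true) : el u = el w := by
  refine ext_pt fun k hk => Subtype.ext ?_
  rw [el_apply hu, el_apply hw, ax_code hk]
  obtain ⟨d, hd, hd'⟩ := runB_sound _ _ _ (List.all_eq_true.mp h k (List.mem_range.mpr hk))
  rw [hd, sendB_sound hd']

/-- The word of the permutation of order seven. -/
def p7W : List Step := [some (ppow e7 6, 0)]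

/-- The word of its inverse. -/
def p7iW : List Step := [some (e7, 0)]

/-- The word of the sign change. -/
def sW : List Step := [some (pid, dMask)]

/-- The word of the commuting permutation. -/
def gEW : List Step := [some (gEc, 0)]

theorem words_ok : wordOK gCw = true ∧ wordOK uW = true ∧ wordOK hW = true ∧ wordOK p7W = true ∧
    wordOK p7iW = true ∧ wordOK sW = true ∧ wordOK gEW = true := by decide +kernel

theorem gC_checked : eqB (p7W ++ gCw) (gCw ++ p7W) = true := by decide +kernel

theorem u_checked : eqB (p7W ++ uW) (uW ++ p7iW) = true ∧ eqB (uW ++ uW) [] = true := by decide +kernel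

theorem h_checked : eqB (uW ++ hW) (hW ++ sW) = true := by decide +kernel

theorem p_checked : eqB (p7W ++ p7iW) [] = true ∧ eqB (p7W ++ gEW) (gEW ++ p7W) = true := by decide +kernel

/-- The permutation of order seven as an automorphism. -/
noncomputable def p7 : ↥Co0 := permHom ⟨r7, mem_r7⟩

/-- The commuting element. -/
noncomputable def gC : ↥Co0 := el gCw

/-- The inverting involution. -/
noncomputable def uI : ↥Co0 := el uW

/-- The commuting permutation. -/
noncomputable def gE : ↥Co0 := el gEW

theorem word_perm {c : ℕ} {σ : ↥M24} (h : wordOK [some (c, 0)] = true) (hc : Repr c σ.1⁻¹) :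
    el [some (c, 0)] = permHom σ := by
  refine aut_ext fun v => funext fun i => ?_
  rw [el_apply h, permHom_apply]
  simp only [runW, stepF, Nat.zero_testBit, Bool.false_eq_true, if_false]
  refine congrArg (v : GolayPt → ℤ) ?_
  have h' := hc.apply_pt (idx_lt i)
  rw [pt_idx, Equiv.Perm.inv_def] at h'
  exact h'.symm

theorem repr_r7_inv : Repr (ppow e7 6) r7⁻¹ := by
  have h : r7 * r7 ^ 6 = 1 := by rw [← pow_succ', show 6 + 1 = orderOf r7 from order_7.symm, pow_orderOf_eq_one]
  rw [inv_eq_of_mul_eq_one_right h]
  exact repr_r7.pow 6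

theorem el_p7W : el p7W = p7 := word_perm (σ := ⟨r7, mem_r7⟩) words_ok.2.2.2.1 repr_r7_inv

theorem el_p7iW : el p7iW = p7⁻¹ := by
  have h := el_eq (wordOK_append _ _ words_ok.2.2.2.1 words_ok.2.2.2.2.1) rfl p_checked.1
  rw [el_append words_ok.2.2.2.1 words_ok.2.2.2.2.1, el_nil, el_p7W] at h
  exact eq_inv_of_mul_eq_one_left h

theorem gC_comm : gC * p7 = p7 * gC := by
  have h := el_eq (wordOK_append _ _ words_ok.2.2.2.1 words_ok.1) (wordOK_append _ _ words_ok.1 words_ok.2.2.2.1)
    gC_checked
  rwa [el_append words_ok.2.2.2.1 words_ok.1, el_append words_ok.1 words_ok.2.2.2.1, el_p7W] at h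

theorem gE_comm : gE * p7 = p7 * gE := by
  have h := el_eq (wordOK_append _ _ words_ok.2.2.2.1 words_ok.2.2.2.2.2.2)
    (wordOK_append _ _ words_ok.2.2.2.2.2.2 words_ok.2.2.2.1) p_checked.2
  rwa [el_append words_ok.2.2.2.1 words_ok.2.2.2.2.2.2, el_append words_ok.2.2.2.2.2.2 words_ok.2.2.2.1, el_p7W] at h

theorem uI_inv : uI * p7 = p7⁻¹ * uI := by
  have h := el_eq (wordOK_append _ _ words_ok.2.2.2.1 words_ok.2.1) (wordOK_append _ _ words_ok.2.1 words_ok.2.2.2.2.1)
    u_checked.1
  rwa [el_append words_ok.2.2.2.1 words_ok.2.1, el_append words_ok.2.1 words_ok.2.2.2.2.1, el_p7W, el_p7iW] at h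

theorem uI_sq : uI * uI = 1 := by
  have h := el_eq (wordOK_append _ _ words_ok.2.1 words_ok.2.1) rfl u_checked.2
  rwa [el_append words_ok.2.1 words_ok.2.1, el_nil] at h

/-- The involution is conjugate to a sign change. -/
theorem uI_sign : ∃ h : ↥Co0, h * uI * h⁻¹ ∈ signSub := by
  refine ⟨el hW, ?_⟩
  have h := el_eq (wordOK_append _ _ words_ok.2.1 words_ok.2.2.1) (wordOK_append _ _ words_ok.2.2.1 words_ok.2.2.2.2.2.1)
    h_checked
  rw [el_append words_ok.2.1 words_ok.2.2.1, el_append words_ok.2.2.1 words_ok.2.2.2.2.2.1] at h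
  rw [uI, h, mul_inv_cancel_right]
  refine ⟨toSet dMask, toSet_mem_CW (by decide +kernel), aut_ext fun v => funext fun i => ?_⟩
  have hp : papp pid (idx i) = idx i := (repr_pid i).symm
  rw [el_apply words_ok.2.2.2.2.2.1]
  show (if dMask.testBit (idx i) then _ else _) = signedPerm 1 (toSet dMask) (v : GolayPt → ℤ) i
  simp only [signedPerm, mem_toSet, hp, pt_idx, one_symm_apply']

theorem order_p7 : orderOf p7 = 7 := by
  rw [p7, orderOf_injective permHom permHom_injective, ← Subgroup.orderOf_coe]
  exact order_7

theorem p7_ne : p7 ≠ 1 := fun h => by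
  have := order_p7
  rw [h, orderOf_one] at this
  norm_num at this

theorem p7_ax : Cg (p7 • ax none) (ax none) := by
  have h : p7 ∈ modStab (ax none) := by
    rw [modStab_ax]; exact monoAut_keeps mem_r7 CW_empty
  exact h

/-- Elements commuting with the permutation of order seven modulo the centre commute with it. -/
theorem exact_rel {g q : ↥Co0} (hq : orderOf q = 7)
    (h : (QuotientGroup.mk (g * p7 * g⁻¹) : Spor.Co1) = QuotientGroup.mk q) : g * p7 * g⁻¹ = q := by
  rcases center_eq (QuotientGroup.eq.1 h) with e | e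
  · exact (inv_mul_eq_one.mp e)
  · exfalso
    rw [inv_mul_eq_iff_eq_mul] at e
    have h7 : (g * p7 * g⁻¹) ^ 7 = 1 := by
      rw [conj_pow, ← order_p7, pow_orderOf_eq_one, mul_one, mul_inv_cancel]
    have hn : negAut ^ 7 = negAut := by
      have h2 : negAut * negAut = 1 := aut_ext fun v => by
        rw [mul_smul, negAut_apply, negAut_apply, neg_neg, one_smul]
      rw [pow_succ, show (6 : ℕ) = 2 * 3 from rfl, pow_mul, pow_two, h2, one_pow, one_mul]
    have hc : Commute (g * p7 * g⁻¹) negAut := (Subgroup.mem_center_iff.mp negAut_central _)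
    have := congrArg (fun x => x ^ 7) e
    rw [hc.mul_pow, h7, hn, one_mul, ← hq, pow_orderOf_eq_one] at this
    exact negAut_ne_one this.symm

end CfsgLib.MonsterQ.Seven
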