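/-
The classes modulo twice the lattice fixed by the permutation of order seven: a space of dimension six
with a basis of classes of norm 64, on which the inner product is non-degenerate.
-/
import Cfsg.Agent.Lib.MonsterQ.Seven.Words
import Cfsg.Agent.Lib.Leech.Pairs

set_option autoImplicit false
set_option maxRecDepth 100000

namespace CfsgLib.MonsterQ.Seven

open Cfsg CfsgGolay CfsgLeech CfsgLeech.Models CfsgCoTwoOut
open scoped Pointwise

attribute [local irreducible] codeL octadL dodecadL slpCodes r7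

/-! ### Congruences -/

theorem Cg_add {a b c d : ↥leechLattice} (h : Cg a b) (h' : Cg c d) : Cg (a + c) (b + d) := by
  obtain ⟨u, hu⟩ := h; obtain ⟨w, hw⟩ := h'
  exact ⟨u + w, by rw [add_sub_add_comm, hu, hw]; abel⟩

theorem Cg_double (a : ↥leechLattice) : Cg (a + a) 0 := ⟨a, sub_zero _⟩

/-- Congruence of functions, computed. -/
def congB (f g : GolayPt → ℤ) : Bool :=
  decide (∀ i, (f i - g i) % 2 = 0) && inLatB fun i => (f i - g i) / 2

theorem congB_sound {a b : ↥leechLattice} (h : congB a b = true) : Cg a b := by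
  simp only [congB, Bool.and_eq_true, decide_eq_true_eq] at h
  refine ⟨⟨_, inLatB_sound h.2⟩, Subtype.ext (funext fun i => ?_)⟩
  have := h.1 i
  simp only [AddSubgroup.coe_sub, AddSubgroup.coe_add, Pi.sub_apply, Pi.add_apply]
  omega

/-! ### The basis -/

/-- The codes of the basis. -/
def eL : List ℕ := aC.take 3 ++ bC.take 3

/-- The vectors of the basis. -/
def ev' (j : ℕ) : ↥leechLattice := vecL (eL.getD j 0)

/-- The sum of the chosen vectors of the basis. -/
def sub (m : ℕ) : ↥leechLattice := ((List.range 6).map fun j => cond (m.testBit j) (ev' j) 0).sum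

/-- The same, as a function. -/
def subF (m : ℕ) : GolayPt → ℤ := fun i =>
  ((List.range 6).map fun j => cond (m.testBit j) (vecN (eL.getD j 0) i) 0).sum

theorem eL_lat : ((List.range 6).all fun j => inLatB (vecN (eL.getD j 0))) = true := by decide +kernel

theorem sub_coe (m : ℕ) : ((sub m : ↥leechLattice) : GolayPt → ℤ) = subF m := by
  funext i
  have h : ∀ L : List ℕ, (∀ j ∈ L, inLatB (vecN (eL.getD j 0)) = true) →
      ((((L.map fun j => cond (m.testBit j) (ev' j) 0).sum : ↥leechLattice)) : GolayPt → ℤ) i =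
        (L.map fun j => cond (m.testBit j) (vecN (eL.getD j 0) i) 0).sum := by
    intro L
    induction L with
    | nil => intro _; rfl
    | cons a L ih =>
      intro hL
      simp only [List.map_cons, List.sum_cons, AddSubgroup.coe_add, Pi.add_apply]
      rw [ih fun j hj => hL j (List.mem_cons_of_mem _ hj)]
      cases m.testBit a
      · rfl
      · show ((ev' a : ↥leechLattice) : GolayPt → ℤ) i + _ = _
        rw [ev', vecL_coe (hL a List.mem_cons_self)]
        rfl
  exact h _ fun j hj => List.all_eq_true.mp eL_lat j hj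

theorem sub_add (m n : ℕ) : Cg (sub m + sub n) (sub (m ^^^ n)) := by
  have h : ∀ L : List ℕ, Cg ((L.map fun j => cond (m.testBit j) (ev' j) 0).sum +
      (L.map fun j => cond (n.testBit j) (ev' j) 0).sum)
      (L.map fun j => cond ((m ^^^ n).testBit j) (ev' j) 0).sum := by
    intro L
    induction L with
    | nil => simpa using Cg.refl' (0 : ↥leechLattice)
    | cons a L ih =>
      simp only [List.map_cons, List.sum_cons]
      rw [add_add_add_comm]
      refine Cg_add ?_ ih
      rw [Nat.testBit_xor]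
      cases m.testBit a <;> cases n.testBit a <;> simp [Cg.refl', Cg_double]
  exact h _

theorem sub_zero' : sub 0 = 0 :=
  List.sum_eq_zero fun x hx => by
    obtain ⟨j, -, rfl⟩ := List.mem_map.mp hx
    simp

theorem sub_two_pow {j : ℕ} (hj : j < 6) : sub (2 ^ j) = ev' j := by
  interval_cases j <;> simp [sub, List.range_succ, Nat.testBit, Nat.shiftRight_eq_div_pow]

/-- The classes spanned by the basis. -/
def P : AddSubgroup ↥leechLattice where
  carrier := {x | ∃ m < 64, Cg x (sub m)}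
  zero_mem' := ⟨0, by norm_num, by rw [sub_zero']; exact Cg.refl' 0⟩
  add_mem' := by
    rintro a b ⟨m, hm, ha⟩ ⟨n, hn, hb⟩
    exact ⟨m ^^^ n, Nat.xor_lt_two_pow (n := 6) hm hn, (Cg_add ha hb).trans' (sub_add m n)⟩
  neg_mem' := by
    rintro a ⟨m, hm, ha⟩
    exact ⟨m, hm, (Cg.neg_self a).trans' ha⟩

theorem P_cg {a b : ↥leechLattice} (h : Cg a b) (hb : b ∈ P) : a ∈ P := by
  obtain ⟨m, hm, hb⟩ := hb
  exact ⟨m, hm, h.trans' hb⟩

theorem sub_mem_P {m : ℕ} (hm : m < 64) : sub m ∈ P := ⟨m, hm, Cg.refl' _⟩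

theorem ev_mem_P {j : ℕ} (hj : j < 6) : ev' j ∈ P := by
  rw [← sub_two_pow hj]
  exact sub_mem_P ((Nat.pow_lt_pow_right (by norm_num) hj).trans_le (by norm_num))

/-! ### Fixed vectors -/

/-- The codes of generators of the fixed vectors. -/
def glC : List ℕ :=
  [pack (fun k => if k = 0 then 13 else 17) 24,
   pack (fun k => if (8536111 : ℕ).testBit k then 18 else 16) 24,
   pack (fun k => if (7903248 : ℕ).testBit k then 18 else 16) 24,
   pack (fun k => if (337856 : ℕ).testBit k then 18 else 16) 24,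
   pack (fun k => if k = 0 then 12 else if k = 4 then 20 else 16) 24,
   pack (fun k => if k = 0 then 12 else if k = 8 then 20 else 16) 24,
   axN 0]

/-- The vectors generating the fixed vectors. -/
def gl (k : ℕ) : ↥leechLattice := vecL (glC.getD k 0)

theorem glC_checked : ((List.range 7).all fun k =>
    inLatB (vecN (glC.getD k 0)) && congB (vecN (glC.getD k 0)) (subF (gM.getD k 0)) &&
      Nat.blt (gM.getD k 0) 64) = true := by decide +kernel

theorem gl_mem {k : ℕ} (hk : k < 7) : gl k ∈ P := by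
  have h := List.all_eq_true.mp glC_checked k (List.mem_range.mpr hk)
  simp only [Bool.and_eq_true, Nat.blt_eq] at h
  refine ⟨_, h.2, congB_sound ?_⟩
  rw [gl, vecL_coe h.1.1, sub_coe]
  exact h.1.2

/-- The orbit representative of a point. -/
def rep7 (k : ℕ) : ℕ :=
  if (8536110 : ℕ).testBit k then 1 else if (337600 : ℕ).testBit k then 6
  else if (7903232 : ℕ).testBit k then 11 else k

/-- The number of steps from the representative of a point. -/
def stepsTo (k : ℕ) : ℕ := ((List.range 7).find? fun n => Nat.beq (papp (ppow e7 n) (rep7 k)) k).getD 0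

theorem rep7_checked : ((List.range 24).all fun k =>
    Nat.blt (rep7 k) 24 && Nat.beq (papp (ppow e7 (stepsTo k)) (rep7 k)) k) = true := by decide +kernel

theorem fixed_pow {f : GolayPt → ℤ} (hf : ∀ i, f (r7 i) = f i) : ∀ (n : ℕ) (i : GolayPt), f ((r7 ^ n) i) = f i
  | 0, i => by rw [pow_zero]; rfl
  | n + 1, i => by rw [pow_succ', Equiv.Perm.mul_apply, hf, fixed_pow hf n]

theorem fixed_rep {f : GolayPt → ℤ} (hf : ∀ i, f (r7 i) = f i) {k : ℕ} (hk : k < 24) :
    f (pt k) = f (pt (rep7 k)) := by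
  have h := List.all_eq_true.mp rep7_checked k (List.mem_range.mpr hk)
  simp only [Bool.and_eq_true, Nat.blt_eq] at h
  have h2 := (repr_r7.pow (stepsTo k)).apply_pt h.1
  rw [Nat.eq_of_beq_eq_true h.2] at h2
  rw [← h2, fixed_pow hf]

theorem fixed_sub {f g : GolayPt → ℤ} (hf : ∀ i, f (r7 i) = f i) (hg : ∀ i, g (r7 i) = g i) (a : ℤ) :
    ∀ i, (f - a • g) (r7 i) = (f - a • g) i := fun i => by
  simp only [Pi.sub_apply, Pi.smul_apply]; rw [hf, hg]

theorem gl_fixed_checked : ((List.range 7).all fun j => (List.range 24).all fun k =>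
    Nat.beq (papp (glC.getD j 0) k) (papp (glC.getD j 0) (rep7 k))) = true := by decide +kernel

theorem rep7_step : ∀ k < 24, rep7 (papp e7 k) = rep7 k ∧ papp e7 k < 24 := by decide +kernel

theorem gl_fixed {j : ℕ} (hj : j < 7) (i : GolayPt) :
    (gl j : GolayPt → ℤ) (r7 i) = (gl j : GolayPt → ℤ) i := by
  have h := List.all_eq_true.mp glC_checked j (List.mem_range.mpr hj)
  simp only [Bool.and_eq_true] at h
  rw [gl, vecL_coe h.1.1]
  have hr := repr_r7.apply_pt (idx_lt i)
  rw [pt_idx] at hr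
  rw [hr]
  obtain ⟨h1, h2⟩ := rep7_step _ (idx_lt i)
  have hh := List.all_eq_true.mp (List.all_eq_true.mp gl_fixed_checked j (List.mem_range.mpr hj))
  have a := Nat.eq_of_beq_eq_true (hh _ (List.mem_range.mpr h2))
  have b := Nat.eq_of_beq_eq_true (hh _ (List.mem_range.mpr (idx_lt i)))
  rw [h1] at a
  show (papp (glC.getD j 0) (idx (pt (papp e7 (idx i)))) : ℤ) - 16 = (papp (glC.getD j 0) (idx i) : ℤ) - 16
  rw [idx_pt h2, a, b]

theorem three_supp {y : GolayPt → ℤ} (hy : y ∈ leechLattice)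
    (h0 : ∀ i, i ≠ pt 0 → i ≠ pt 4 → i ≠ pt 8 → y i = 0) :
    (4 : ℤ) ∣ y (pt 4) ∧ (4 : ℤ) ∣ y (pt 8) ∧ (8 : ℤ) ∣ y (pt 0) + y (pt 4) + y (pt 8) := by
  classical
  obtain ⟨m, c, k, hc, hyk, hs⟩ := mem_leech.mp hy
  set S : Finset GolayPt := {pt 0, pt 4, pt 8} with hSdef
  have hS3 : S.card ≤ 3 := Finset.card_le_three
  have hout : ∀ i ∉ S, m + 2 * chi c i + 4 * k i = 0 := fun i hi => by
    simp only [hSdef, Finset.mem_insert, Finset.mem_singleton, not_or] at hi
    rw [← hyk i]; exact h0 i hi.1 hi.2.1 hi.2.2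
  have hd : ∀ d ∈ CW, (∀ i ∉ S, i ∉ d) → d = ∅ := by
    intro d hd hsub
    have hle : d ⊆ S := fun i hi => by
      by_contra hni; exact hsub i hni hi
    have := Finset.card_le_card hle
    obtain ⟨t, ht⟩ := CW_card_four hd
    exact Finset.card_eq_zero.mp (by omega)
  have h1 : (1 : ℕ) < 24 := by norm_num
  have hnot : pt 1 ∉ S := by rw [hSdef]; decide +kernel
  have hm2 := hout _ hnot
  have hall : ∀ i, (4 : ℤ) ∣ m + 2 * chi c i := by
    by_cases h4 : (4 : ℤ) ∣ m
    · have hce : c = ∅ := hd c hc fun i hi hic => by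
        have := hout i hi
        simp only [chi, hic, if_true] at this
        omega
      intro i
      simp only [hce, chi, Finset.notMem_empty, if_false]
      omega
    · have hce : cᶜ = ∅ := hd _ (CW_compl hc) fun i hi hic => by
        have := hout i hi
        simp only [chi, Finset.mem_compl.mp hic, if_false] at this
        omega
      intro i
      have hic : i ∈ c := by
        have : i ∉ cᶜ := by rw [hce]; exact Finset.notMem_empty i
        simpa using this
      simp only [chi, hic, if_true] at hm2 ⊢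
      by_cases hp : pt 1 ∈ c
      · simp only [hp, if_true] at hm2; omega
      · simp only [hp, if_false] at hm2; omega
  refine ⟨by rw [hyk]; have := hall (pt 4); omega, by rw [hyk]; have := hall (pt 8); omega, ?_⟩
  have hsum : ∑ i, y i = y (pt 0) + y (pt 4) + y (pt 8) := by
    rw [← Finset.sum_subset (Finset.subset_univ S) fun i _ hi => by
      simp only [hSdef, Finset.mem_insert, Finset.mem_singleton, not_or] at hi
      exact h0 i hi.1 hi.2.1 hi.2.2]
    rw [hSdef, Finset.sum_insert (by decide +kernel), Finset.sum_insert (by decide +kernel),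
      Finset.sum_singleton, add_assoc]
  rw [← hsum, Finset.sum_congr rfl fun i _ => hyk i]
  simp only [Finset.sum_add_distrib, ← Finset.mul_sum, sum_chi, Finset.sum_const, Finset.card_univ,
    card_univ_pt, nsmul_eq_mul, Nat.cast_ofNat]
  obtain ⟨t, ht⟩ := CW_card_four hc
  omega

theorem glC_vals : ∀ k < 24, papp (glC.getD 4 0) k = (if k = 0 then 12 else if k = 4 then 20 else 16) ∧
    papp (glC.getD 5 0) k = (if k = 0 then 12 else if k = 8 then 20 else 16) ∧
    papp (glC.getD 6 0) k = (if k = 0 then 24 else 16) := by decide +kernel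

theorem gl_val {j : ℕ} (hj : j < 7) (k : ℕ) (hk : k < 24) :
    (gl j : GolayPt → ℤ) (pt k) = (papp (glC.getD j 0) k : ℤ) - 16 := by
  have h := List.all_eq_true.mp glC_checked j (List.mem_range.mpr hj)
  simp only [Bool.and_eq_true] at h
  rw [gl, vecL_coe h.1.1]
  show (papp (glC.getD j 0) (idx (pt k)) : ℤ) - 16 = _
  rw [idx_pt hk]

theorem step_vals : papp (glC.getD 0 0) 1 = 17 ∧ papp (glC.getD 2 0) 1 = 16 ∧ papp (glC.getD 3 0) 1 = 16 ∧
    papp (glC.getD 3 0) 6 = 18 ∧ papp (glC.getD 2 0) 6 = 16 ∧ papp (glC.getD 2 0) 11 = 18 := by decide +kernel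

theorem rep7_cases : ∀ k < 24, k ≠ 0 → k ≠ 4 → k ≠ 8 → rep7 k = 1 ∨ rep7 k = 6 ∨ rep7 k = 11 := by
  decide +kernel

/-- Fixed vectors lie in the span. -/
theorem fixed_mem {x : ↥leechLattice} (hx : ∀ i, (x : GolayPt → ℤ) (r7 i) = (x : GolayPt → ℤ) i) : x ∈ P := by
  classical
  obtain ⟨v0, v2, v3, v36, v26, v211⟩ := step_vals
  have e0 := gl_val (j := 0) (by norm_num) 1 (by norm_num)
  have e2 := gl_val (j := 2) (by norm_num) 1 (by norm_num)
  have e3 := gl_val (j := 3) (by norm_num) 1 (by norm_num)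
  have e36 := gl_val (j := 3) (by norm_num) 6 (by norm_num)
  have e26 := gl_val (j := 2) (by norm_num) 6 (by norm_num)
  have e211 := gl_val (j := 2) (by norm_num) 11 (by norm_num)
  rw [v0] at e0; rw [v2] at e2; rw [v3] at e3; rw [v36] at e36; rw [v26] at e26; rw [v211] at e211
  -- clear the three orbits
  set a := (x : GolayPt → ℤ) (pt 1) with ha
  set y1 := x - a • gl 0 with hy1
  have y1_1 : (y1 : GolayPt → ℤ) (pt 1) = 0 := by
    simp only [hy1, AddSubgroup.coe_sub, AddSubgroup.coe_zsmul, Pi.sub_apply, Pi.smul_apply, smul_eq_mul, e0, ha]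
    ring
  have f1 : ∀ i, (y1 : GolayPt → ℤ) (r7 i) = (y1 : GolayPt → ℤ) i := by
    simp only [hy1, AddSubgroup.coe_sub, AddSubgroup.coe_zsmul]
    exact fixed_sub hx (gl_fixed (by norm_num)) a
  have hev : ∀ i, (2 : ℤ) ∣ (y1 : GolayPt → ℤ) i := by
    obtain ⟨m, c, k, -, hyk, -⟩ := mem_leech.mp y1.2
    intro i
    have h := hyk (pt 1)
    rw [y1_1] at h
    rw [hyk i]
    omega
  obtain ⟨b, hb⟩ := hev (pt 6)
  set y2 := y1 - b • gl 3 with hy2
  have y2_1 : (y2 : GolayPt → ℤ) (pt 1) = 0 := by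
    simp only [hy2, AddSubgroup.coe_sub, AddSubgroup.coe_zsmul, Pi.sub_apply, Pi.smul_apply, smul_eq_mul, e3, y1_1]
    ring
  have y2_6 : (y2 : GolayPt → ℤ) (pt 6) = 0 := by
    simp only [hy2, AddSubgroup.coe_sub, AddSubgroup.coe_zsmul, Pi.sub_apply, Pi.smul_apply, smul_eq_mul, e36, hb]
    ring
  have f2 : ∀ i, (y2 : GolayPt → ℤ) (r7 i) = (y2 : GolayPt → ℤ) i := by
    simp only [hy2, AddSubgroup.coe_sub, AddSubgroup.coe_zsmul]
    exact fixed_sub f1 (gl_fixed (by norm_num)) b
  have hev2 : (2 : ℤ) ∣ (y2 : GolayPt → ℤ) (pt 11) := by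
    obtain ⟨m, c, k, -, hyk, -⟩ := mem_leech.mp y2.2
    have h := hyk (pt 1)
    rw [y2_1] at h
    rw [hyk]
    omega
  obtain ⟨d, hd⟩ := hev2
  set y3 := y2 - d • gl 2 with hy3
  have y3_1 : (y3 : GolayPt → ℤ) (pt 1) = 0 := by
    simp only [hy3, AddSubgroup.coe_sub, AddSubgroup.coe_zsmul, Pi.sub_apply, Pi.smul_apply, smul_eq_mul, e2, y2_1]
    ring
  have y3_6 : (y3 : GolayPt → ℤ) (pt 6) = 0 := by
    simp only [hy3, AddSubgroup.coe_sub, AddSubgroup.coe_zsmul, Pi.sub_apply, Pi.smul_apply, smul_eq_mul, e26, y2_6]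
    ring
  have y3_11 : (y3 : GolayPt → ℤ) (pt 11) = 0 := by
    simp only [hy3, AddSubgroup.coe_sub, AddSubgroup.coe_zsmul, Pi.sub_apply, Pi.smul_apply, smul_eq_mul, e211, hd]
    ring
  have f3 : ∀ i, (y3 : GolayPt → ℤ) (r7 i) = (y3 : GolayPt → ℤ) i := by
    simp only [hy3, AddSubgroup.coe_sub, AddSubgroup.coe_zsmul]
    exact fixed_sub f2 (gl_fixed (by norm_num)) d
  have h0 : ∀ i, i ≠ pt 0 → i ≠ pt 4 → i ≠ pt 8 → (y3 : GolayPt → ℤ) i = 0 := by
    intro i n0 n4 n8
    rw [← pt_idx i, fixed_rep f3 (idx_lt i)]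
    rcases rep7_cases (idx i) (idx_lt i) (fun h => n0 (by rw [← h, pt_idx])) (fun h => n4 (by rw [← h, pt_idx]))
      (fun h => n8 (by rw [← h, pt_idx])) with h | h | h <;> rw [h] <;> assumption
  obtain ⟨⟨p, hp⟩, ⟨q, hq⟩, ⟨t, ht⟩⟩ := three_supp y3.2 h0
  have key : y3 = p • gl 4 + q • gl 5 + t • gl 6 := by
    refine Subtype.ext (funext fun i => ?_)
    rw [← pt_idx i]
    have hk := idx_lt i
    obtain ⟨h4, h5, h6⟩ := glC_vals (idx i) hk
    simp only [AddSubgroup.coe_add, AddSubgroup.coe_zsmul, Pi.add_apply, Pi.smul_apply, smul_eq_mul,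
      gl_val (j := 4) (by norm_num) _ hk, gl_val (j := 5) (by norm_num) _ hk, gl_val (j := 6) (by norm_num) _ hk,
      h4, h5, h6]
    by_cases k0 : idx i = 0
    · simp only [k0, if_true]
      push_cast
      omega
    by_cases k4 : idx i = 4
    · simp only [k4, if_true]
      norm_num
      omega
    by_cases k8 : idx i = 8
    · simp only [k8, if_true]
      norm_num
      omega
    simp only [k0, k4, k8, if_false]
    rw [h0 _ (fun h => k0 (by rw [← idx_pt (show 0 < 24 by norm_num), ← h, pt_idx]))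
      (fun h => k4 (by rw [← idx_pt (show 4 < 24 by norm_num), ← h, pt_idx]))
      (fun h => k8 (by rw [← idx_pt (show 8 < 24 by norm_num), ← h, pt_idx]))]
    ring
  have hm : y3 ∈ P := by
    rw [key]
    exact add_mem (add_mem (zsmul_mem (gl_mem (by norm_num)) _) (zsmul_mem (gl_mem (by norm_num)) _))
      (zsmul_mem (gl_mem (by norm_num)) _)
  have hx' : x = y3 + d • gl 2 + b • gl 3 + a • gl 0 := by rw [hy3, hy2, hy1]; abel
  rw [hx']
  exact add_mem (add_mem (add_mem hm (zsmul_mem (gl_mem (by norm_num)) _)) (zsmul_mem (gl_mem (by norm_num)) _))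
    (zsmul_mem (gl_mem (by norm_num)) _)

theorem perm_apply (σ : ↥M24) (v : ↥leechLattice) (i : GolayPt) :
    ((permHom σ • v : ↥leechLattice) : GolayPt → ℤ) (σ.1 i) = (v : GolayPt → ℤ) i := by
  rw [permHom_apply, Equiv.symm_apply_apply]

theorem perm_apply' (σ : ↥M24) (r : Equiv.Perm GolayPt) (h : σ.1 = r) (p : ↥Co0) (hp : p = permHom σ)
    (v : ↥leechLattice) (i : GolayPt) :
    ((p • v : ↥leechLattice) : GolayPt → ℤ) (r i) = (v : GolayPt → ℤ) i := by
  subst hp; subst h; exact perm_apply σ v i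

theorem p7_apply (v : ↥leechLattice) (i : GolayPt) :
    ((p7 • v : ↥leechLattice) : GolayPt → ℤ) (r7 i) = (v : GolayPt → ℤ) i :=
  perm_apply' ⟨r7, mem_r7⟩ r7 rfl p7 rfl v i

theorem p7_pow_seven : p7 ^ 7 = 1 := by rw [← order_p7, pow_orderOf_eq_one]

/-- Classes fixed by the permutation of order seven lie in the span. -/
theorem class_mem {x : ↥leechLattice} (hx : Cg (p7 • x) x) : x ∈ P := by
  set s := ∑ n ∈ Finset.range 7, p7 ^ n • x with hs
  have hfix : p7 • s = s := by
    rw [hs]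
    refine (map_sum (autHom p7) _ _).trans ?_
    show ∑ n ∈ Finset.range 7, p7 • p7 ^ n • x = _
    simp only [← mul_smul, ← pow_succ']
    have h1 := Finset.sum_range_succ (fun n => p7 ^ n • x) 7
    have h2 := Finset.sum_range_succ' (fun n => p7 ^ n • x) 7
    rw [p7_pow_seven] at h1
    simp only [pow_zero] at h2
    rw [h2] at h1
    exact add_right_cancel h1
  have hsP : s ∈ P := fixed_mem fun i => by
    conv_rhs => rw [← p7_apply s i, hfix]
  have hn : ∀ n, Cg (p7 ^ n • x) x := by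
    intro n
    induction n with
    | zero => rw [pow_zero, one_smul]; exact Cg.refl' x
    | succ n ih => rw [pow_succ', mul_smul]; exact (Cg.map' p7 ih).trans' hx
  have h7 : ∀ N, Cg (∑ n ∈ Finset.range N, p7 ^ n • x) (N • x) := by
    intro N
    induction N with
    | zero => simpa using Cg.refl' (0 : ↥leechLattice)
    | succ N ih => rw [Finset.sum_range_succ, succ_nsmul]; exact Cg_add ih (hn N)
  refine P_cg ?_ hsP
  refine Cg.trans' ?_ (h7 7).symm'
  exact ⟨-((3 : ℕ) • x), by abel⟩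

/-! ### Inner products -/

/-- The inner product modulo two. -/
def ip (x y : ↥leechLattice) : ZMod 2 :=
  ((dotInt (x : GolayPt → ℤ) (y : GolayPt → ℤ) / 8 : ℤ) : ZMod 2)

theorem dot_comm (a b : GolayPt → ℤ) : dotInt a b = dotInt b a :=
  Finset.sum_congr rfl fun i _ => mul_comm _ _

theorem ip_comm (x y : ↥leechLattice) : ip x y = ip y x := by rw [ip, ip, dot_comm]

theorem ip_add (x y w : ↥leechLattice) : ip (x + y) w = ip x w + ip y w := by
  rw [ip, ip, ip, AddSubgroup.coe_add, dot_add_left, Int.add_ediv_of_dvd_left (dot_dvd x w), Int.cast_add]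

theorem ip_add_right (x y w : ↥leechLattice) : ip x (y + w) = ip x y + ip x w := by
  rw [ip_comm, ip_add, ip_comm y, ip_comm w]

theorem ip_zero (w : ↥leechLattice) : ip 0 w = 0 := by
  have h := ip_add 0 0 w
  rw [add_zero] at h
  exact left_eq_add.mp h

theorem ip_neg (x w : ↥leechLattice) : ip (-x) w = ip x w := by
  have h := ip_add (-x) x w
  rw [neg_add_cancel, ip_zero] at h
  exact (show ∀ a b : ZMod 2, 0 = a + b → a = b by decide) _ _ h

theorem ip_cg {x y : ↥leechLattice} (h : Cg x y) (w : ↥leechLattice) : ip x w = ip y w := by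
  obtain ⟨u, hu⟩ := h
  rw [sub_eq_iff_eq_add.mp hu, ip_add, ip_add, (show ∀ a : ZMod 2, a + a = 0 by decide), zero_add]

theorem ip_cg_right {x y : ↥leechLattice} (h : Cg x y) (w : ↥leechLattice) : ip w x = ip w y := by
  rw [ip_comm, ip_cg h, ip_comm]

theorem aut_dot (g : ↥Co0) (x y : ↥leechLattice) :
    dotInt ((g • x : ↥leechLattice) : GolayPt → ℤ) ((g • y : ↥leechLattice) : GolayPt → ℤ) =
      dotInt (x : GolayPt → ℤ) (y : GolayPt → ℤ) := by
  have h1 := (sqNorm_sub_add (x : GolayPt → ℤ) (y : GolayPt → ℤ)).2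
  have h2 := (sqNorm_sub_add ((g • x : ↥leechLattice) : GolayPt → ℤ) ((g • y : ↥leechLattice) : GolayPt → ℤ)).2
  rw [← AddSubgroup.coe_add, ← aut_add, aut_norm, aut_norm, aut_norm] at h2
  rw [← AddSubgroup.coe_add] at h1
  omega

theorem ip_smul (g : ↥Co0) (x y : ↥leechLattice) : ip (g • x) (g • y) = ip x y := by
  rw [ip, ip, aut_dot]

/-- The Gram matrix of the basis, computed. -/
theorem gram_checked : ∀ m < 64, m ≠ 0 → ∃ j < 6,
    (dotInt (subF m) (vecN (eL.getD j 0)) / 8) % 2 = 1 := by decide +kernel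

theorem sub_ip {m : ℕ} (hm : m < 64) (h0 : m ≠ 0) : ∃ j < 6, ip (sub m) (ev' j) = 1 := by
  obtain ⟨j, hj, h⟩ := gram_checked m hm h0
  refine ⟨j, hj, ?_⟩
  rw [ip, sub_coe, ev', vecL_coe (List.all_eq_true.mp eL_lat j (List.mem_range.mpr hj))]
  exact (ZMod.intCast_eq_intCast_iff' _ 1 2).mpr (by simpa using h)

theorem sub_inj {m n : ℕ} (hm : m < 64) (hn : n < 64) (h : Cg (sub m) (sub n)) : m = n := by
  by_contra hne
  have h0 : m ^^^ n ≠ 0 := fun e => hne (by
    have := congrArg (· ^^^ n) e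
    simpa [Nat.xor_assoc] using this)
  obtain ⟨j, -, hj⟩ := sub_ip (Nat.xor_lt_two_pow (n := 6) hm hn) h0
  rw [← ip_cg (sub_add m n), ip_add, ip_cg h, (show ∀ a : ZMod 2, a + a = 0 by decide)] at hj
  exact zero_ne_one hj

end CfsgLib.MonsterQ.Seven
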