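/-
The centraliser of the permutation of order seven in the automorphism group of the lattice acts on the
two planes of fixed classes as the general linear group of a space of dimension three over two elements.
-/
import Cfsg.Agent.Lib.MonsterQ.Seven.Fixed
import Cfsg.Agent.Lib.SmallSimple.Order168

set_option autoImplicit false
set_option maxRecDepth 100000

namespace CfsgLib.MonsterQ.Seven

open Cfsg CfsgGolay CfsgLeech CfsgLeech.Models CfsgCoTwoOut
open scoped Pointwise

attribute [local irreducible] codeL octadL dodecadL slpCodes r7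

/-! ### The two planes -/

/-- The codes of the fourteen classes of norm 64. -/
def abL : List ℕ := aC ++ bC

/-- Their masks. -/
def abM : List ℕ := [1, 2, 4, 3, 6, 7, 5, 8, 16, 32, 24, 48, 56, 40]

/-- The vectors of the fourteen classes. -/
def abV (k : ℕ) : ↥leechLattice := vecL (abL.getD k 0)

theorem ab_checked : ((List.range 14).all fun k => inLatB (vecN (abL.getD k 0)) &&
    congB (vecN (abL.getD k 0)) (subF (abM.getD k 0)) && decide (dN (abL.getD k 0) (abL.getD k 0) = 64) &&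
    Nat.blt (abM.getD k 0) 64) = true := by decide +kernel

theorem ab_facts {k : ℕ} (hk : k < 14) : (abV k : GolayPt → ℤ) = vecN (abL.getD k 0) ∧
    Cg (abV k) (sub (abM.getD k 0)) ∧ sqNorm (abV k : GolayPt → ℤ) = 64 ∧ abM.getD k 0 < 64 := by
  have h := List.all_eq_true.mp ab_checked k (List.mem_range.mpr hk)
  simp only [Bool.and_eq_true, Nat.blt_eq, decide_eq_true_eq] at h
  have hc : (abV k : GolayPt → ℤ) = vecN (abL.getD k 0) := vecL_coe h.1.1.1
  refine ⟨hc, congB_sound ?_, by rw [hc, nN_eq, h.1.2], h.2⟩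
  rw [hc, sub_coe]; exact h.1.1.2

/-- The test of an entry of the table. -/
noncomputable def tabB (i : ℕ) : Bool :=
  CfsgLib.CosetEnum.force (tab.getD i (0, 0)).1 fun c => inLatB (vecN c) && congB (vecN c) (subF (i + 1)) &&
    decide (dN c c = ((tab.getD i (0, 0)).2 : ℤ)) &&
      decide ((tab.getD i (0, 0)).2 ≤ 64 ∧ ((tab.getD i (0, 0)).2 = 64 → i + 1 ∈ abM))

theorem tab_checked₁ : ((List.range 21).all fun i => tabB i) = true := by decide +kernel

theorem tab_checked₂ : ((List.range 21).all fun i => tabB (21 + i)) = true := by decide +kernel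

theorem tab_checked₃ : ((List.range 21).all fun i => tabB (42 + i)) = true := by decide +kernel

theorem tab_ok {i : ℕ} (hi : i < 63) : tabB i = true := by
  by_cases h1 : i < 21
  · exact List.all_eq_true.mp tab_checked₁ i (List.mem_range.mpr h1)
  by_cases h2 : i < 42
  · have := List.all_eq_true.mp tab_checked₂ (i - 21) (List.mem_range.mpr (by omega))
    rwa [show 21 + (i - 21) = i by omega] at this
  · have := List.all_eq_true.mp tab_checked₃ (i - 42) (List.mem_range.mpr (by omega))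
    rwa [show 42 + (i - 42) = i by omega] at this

/-- A class of norm 64 in the span is one of the fourteen. -/
theorem norm64_mem {m : ℕ} (hm : m < 64) {v : ↥leechLattice} (hv : sqNorm (v : GolayPt → ℤ) = 64)
    (h : Cg v (sub m)) : m ∈ abM := by
  rcases Nat.eq_zero_or_pos m with rfl | h0
  · exfalso
    rw [sub_zero'] at h
    refine not_cg_zero ?_ (by rw [hv]) h
    rintro rfl
    simp [sqNorm] at hv
  · obtain ⟨i, rfl⟩ : ∃ i, m = i + 1 := ⟨m - 1, by omega⟩
    have hc := tab_ok (show i < 63 by omega)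
    simp only [tabB, CfsgLib.CosetEnum.force_eq, Bool.and_eq_true, decide_eq_true_eq] at hc
    obtain ⟨⟨⟨h1, h2⟩, h3⟩, h4, h5⟩ := hc
    have hw : ((vecL (tab.getD i (0, 0)).1 : ↥leechLattice) : GolayPt → ℤ) = vecN (tab.getD i (0, 0)).1 :=
      vecL_coe h1
    have hn : sqNorm ((vecL (tab.getD i (0, 0)).1 : ↥leechLattice) : GolayPt → ℤ) =
        ((tab.getD i (0, 0)).2 : ℤ) := by rw [hw, nN_eq, h3]
    have hcg : Cg v (vecL (tab.getD i (0, 0)).1) :=
      h.trans' (congB_sound (by rw [hw, sub_coe]; exact h2)).symm'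
    have := (norm_of_cg hcg (by rw [hv]) (by rw [hn]; exact_mod_cast h4)).1
    rw [hv, hn] at this
    exact h5 (by omega)

/-- The first plane. -/
abbrev aV (k : ℕ) : ↥leechLattice := abV k

/-- The second plane. -/
abbrev bV (k : ℕ) : ↥leechLattice := abV (7 + k)

theorem moves_checked : ((List.range 7).all fun k => sendB gCw (abL.getD k 0) (abL.getD ((k + 1) % 7) 0) &&
    sendB uW (abL.getD k 0) (abL.getD (7 + k) 0)) = true ∧ vecN (abL.getD 0 0) = Pi.single none 8 := by
  decide +kernel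

theorem aV_zero : aV 0 = ax none := Subtype.ext (by rw [(ab_facts (by norm_num)).1, moves_checked.2, ax_coe])

theorem gC_aV {k : ℕ} (hk : k < 7) : gC • aV k = aV ((k + 1) % 7) := by
  have h := List.all_eq_true.mp moves_checked.1 k (List.mem_range.mpr hk)
  simp only [Bool.and_eq_true] at h
  refine Subtype.ext ?_
  rw [gC, el_send words_ok.1 (ab_facts (by omega)).1 h.1,
    (ab_facts (show (k + 1) % 7 < 14 by omega)).1]

theorem uI_aV {k : ℕ} (hk : k < 7) : uI • aV k = bV k := by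
  have h := List.all_eq_true.mp moves_checked.1 k (List.mem_range.mpr hk)
  simp only [Bool.and_eq_true] at h
  refine Subtype.ext ?_
  rw [uI, el_send words_ok.2.1 (ab_facts (by omega)).1 h.2, (ab_facts (show 7 + k < 14 by omega)).1]

theorem gC_pow_aV : ∀ {k : ℕ}, k < 7 → gC ^ k • aV 0 = aV k
  | 0, _ => by rw [pow_zero, one_smul]
  | k + 1, hk => by
    rw [pow_succ', mul_smul, gC_pow_aV (k := k) (by omega), gC_aV (by omega), Nat.mod_eq_of_lt hk]

/-! ### No element inverting the permutation fixes the standard class -/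

theorem mono_ax {σ : Equiv.Perm GolayPt} (hσ : σ ∈ M24) {c : Finset GolayPt} (hc : c ∈ CW) (i : GolayPt) :
    monoAut σ hσ c hc • ax i = if σ i ∈ c then -ax (σ i) else ax (σ i) := by
  refine Subtype.ext ?_
  rw [monoAut_apply]
  funext a
  obtain ⟨b, rfl⟩ := σ.surjective a
  by_cases hi : σ i ∈ c
  · rw [if_pos hi]
    by_cases hb : b = i
    · subst hb; simp [signedPerm, ax_coe, hi]
    · simp [signedPerm, ax_coe, hb]
  · rw [if_neg hi]
    by_cases hb : b = i
    · subst hb; simp [signedPerm, ax_coe, hi]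
    · simp [signedPerm, ax_coe, hb]

theorem ax_inj {x y : GolayPt} {P Q : Prop} [Decidable P] [Decidable Q]
    (h : (if P then -ax x else ax x : ↥leechLattice) = if Q then -ax y else ax y) : x = y ∧ (P ↔ Q) := by
  have h1 := congrFun (congrArg Subtype.val h) x
  by_cases hxy : x = y
  · subst hxy
    refine ⟨rfl, ?_⟩
    by_cases hP : P <;> by_cases hQ : Q <;> simp [hP, hQ, ax_coe] at h1 ⊢
  · exfalso
    by_cases hP : P <;> by_cases hQ : Q <;> simp [hP, hQ, ax_coe, hxy] at h1

theorem mono_rel (σ : Equiv.Perm GolayPt) (hσ : σ ∈ M24) (c : Finset GolayPt) (hc : c ∈ CW) (τ τ' : ↥M24)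
    (h : monoAut σ hσ c hc * permHom τ = permHom τ' * monoAut σ hσ c hc) :
    σ * τ.1 = τ'.1 * σ ∧ ∀ i, (τ'.1 (σ i) ∈ c ↔ σ i ∈ c) := by
  have key : ∀ i, σ (τ.1 i) = τ'.1 (σ i) ∧ (σ (τ.1 i) ∈ c ↔ σ i ∈ c) := by
    intro i
    have h1 := congrArg (fun g : ↥Co0 => g • ax i) h
    simp only [mul_smul, permHom_ax, mono_ax] at h1
    have h2 : permHom τ' • (if σ i ∈ c then -ax (σ i) else ax (σ i)) =
        if σ i ∈ c then -ax (τ'.1 (σ i)) else ax (τ'.1 (σ i)) := by
      by_cases hi : σ i ∈ c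
      · rw [if_pos hi, if_pos hi, show permHom τ' • -ax (σ i) = -(permHom τ' • ax (σ i)) from
          map_neg (autHom (permHom τ')) _, permHom_ax]
      · rw [if_neg hi, if_neg hi, permHom_ax]
    rw [h2] at h1
    exact ax_inj h1
  exact ⟨Equiv.ext fun i => (key i).1, fun i => by rw [← (key i).1]; exact (key i).2⟩

theorem p7_eq : ∃ τ : ↥M24, τ.1 = r7 ∧ p7 = permHom τ := ⟨⟨r7, mem_r7⟩, rfl, rfl⟩

theorem r7_not_inverted {σ : Equiv.Perm GolayPt} (hσ : σ ∈ M24) : σ * r7 ≠ r7⁻¹ * σ := by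
  intro he
  have h1 : σ * r7 * σ⁻¹ = r7 ^ 6 := by
    rw [he, mul_inv_cancel_right]
    refine inv_eq_of_mul_eq_one_right ?_
    rw [← pow_succ', show 6 + 1 = orderOf r7 from order_7.symm, pow_orderOf_eq_one]
  have hn : σ ∈ norm7 := mem_norm7.mpr ⟨hσ, by rw [h1]; exact Subgroup.npow_mem_zpowers r7 6⟩
  have hm : (⟨r7 ^ 6⟩ : PConj) ∈ MulAction.orbit norm7 (⟨r7⟩ : PConj) :=
    ⟨⟨σ, hn⟩, PConj.val_injective h1⟩
  rw [seven_orbit norm7 fun g => mem_norm7] at hm
  have hij : ∀ i j, i < 7 → j < 7 → r7 ^ i = r7 ^ j → i = j := fun i j hi hj he =>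
    pow_injOn_Iio_orderOf (show i < orderOf r7 by rw [order_7]; exact hi)
      (show j < orderOf r7 by rw [order_7]; exact hj) he
  rcases hm with e | e | e
  · exact absurd (hij 6 1 (by norm_num) (by norm_num) (by rw [pow_one]; exact congrArg PConj.val e)) (by norm_num)
  · exact absurd (hij 6 2 (by norm_num) (by norm_num) (congrArg PConj.val e)) (by norm_num)
  · exact absurd (hij 6 4 (by norm_num) (by norm_num) (congrArg PConj.val e)) (by norm_num)

theorem no_invert {g : ↥Co0} (hcg : Cg (g • ax none) (ax none)) : g * p7 ≠ p7⁻¹ * g := by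
  intro h
  have hk : g ∈ modStab (ax none) := hcg
  rw [modStab_ax] at hk
  obtain ⟨σ, c, hσ, hc, rfl⟩ := keepsCross_monomial hk
  obtain ⟨τ, hτ, hp⟩ := p7_eq
  rw [hp, ← map_inv] at h
  have := (mono_rel σ hσ c hc τ τ⁻¹ h).1
  rw [Subgroup.coe_inv, hτ] at this
  exact r7_not_inverted hσ this

/-! ### The centraliser -/

/-- The centraliser. -/
noncomputable def CC : Subgroup ↥Co0 := Subgroup.centralizer {p7}

theorem mem_CC {g : ↥Co0} : g ∈ CC ↔ g * p7 = p7 * g := Subgroup.mem_centralizer_singleton_iff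

theorem gC_mem : gC ∈ CC := mem_CC.mpr gC_comm

theorem gE_mem : gE ∈ CC := mem_CC.mpr gE_comm

theorem p7_mem : p7 ∈ CC := mem_CC.mpr rfl

theorem negAut_mem : negAut ∈ CC := mem_CC.mpr (Subgroup.mem_center_iff.mp negAut_central p7).symm

/-- Where the standard class may go. -/
theorem CC_aV {g : ↥Co0} (hg : g ∈ CC) : ∃ k < 7, Cg (g • aV 0) (aV k) := by
  have hfix : Cg (p7 • g • aV 0) (g • aV 0) := by
    rw [← mul_smul, ← mem_CC.mp hg, mul_smul]
    exact Cg.map' g (by rw [aV_zero]; exact p7_ax)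
  obtain ⟨m, hm, hcg⟩ := class_mem hfix
  have hv : sqNorm ((g • aV 0 : ↥leechLattice) : GolayPt → ℤ) = 64 :=
    (aut_norm _ _).trans (ab_facts (by norm_num)).2.2.1
  obtain ⟨k, hk, hkm⟩ := List.getElem_of_mem (norm64_mem hm hv hcg)
  have hk14 : k < 14 := hk
  have hcgk : Cg (g • aV 0) (abV k) := by
    refine hcg.trans' ?_
    rw [← hkm, ← List.getD_eq_getElem _ 0 hk]
    exact (ab_facts hk14).2.1.symm'
  by_cases h7 : k < 7
  · exact ⟨k, h7, hcgk⟩
  exfalso
  obtain ⟨j, rfl⟩ : ∃ j, k = 7 + j := ⟨k - 7, by omega⟩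
  have hbj : (uI * gC ^ j) • aV 0 = abV (7 + j) := by
    rw [mul_smul, gC_pow_aV (by omega), uI_aV (by omega)]
  set w := uI * gC ^ j with hw
  have hwp : w * p7 = p7⁻¹ * w := by
    rw [hw, mul_assoc, ((show Commute gC p7 from gC_comm).pow_left j).eq, ← mul_assoc, uI_inv, mul_assoc]
  refine no_invert (g := w⁻¹ * g) ?_ ?_
  · rw [← aV_zero, mul_smul]
    have := Cg.map' w⁻¹ hcgk
    rwa [← hbj, inv_smul_smul] at this
  · have hinv : w⁻¹ * p7 = p7⁻¹ * w⁻¹ := by
      have h2 : p7 * w = w * p7⁻¹ := by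
        calc p7 * w = p7 * (p7⁻¹ * w) * (p7⁻¹) * 1 := by rw [← hwp]; group
          _ = _ := by group
      calc w⁻¹ * p7 = w⁻¹ * (p7 * w) * w⁻¹ := by group
        _ = _ := by rw [h2]; group
    rw [mul_assoc, mem_CC.mp hg, ← mul_assoc, hinv, mul_assoc]

/-- The fixed code words. -/
theorem fixed_CW_count : ((Finset.range 64).filter fun m => inCode
    (orBits ((List.range 24).filter fun k => m.testBit (([0, 4, 8, 1, 6, 11] : List ℕ).idxOf (rep7 k)))) = true).card ≤ 8 := by
  decide +kernel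

theorem six_mask : ∀ k < 24, [0, 4, 8, 1, 6, 11].getD ([0, 4, 8, 1, 6, 11].idxOf (rep7 k)) 0 = rep7 k ∧
    [0, 4, 8, 1, 6, 11].idxOf (rep7 k) < 6 := by decide +kernel

theorem fixed_CW_card : Nat.card {c : Finset GolayPt // c ∈ CW ∧ ∀ i, (r7 i ∈ c ↔ i ∈ c)} ≤ 8 := by
  classical
  refine le_trans ?_ fixed_CW_count
  set S := (Finset.range 64).filter fun m => inCode
    (orBits ((List.range 24).filter fun k => m.testBit (([0, 4, 8, 1, 6, 11] : List ℕ).idxOf (rep7 k)))) = true
  let enc : Finset GolayPt → ℕ := fun c =>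
    orBits ((List.range 6).filter fun l => decide (pt (([0, 4, 8, 1, 6, 11] : List ℕ).getD l 0) ∈ c))
  have hbit : ∀ (c : Finset GolayPt) (l : ℕ), (enc c).testBit l = true ↔
      l < 6 ∧ pt (([0, 4, 8, 1, 6, 11] : List ℕ).getD l 0) ∈ c := by
    intro c l
    simp [enc, testBit_orBits]
  have hrep : ∀ c : Finset GolayPt, (∀ i, r7 i ∈ c ↔ i ∈ c) → ∀ k < 24,
      ((enc c).testBit (([0, 4, 8, 1, 6, 11] : List ℕ).idxOf (rep7 k)) = true ↔ pt k ∈ c) := by
    intro c hc k hk
    obtain ⟨h1, h2⟩ := six_mask k hk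
    rw [hbit, and_iff_right h2, h1]
    have h := fixed_rep (f := fun i => if i ∈ c then 1 else 0) (fun i => if_congr (hc i) rfl rfl) hk
    by_cases a : pt k ∈ c <;> by_cases b : pt (rep7 k) ∈ c <;> simp [a, b] at h ⊢
  refine le_trans (Nat.card_le_card_of_injective (β := ↥S) (fun c => ⟨enc c.1, ?_⟩) ?_) (le_of_eq (Nat.card_eq_finsetCard S))
  · obtain ⟨c, hcw, hc⟩ := c
    refine Finset.mem_filter.mpr ⟨Finset.mem_range.mpr (show enc c < 2 ^ 6 from Nat.lt_pow_two_of_testBit _ fun i hi => ?_), ?_⟩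
    · by_contra hb
      rw [Bool.not_eq_false] at hb
      have := ((hbit c i).mp hb).1
      omega
    · have hmask : orBits ((List.range 24).filter fun k =>
          (enc c).testBit (([0, 4, 8, 1, 6, 11] : List ℕ).idxOf (rep7 k))) = toMask c := by
        rw [toMask]
        refine congrArg orBits (List.filter_congr fun k hk => Bool.eq_iff_iff.mpr ?_)
        rw [hrep c hc k (List.mem_range.mp hk), decide_eq_true_eq]
      obtain ⟨w, hw, rfl⟩ := hcw
      rw [hmask]
      exact inCode_of_mem hw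
  · rintro ⟨c, hcw, hc⟩ ⟨c', hcw', hc'⟩ he
    have he' : enc c = enc c' := congrArg Subtype.val he
    refine Subtype.ext (Finset.ext fun i => ?_)
    rw [← pt_idx i, ← hrep c hc _ (idx_lt i), ← hrep c' hc' _ (idx_lt i), he']

theorem stab_data (τ : ↥M24) (r : Equiv.Perm GolayPt) (hτ : τ.1 = r) (g : ↥Co0)
    (hg : g * permHom τ = permHom τ * g) (hk : KeepsCross g) :
    ∃ t : ↥(centM r) × {c : Finset GolayPt // c ∈ CW ∧ ∀ i, (r i ∈ c ↔ i ∈ c)}, ∀ j, g • ax j =
      if t.1.1 j ∈ t.2.1 then -ax (t.1.1 j) else ax (t.1.1 j) := by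
  classical
  subst hτ
  obtain ⟨σ, c, hσ, hc, rfl⟩ := keepsCross_monomial hk
  obtain ⟨h1, h2⟩ := mono_rel σ hσ c hc τ τ hg
  exact ⟨⟨⟨σ, mem_centM.mpr ⟨hσ, h1⟩⟩, ⟨c, hc, fun i => by
    obtain ⟨j, rfl⟩ := σ.surjective i; exact h2 j⟩⟩, fun j => mono_ax hσ hc j⟩

theorem CC_stab_card : Nat.card ↥(CC ⊓ crossStab) ≤ 336 := by
  classical
  obtain ⟨τ, hτ, hp⟩ := p7_eq
  let T := ↥(centM r7) × {c : Finset GolayPt // c ∈ CW ∧ ∀ i, (r7 i ∈ c ↔ i ∈ c)}
  have hex : ∀ g : ↥(CC ⊓ crossStab), ∃ t : T, ∀ j, (g : ↥Co0) • ax j =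
      if t.1.1 j ∈ t.2.1 then -ax (t.1.1 j) else ax (t.1.1 j) := by
    intro g
    refine stab_data τ r7 hτ g ?_ (Subgroup.mem_inf.mp g.2).2
    rw [← hp]
    exact mem_CC.mp (Subgroup.mem_inf.mp g.2).1
  choose t ht using hex
  calc Nat.card ↥(CC ⊓ crossStab) ≤ Nat.card T := Nat.card_le_card_of_injective t fun a b hab =>
        Subtype.ext (ext_ax fun j => by rw [ht a, ht b, hab])
    _ ≤ 42 * 8 := by
        rw [Nat.card_prod, card_cent_7]; exact Nat.mul_le_mul_left _ fixed_CW_card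
    _ = 336 := rfl

theorem CC_card : Nat.card ↥CC ≤ 2352 := by
  haveI := co0_finite
  have hex : ∀ g : ↥CC, ∃ k : Fin 7, (gC ^ (k : ℕ))⁻¹ * (g : ↥Co0) ∈ CC ⊓ crossStab := by
    rintro ⟨g, hg⟩
    obtain ⟨k, hk, hcg⟩ := CC_aV hg
    refine ⟨⟨k, hk⟩, CC.mul_mem (CC.inv_mem (CC.pow_mem gC_mem k)) hg, ?_⟩
    rw [← modStab_ax, ← aV_zero]
    show Cg (((gC ^ k)⁻¹ * g) • aV 0) (aV 0)
    have := Cg.map' (gC ^ k)⁻¹ hcg
    rwa [← mul_smul, ← gC_pow_aV hk, inv_smul_smul] at this
  choose k hk using hex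
  calc Nat.card ↥CC ≤ Nat.card (Fin 7 × ↥(CC ⊓ crossStab)) :=
        Nat.card_le_card_of_injective (fun g => (k g, ⟨_, hk g⟩)) fun a b hab => by
          simp only [Prod.mk.injEq, Subtype.mk.injEq] at hab
          rw [hab.1] at hab
          exact Subtype.ext (mul_left_cancel hab.2)
    _ ≤ 7 * 336 := by
        rw [Nat.card_prod, Nat.card_fin]; exact Nat.mul_le_mul_left _ CC_stab_card
    _ = 2352 := rfl

/-! ### The representation -/

/-- The coordinates on the first plane. -/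
def cf (i : Fin 3) (x : ↥leechLattice) : ZMod 2 := ip x (sub (dualM.getD i.val 0))

theorem cf_add (i : Fin 3) (x y : ↥leechLattice) : cf i (x + y) = cf i x + cf i y := ip_add x y _

theorem cf_cg {x y : ↥leechLattice} (h : Cg x y) (i : Fin 3) : cf i x = cf i y := ip_cg h _

theorem cf_sub_checked : ∀ i : Fin 3, ∀ m < 8, (dotInt (subF m) (subF (dualM.getD i.val 0)) / 8) % 2 =
    if m.testBit i.val then 1 else 0 := by decide +kernel

theorem cf_sub (i : Fin 3) {m : ℕ} (hm : m < 8) : cf i (sub m) = if m.testBit i.val then 1 else 0 := by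
  rw [cf, ip, sub_coe, sub_coe, ← ZMod.intCast_mod _ 2, show ((2 : ℕ) : ℤ) = 2 from rfl, cf_sub_checked i m hm]
  split <;> simp

theorem abM_first : ∀ k < 7, abM.getD k 0 < 8 := by decide +kernel

/-- The classes of the first plane. -/
theorem plane_mem {g : ↥Co0} (hg : g ∈ CC) {k : ℕ} (hk : k < 7) : ∃ m < 8, Cg (g • aV k) (sub m) := by
  obtain ⟨j, hj, hcg⟩ := CC_aV (CC.mul_mem hg (CC.pow_mem gC_mem k))
  rw [mul_smul, gC_pow_aV hk] at hcg
  exact ⟨_, abM_first j hj, hcg.trans' (ab_facts (by omega)).2.1⟩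

/-- The basis vectors of the first plane. -/
theorem ev_aV {j : ℕ} (hj : j < 3) : ev' j = aV j := by
  interval_cases j <;> rfl

theorem cf_act (g : ↥Co0) (i : Fin 3) {m : ℕ} (hm : m < 8) :
    cf i (g • sub m) = ∑ l : Fin 3, (if m.testBit l.val then (1 : ZMod 2) else 0) * cf i (g • aV l.val) := by
  have h0 : cf i (g • (0 : ↥leechLattice)) = 0 := by
    rw [show g • (0 : ↥leechLattice) = 0 from map_zero (autHom g)]; exact ip_zero _
  have hadd : ∀ x y : ↥leechLattice, cf i (g • (x + y)) = cf i (g • x) + cf i (g • y) := fun x y => by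
    rw [aut_add, cf_add]
  interval_cases m <;>
    simp [sub, List.range_succ, Fin.sum_univ_three, Nat.testBit, Nat.shiftRight_eq_div_pow, hadd, h0, ev_aV, add_assoc]

/-- The matrix of an element. -/
def rhoM (g : ↥Co0) : Matrix (Fin 3) (Fin 3) (ZMod 2) := fun i j => cf i (g • aV j.val)

theorem rhoM_one : rhoM 1 = 1 := by
  ext i j
  rw [rhoM, one_smul, cf_cg (ab_facts (by omega)).2.1 i, cf_sub i (abM_first _ (by omega))]
  fin_cases i <;> fin_cases j <;> decide

theorem rhoM_mul {g h : ↥Co0} (hh : h ∈ CC) : rhoM (g * h) = rhoM g * rhoM h := by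
  ext i j
  obtain ⟨m, hm, hcg⟩ := plane_mem hh (show j.val < 7 by omega)
  rw [Matrix.mul_apply, rhoM, mul_smul, cf_cg (Cg.map' g hcg), cf_act g i hm]
  refine Finset.sum_congr rfl fun l _ => ?_
  rw [rhoM, rhoM, cf_cg hcg, cf_sub l hm, mul_comm]

/-- The representation. -/
noncomputable def rho : ↥CC →* GL (Fin 3) (ZMod 2) :=
  MonoidHom.toHomUnits
    { toFun := fun g => rhoM g
      map_one' := rhoM_one
      map_mul' := fun g h => rhoM_mul h.2 }

theorem rho_val (g : ↥CC) : ((rho g : GL (Fin 3) (ZMod 2)) : Matrix (Fin 3) (Fin 3) (ZMod 2)) = rhoM g := rfl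

/-- The entry of a coded matrix. -/
def matN (n : ℕ) : Matrix (Fin 3) (Fin 3) (ZMod 2) := fun i j => if n.testBit (3 * i.val + j.val) then 1 else 0

/-- The code of a product. -/
def mulN (a b : ℕ) : ℕ :=
  ((List.range 9).map fun t => if ((List.range 3).countP fun l =>
    a.testBit (3 * (t / 3) + l) && b.testBit (3 * l + t % 3)) % 2 = 1 then 2 ^ t else 0).sum

/-- The codes of the matrices of the two generators. -/
def genN (b : Bool) : ℕ := cond b 305 172

/-- The codes of the matrices reached. -/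
def matsN : List ℕ := bfs.foldl (fun acc p => acc ++ [mulN (acc.getD p.1 0) (genN p.2)]) [273]

/-- The test for the matrix of a word. -/
noncomputable def rhoB (w : List Step) (n : ℕ) : Bool :=
  (List.range 3).all fun j => runB w (abL.getD j 0) fun d => (List.range 3).all fun i =>
    decide ((dotInt (vecN d) (subF (dualM.getD i 0)) / 8) % 2 = if n.testBit (3 * i + j) then 1 else 0)

theorem rho_checked : rhoB gCw 172 = true ∧ rhoB gEW 305 = true := by decide +kernel

theorem rhoB_sound {w : List Step} (hw : wordOK w = true) {n : ℕ} (h : rhoB w n = true) : rhoM (el w) = matN n := by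
  ext i j
  obtain ⟨d, hd, hk⟩ := runB_sound _ _ _ (List.all_eq_true.mp h j.val (List.mem_range.mpr j.isLt))
  have hi := List.all_eq_true.mp hk i.val (List.mem_range.mpr i.isLt)
  rw [decide_eq_true_eq] at hi
  rw [rhoM, cf, ip, el_apply hw, (ab_facts (show j.val < 14 by omega)).1, hd, sub_coe, ← ZMod.intCast_mod _ 2,
    show ((2 : ℕ) : ℤ) = 2 from rfl, hi, matN]
  split <;> simp

theorem mats_checked : matsN.length = 168 ∧ matsN.Nodup ∧ (∀ x ∈ matsN, x < 512) ∧
    (∀ t < 167, (bfs.getD t (0, false)).1 < t + 1 ∧ matN (matsN.getD (t + 1) 0) =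
      matN (matsN.getD (bfs.getD t (0, false)).1 0) * matN (genN (bfs.getD t (0, false)).2)) ∧
    matN (matsN.getD 0 0) = 1 := by decide +kernel

theorem matN_inj : ∀ m < 512,
    ((List.range 9).map fun t => if matN m ⟨t / 3 % 3, Nat.mod_lt _ (by norm_num)⟩ ⟨t % 3, Nat.mod_lt _ (by norm_num)⟩ = 1 then 2 ^ t else 0).sum = m := by
  decide +kernel

theorem mats_reached : ∀ t < 168, ∃ g : ↥CC, rhoM g = matN (matsN.getD t 0) := by
  intro t
  induction t using Nat.strong_induction_on with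
  | _ t ih =>
    intro ht
    rcases t with _ | t
    · exact ⟨1, by rw [mats_checked.2.2.2.2]; exact rhoM_one⟩
    obtain ⟨hp, he⟩ := mats_checked.2.2.2.1 t (by omega)
    obtain ⟨g, hg⟩ := ih _ hp (by omega)
    rw [he]
    cases (bfs.getD t (0, false)).2
    · exact ⟨g * ⟨gC, gC_mem⟩, by
        rw [Subgroup.coe_mul, rhoM_mul gC_mem, hg, gC, rhoB_sound words_ok.1 rho_checked.1]; rfl⟩
    · exact ⟨g * ⟨gE, gE_mem⟩, by
        rw [Subgroup.coe_mul, rhoM_mul gE_mem, hg, gE, rhoB_sound words_ok.2.2.2.2.2.2 rho_checked.2]; rfl⟩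

theorem rho_surjective : Function.Surjective rho := by
  classical
  choose g hg using fun t : Fin 168 => mats_reached t.val t.isLt
  have hinj : Function.Injective fun t : Fin 168 => rho (g t) := by
    intro a b hab
    have h := congrArg (fun u : GL (Fin 3) (ZMod 2) => (u : Matrix (Fin 3) (Fin 3) (ZMod 2))) hab
    simp only [rho_val, hg] at h
    obtain ⟨hl, hnd, hlt, -, -⟩ := mats_checked
    have hmem : ∀ c : Fin 168, matsN.getD c.val 0 ∈ matsN := fun c => by
      rw [List.getD_eq_getElem _ _ (by rw [hl]; exact c.isLt)]; exact List.getElem_mem _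
    have hn : matsN.getD a.val 0 = matsN.getD b.val 0 := by
      rw [← matN_inj _ (hlt _ (hmem a)), ← matN_inj _ (hlt _ (hmem b)), h]
    rw [List.getD_eq_getElem _ _ (by rw [hl]; exact a.isLt), List.getD_eq_getElem _ _ (by rw [hl]; exact b.isLt),
      hnd.getElem_inj_iff] at hn
    exact Fin.ext hn
  have hb := (Nat.bijective_iff_injective_and_card _).mpr ⟨hinj,
    by rw [Nat.card_fin, CfsgLib.Order168.gl32.2]⟩
  intro u
  obtain ⟨t, rfl⟩ := hb.2 u
  exact ⟨g t, rfl⟩

theorem kills {g : ↥Co0} (h : ∀ j < 3, Cg (g • aV j) (aV j)) : rhoM g = 1 := by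
  rw [← rhoM_one]
  ext i j
  rw [rhoM, rhoM, one_smul, cf_cg (h j.val j.isLt)]

theorem p7_fix {x : ↥leechLattice} (h : x ∈ P) : Cg (p7 • x) x := by
  obtain ⟨m, hm, hcg⟩ := h
  refine ((Cg.map' p7 hcg).trans' ?_).trans' hcg.symm'
  have hadd : ∀ {a b : ↥leechLattice}, Cg (p7 • a) a → Cg (p7 • b) b → Cg (p7 • (a + b)) (a + b) :=
    fun {a b} ha hb => by rw [aut_add]; exact Cg_add ha hb
  have hev : ∀ j < 6, Cg (p7 • ev' j) (ev' j) := by
    intro j hj
    have hpow : ∀ k < 7, Cg (p7 • aV k) (aV k) := by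
      intro k hk
      rw [← gC_pow_aV hk, ← mul_smul, ← ((show Commute gC p7 from gC_comm).pow_left k).eq, mul_smul]
      exact Cg.map' _ (by rw [aV_zero]; exact p7_ax)
    by_cases h3 : j < 3
    · rw [ev_aV h3]; exact hpow j (by omega)
    · obtain ⟨i, rfl⟩ : ∃ i, j = 3 + i := ⟨j - 3, by omega⟩
      have he : ev' (3 + i) = bV i := by
        have : i < 3 := by omega
        interval_cases i <;> rfl
      have hip : uI * p7⁻¹ = p7 * uI := by
        calc uI * p7⁻¹ = p7 * (p7⁻¹ * uI) * p7⁻¹ := by group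
          _ = _ := by rw [← uI_inv]; group
      rw [he, ← uI_aV (by omega), ← mul_smul, ← hip, mul_smul]
      refine Cg.map' uI ?_
      have := Cg.map' p7⁻¹ (hpow i (by omega))
      rw [inv_smul_smul] at this
      exact this.symm'
  have h0 : Cg (p7 • (0 : ↥leechLattice)) 0 := by
    rw [show p7 • (0 : ↥leechLattice) = 0 from map_zero (autHom p7)]; exact Cg.refl' 0
  have hL : ∀ L : List ℕ, (∀ j ∈ L, j < 6) →
      Cg (p7 • (L.map fun j => cond (m.testBit j) (ev' j) 0).sum) (L.map fun j => cond (m.testBit j) (ev' j) 0).sum := by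
    intro L
    induction L with
    | nil => intro _; exact h0
    | cons a L ih =>
      intro hlt
      rw [List.map_cons, List.sum_cons]
      refine hadd ?_ (ih fun j hj => hlt j (List.mem_cons_of_mem _ hj))
      cases m.testBit a
      · exact h0
      · exact hev a (hlt a List.mem_cons_self)
  exact hL _ fun j hj => List.mem_range.mp hj

/-- The centraliser permutes the fixed classes. -/
theorem CC_P {g : ↥Co0} (hg : g ∈ CC) {x : ↥leechLattice} (hx : x ∈ P) : g • x ∈ P := by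
  refine class_mem ?_
  rw [← mul_smul, ← mem_CC.mp hg, mul_smul]
  exact Cg.map' g (p7_fix hx)

theorem ker_rho : rho.ker = (Subgroup.zpowers p7 ⊔ Subgroup.center ↥Co0).subgroupOf CC ∧ Nat.card ↥CC = 2352 := by
  classical
  haveI := co0_finite
  set K := (Subgroup.zpowers p7 ⊔ Subgroup.center ↥Co0).subgroupOf CC
  have hKC : Subgroup.zpowers p7 ⊔ Subgroup.center ↥Co0 ≤ CC :=
    sup_le (Subgroup.zpowers_le.mpr p7_mem) fun g hg => mem_CC.mpr (Subgroup.mem_center_iff.mp hg p7).symm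
  have hle : K ≤ rho.ker := by
    show (Subgroup.zpowers p7 ⊔ Subgroup.center ↥Co0).subgroupOf CC ≤ rho.ker
    rw [Subgroup.subgroupOf_sup (Subgroup.zpowers_le.mpr p7_mem) fun g hg => mem_CC.mpr (Subgroup.mem_center_iff.mp hg p7).symm,
      sup_le_iff]
    have hone : ∀ {g : ↥CC}, rhoM g = 1 → g ∈ rho.ker := fun {g} h => MonoidHom.mem_ker.mpr (Units.ext h)
    constructor
    · intro g hg
      obtain ⟨n, hn⟩ := Subgroup.mem_zpowers_iff.mp hg
      have hp : (⟨p7, p7_mem⟩ : ↥CC) ∈ rho.ker := hone (kills fun j hj => p7_fix ⟨_, (ab_facts (by omega)).2.2.2,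
        (ab_facts (k := j) (by omega)).2.1⟩)
      have : g = (⟨p7, p7_mem⟩ : ↥CC) ^ n := Subtype.ext (by rw [SubgroupClass.coe_zpow]; exact hn.symm)
      rw [this]; exact zpow_mem hp n
    · intro g hg
      exact hone (kills fun j _ => center_le_modStab _ hg)
  have h14 : 14 ≤ Nat.card ↥K := by
    rw [Nat.card_congr (Subgroup.subgroupOfEquivOfLe hKC).toEquiv]
    have h7 : 7 ∣ Nat.card ↥(Subgroup.zpowers p7 ⊔ Subgroup.center ↥Co0) := by
      have := Subgroup.card_dvd_of_le (le_sup_left : Subgroup.zpowers p7 ≤ Subgroup.zpowers p7 ⊔ Subgroup.center ↥Co0)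
      rwa [Nat.card_zpowers, order_p7] at this
    have h2 : 2 ∣ Nat.card ↥(Subgroup.zpowers p7 ⊔ Subgroup.center ↥Co0) := by
      have := Subgroup.card_dvd_of_le (le_sup_right : Subgroup.center ↥Co0 ≤ Subgroup.zpowers p7 ⊔ Subgroup.center ↥Co0)
      rwa [center_card] at this
    exact Nat.le_of_dvd Nat.card_pos (Nat.Coprime.mul_dvd_of_dvd_of_dvd (show Nat.Coprime 2 7 by norm_num) h2 h7)
  have hidx := rho.ker.card_mul_index
  rw [Subgroup.index_ker, MonoidHom.range_eq_top.mpr rho_surjective, Subgroup.card_top,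
    CfsgLib.Order168.gl32.2] at hidx
  have h1 := Subgroup.card_le_of_le hle
  have h2 := CC_card
  exact ⟨(Subgroup.eq_of_le_of_card_ge hle (by omega)).symm, by omega⟩

/-- An element of the centraliser fixing the first plane is a power of the permutation up to sign. -/
theorem CC_fix_small {g : ↥Co0} (hg : g ∈ CC) (h : ∀ j < 3, Cg (g • aV j) (aV j)) :
    g ∈ Subgroup.zpowers p7 ⊔ Subgroup.center ↥Co0 := by
  have hk : (⟨g, hg⟩ : ↥CC) ∈ rho.ker := MonoidHom.mem_ker.mpr (Units.ext (kills h))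
  rwa [ker_rho.1] at hk

end CfsgLib.MonsterQ.Seven
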