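/-
Groups of Monster type: an element of order seven centralising `z` and a conjugate of `z` in `Q`, its fixed
points on `Q` and the automorphisms it receives from the centraliser of `z`.
-/
import Cfsg.Agent.Lib.MonsterQ.Main
import Cfsg.Agent.Lib.MonsterQ.Seven.Linear

set_option autoImplicit false
set_option maxRecDepth 100000
set_option linter.style.haveILetI false
set_option linter.unusedSectionVars false

namespace CfsgLib.MonsterQ.Seven

open Cfsg CfsgGolay CfsgLeech CfsgLib.ExtraTwo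
open scoped Pointwise commutatorElement

attribute [local irreducible] codeL octadL dodecadL slpCodes r7

theorem fact_seven {n m : ℕ} (h : n = 7 * m) (hm : ¬ 7 ∣ m) : n.factorization 7 = 1 := by
  subst h
  have hm0 : m ≠ 0 := fun e => hm (e ▸ dvd_zero 7)
  rw [Nat.factorization_mul (by norm_num) hm0, Finsupp.add_apply, Nat.factorization_eq_zero_of_not_dvd hm,
    Nat.Prime.factorization_self (by norm_num)]

/-- Subgroups of order seven are conjugate when seven divides the order once. -/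
theorem seven_conj {Γ : Type*} [Group Γ] [Finite Γ] (H A B : Subgroup Γ) (hA : A ≤ H) (hB : B ≤ H)
    (cA : Nat.card ↥A = 7) (cB : Nat.card ↥B = 7) (hH : (Nat.card ↥H).factorization 7 = 1) :
    ∃ h ∈ H, ∀ x ∈ A, h * x * h⁻¹ ∈ B := by
  haveI : Fact (Nat.Prime 7) := ⟨by norm_num⟩
  have ca : Nat.card ↥(A.subgroupOf H) = 7 ^ (Nat.card ↥H).factorization 7 := by
    rw [Nat.card_congr (Subgroup.subgroupOfEquivOfLe hA).toEquiv, cA, hH, pow_one]
  have cb : Nat.card ↥(B.subgroupOf H) = 7 ^ (Nat.card ↥H).factorization 7 := by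
    rw [Nat.card_congr (Subgroup.subgroupOfEquivOfLe hB).toEquiv, cB, hH, pow_one]
  obtain ⟨h, hh⟩ := MulAction.exists_smul_eq ↥H (Sylow.ofCard (A.subgroupOf H) ca) (Sylow.ofCard (B.subgroupOf H) cb)
  refine ⟨h, h.2, fun x hx => ?_⟩
  have hm : h * ⟨x, hA hx⟩ * h⁻¹ ∈ (h • Sylow.ofCard (A.subgroupOf H) ca : Sylow 7 ↥H) :=
    ⟨⟨x, hA hx⟩, hx, rfl⟩
  rw [hh] at hm
  exact hm

theorem zpowers_eq_of_seven {Γ : Type*} [Group Γ] [Finite Γ] (H : Subgroup Γ) (cH : Nat.card ↥H = 7) {x : Γ}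
    (hx : x ∈ H) (h1 : x ≠ 1) : Subgroup.zpowers x = H := by
  haveI : Fact (Nat.Prime 7) := ⟨by norm_num⟩
  refine Subgroup.eq_of_le_of_card_ge (Subgroup.zpowers_le.mpr hx) ?_
  have hd : Nat.card ↥(Subgroup.zpowers x) ∣ 7 := cH ▸ Subgroup.card_dvd_of_le (Subgroup.zpowers_le.mpr hx)
  rcases (Nat.dvd_prime (by norm_num)).mp hd with h | h
  · exact absurd (by rwa [Nat.card_zpowers, orderOf_eq_one_iff] at h) h1
  · rw [h, cH]

theorem mem_pow {Γ : Type*} [Group Γ] [Finite Γ] {x y : Γ} (hx : x ^ 7 = 1) (hy : y ∈ Subgroup.zpowers x) :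
    ∃ i < 7, y = x ^ i := by
  rw [← (isOfFinOrder_of_finite x).mem_powers_iff_mem_zpowers, Submonoid.mem_powers_iff] at hy
  obtain ⟨n, rfl⟩ := hy
  refine ⟨n % 7, Nat.mod_lt _ (by norm_num), ?_⟩
  conv_lhs => rw [← Nat.div_add_mod n 7, pow_add, pow_mul, hx, one_pow, one_mul]

theorem pow_conj_eq {Γ : Type*} [Group Γ] {x b : Γ} {j : ℕ} (h : x * b * x⁻¹ = b ^ j) (i : ℕ) :
    x * b ^ i * x⁻¹ = b ^ (j * i) := by rw [← conj_pow, h, pow_mul]

variable {G : Type*} [Group G] [Finite G] {z : G} {Q : Subgroup (Subgroup.centralizer ({z} : Set G))} [Q.Normal]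

instance co1_fin : Finite Spor.Co1 :=
  haveI := co0_finite
  Finite.of_surjective _ QuotientGroup.mk_surjective

/-! ### Changing coordinates -/

/-- The data seen through a lattice automorphism. -/
noncomputable def twist (D : Data z Q) (g₀ : ↥Co0) : Data z Q where
  set' := D.set'
  e := D.e.trans (MulAut.conj (QuotientGroup.mk g₀⁻¹ : Spor.Co1))
  ψ := fun v => D.ψ (g₀ • v)
  iso := by
    refine ⟨fun v w => by beta_reduce; rw [aut_add, D.psi_add], fun x => ?_, fun v => ?_, fun h g hg v q hq => ?_⟩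
    · obtain ⟨v, hv⟩ := D.iso.2.1 x
      exact ⟨g₀⁻¹ • v, by beta_reduce; rw [smul_inv_smul]; exact hv⟩
    · rw [D.iso.2.2.1]
      constructor
      · rintro ⟨w, hw⟩
        exact ⟨g₀⁻¹ • w, by rw [← aut_add, ← hw, inv_smul_smul]⟩
      · rintro ⟨w, hw⟩
        exact ⟨g₀ • w, by rw [hw, aut_add]⟩
    · have hk : (QuotientGroup.mk (g₀ * g * g₀⁻¹) : Spor.Co1) = D.e (QuotientGroup.mk h) := by
        rw [QuotientGroup.mk_mul, QuotientGroup.mk_mul, hg]
        show _ * (MulAut.conj (QuotientGroup.mk g₀⁻¹ : Spor.Co1) (D.e (QuotientGroup.mk h))) * _ = _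
        rw [MulAut.conj_apply, QuotientGroup.mk_inv]
        group
      have := D.iso.2.2.2 h _ hk (g₀ • v) q hq
      rwa [← mul_smul, inv_mul_cancel_right, mul_smul] at this

theorem twist_psi (D : Data z Q) (g₀ : ↥Co0) (v : ↥leechLattice) : (twist D g₀).ψ v = D.ψ (g₀ • v) := rfl

theorem twist_e (D : Data z Q) (g₀ : ↥Co0) (y : Cz z ⧸ Q) :
    (twist D g₀).e y = (QuotientGroup.mk g₀ : Spor.Co1)⁻¹ * D.e y * QuotientGroup.mk g₀ := by
  show MulAut.conj (QuotientGroup.mk g₀⁻¹ : Spor.Co1) (D.e y) = _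
  rw [MulAut.conj_apply, QuotientGroup.mk_inv, inv_inv]

/-- The element of order seven and the conjugate it centralises, in standard coordinates. -/
structure Sev (D : Data z Q) where
  a : Q
  β : Cz z
  pow7 : β ^ 7 = 1
  eβ : D.e (QuotientGroup.mk β) = QuotientGroup.mk p7
  comm : β * (a : Cz z) = (a : Cz z) * β
  vec : D.ψ (ax none) = QuotientGroup.mk a

theorem ax_norm : sqNorm (ax none : GolayPt → ℤ) = 64 :=
  (eightSet_props (mem_eightSet.mpr ⟨none, 8, Or.inl rfl, rfl⟩)).2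

theorem mk_p7_order : orderOf (QuotientGroup.mk p7 : Spor.Co1) = 7 := by
  haveI : Fact (Nat.Prime 7) := ⟨by norm_num⟩
  refine orderOf_eq_prime (by rw [← QuotientGroup.mk_pow, p7_pow_seven]; rfl) fun h => ?_
  rcases center_eq ((QuotientGroup.eq_one_iff _).mp h) with e | e
  · exact p7_ne e
  · have h2 : p7 ^ 2 = 1 := by
      rw [e, pow_two]
      exact aut_ext fun v => by rw [mul_smul, negAut_apply, negAut_apply, neg_neg, one_smul]
    have := orderOf_dvd_of_pow_eq_one h2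
    rw [order_p7] at this
    norm_num at this

theorem exists_sev (hM : IsOfMonsterType z Q) {s : G}
    (hsQ : ∃ hsc : s ∈ Cz z, (⟨s, hsc⟩ : Cz z) ∈ Q) (hs : IsConj z s) (hs1 : s ≠ z) {B : Subgroup G}
    (hB : B ≤ Subgroup.centralizer ({z, s} : Set G))
    (hBp : Nat.card B = 7 ^ (Nat.card ↥(Subgroup.centralizer ({z, s} : Set G))).factorization 7) :
    ∃ (D : Data z Q) (S : Sev D), ((S.a : Cz z) : G) = s ∧ B = Subgroup.zpowers ((S.β : Cz z) : G) := by
  obtain ⟨D⟩ := exists_data hM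
  obtain ⟨a, rfl⟩ := exists_elt hsQ
  obtain ⟨v, hn, hv⟩ := D.norm_of_conj hs hs1
  obtain ⟨g₀, hg₀⟩ := shell_transitive (fun _ h h' => eqv64 h h') (ax none) v ax_norm hn
  set D₁ := twist D g₀
  have hv₁ : D₁.ψ (ax none) = QuotientGroup.mk a := by rw [twist_psi, hg₀]; exact hv
  have hnc : a ∉ Subgroup.center ↥Q :=
    D₁.not_center hv₁ (Data.ne_zero_of_norm ax_norm (by norm_num)) (by rw [ax_norm])
  have hmap : (Subgroup.centralizer ({(a : Cz z)} : Set (Cz z))).map (Cz z).subtype =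
      Subgroup.centralizer ({z, ((a : Cz z) : G)} : Set G) := by
    ext x
    constructor
    · rintro ⟨y, hy, rfl⟩
      rw [Subgroup.mem_centralizer_iff]
      rintro w (rfl | rfl)
      · exact (Subgroup.mem_centralizer_singleton_iff.mp y.2).symm
      · exact (congrArg Subtype.val (Subgroup.mem_centralizer_singleton_iff.mp hy)).symm
    · intro hx
      rw [Subgroup.mem_centralizer_iff] at hx
      refine ⟨⟨x, Subgroup.mem_centralizer_singleton_iff.mpr (hx z (Or.inl rfl)).symm⟩, ?_, rfl⟩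
      exact Subgroup.mem_centralizer_singleton_iff.mpr (Subtype.ext (hx _ (Or.inr rfl)).symm)
  have hcard := D₁.card_centralizer hv₁ hnc
  rw [modImg_ax_card] at hcard
  have hf : (Nat.card ↥(Subgroup.centralizer ({z, ((a : Cz z) : G)} : Set G))).factorization 7 = 1 := by
    rw [← hmap, Subgroup.card_map_of_injective (Cz z).subtype_injective, hcard]
    exact fact_seven (m := 2 ^ 35 * 34974720) (by norm_num) (by norm_num)
  rw [hf, pow_one] at hBp
  obtain ⟨⟨b, hb⟩, hb1⟩ : ∃ b : ↥B, b ≠ 1 := by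
    by_contra h
    push Not at h
    have : Nat.card ↥B ≤ 1 := Finite.card_le_one_iff_subsingleton.mpr ⟨fun x y => (h x).trans (h y).symm⟩
    omega
  have hbne : b ≠ 1 := fun e => hb1 (Subtype.ext e)
  have hb' : b ∈ (Subgroup.centralizer ({(a : Cz z)} : Set (Cz z))).map (Cz z).subtype := by rw [hmap]; exact hB hb
  obtain ⟨β₀, hβc, rfl⟩ := hb'
  have hB7 : ((β₀ : Cz z) : G) ^ 7 = 1 := by
    have := pow_card_eq_one' (x := (⟨_, hb⟩ : ↥B))
    rw [hBp] at this
    exact congrArg Subtype.val this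
  have h7 : β₀ ^ 7 = 1 := Subtype.ext hB7
  set y : Spor.Co1 := D₁.e (QuotientGroup.mk β₀) with hy
  have hy7 : y ^ 7 = 1 := by rw [hy, ← map_pow, ← QuotientGroup.mk_pow, h7]; exact map_one D₁.e
  have hy1 : y ≠ 1 := fun h => by
    have hmem : β₀ ∈ Q := (QuotientGroup.eq_one_iff _).mp ((map_eq_one_iff D₁.e D₁.e.injective).mp h)
    have h2 : orderOf β₀ ∣ 2 ^ 25 := by
      have := orderOf_dvd_natCard (⟨β₀, hmem⟩ : Q)
      rw [D₁.card_Q, Subgroup.orderOf_mk] at this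
      exact this
    have h17 : orderOf β₀ ∣ 7 := orderOf_dvd_of_pow_eq_one h7
    have : orderOf β₀ ∣ 1 := by
      have hg := Nat.dvd_gcd h2 h17
      norm_num at hg ⊢
      exact hg
    exact hbne (congrArg Subtype.val (orderOf_eq_one_iff.mp (Nat.dvd_one.mp this)))
  have hym : y ∈ modImg (ax none) := by
    have h := D₁.map_centralizer hv₁ hnc
    have hm : (QuotientGroup.mk β₀ : Cz z ⧸ Q) ∈ (modImg (ax none)).comap D₁.e.toMonoidHom := by
      rw [← h]; exact Subgroup.mem_map_of_mem _ hβc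
    exact hm
  haveI : Fact (Nat.Prime 7) := ⟨by norm_num⟩
  have cy : Nat.card ↥(Subgroup.zpowers y) = 7 := by rw [Nat.card_zpowers, orderOf_eq_prime hy7 hy1]
  have cp : Nat.card ↥(Subgroup.zpowers (QuotientGroup.mk p7 : Spor.Co1)) = 7 := by
    rw [Nat.card_zpowers, mk_p7_order]
  have hpm : (QuotientGroup.mk p7 : Spor.Co1) ∈ modImg (ax none) := mem_modImg.2 p7_ax
  obtain ⟨h, hh, hconj⟩ := seven_conj (modImg (ax none)) (Subgroup.zpowers y) (Subgroup.zpowers (QuotientGroup.mk p7))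
    (Subgroup.zpowers_le.mpr hym) (Subgroup.zpowers_le.mpr hpm) cy cp
    (by rw [modImg_ax_card]; exact fact_seven (m := 2 ^ 11 * 34974720) (by norm_num) (by norm_num))
  obtain ⟨m, rfl⟩ := QuotientGroup.mk_surjective h
  have hgen : Subgroup.zpowers ((QuotientGroup.mk m : Spor.Co1) * y * (QuotientGroup.mk m)⁻¹) =
      Subgroup.zpowers (QuotientGroup.mk p7) :=
    zpowers_eq_of_seven _ cp (hconj y (Subgroup.mem_zpowers y)) fun e => hy1 (by simpa using e)
  obtain ⟨i, hi, hie⟩ := mem_pow (x := (QuotientGroup.mk m : Spor.Co1) * y * (QuotientGroup.mk m)⁻¹)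
    (by rw [conj_pow, hy7, mul_one, mul_inv_cancel])
    (hgen.symm ▸ Subgroup.mem_zpowers (QuotientGroup.mk p7 : Spor.Co1))
  have hei : (twist D₁ m⁻¹).e (QuotientGroup.mk (β₀ ^ i)) = QuotientGroup.mk p7 := by
    rw [hie, conj_pow, twist_e, QuotientGroup.mk_inv, inv_inv, QuotientGroup.mk_pow, map_pow]
  refine ⟨twist D₁ m⁻¹, ⟨a, β₀ ^ i, by rw [← pow_mul, mul_comm, pow_mul, h7, one_pow], hei, ?_, ?_⟩, rfl, ?_⟩
  · exact (show Commute β₀ (a : Cz z) from Subgroup.mem_centralizer_singleton_iff.mp hβc).pow_left i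
  · rw [twist_psi, ← hv₁, D₁.psi_cg]
    exact (modStab (ax none)).inv_mem (show m ∈ modStab (ax none) from mem_modImg.1 hh)
  · refine (zpowers_eq_of_seven B hBp (x := ((β₀ ^ i : Cz z) : G)) ?_ fun e => ?_).symm
    · rw [SubgroupClass.coe_pow]; exact B.pow_mem hb i
    · have hone : β₀ ^ i = 1 := Subtype.ext e
      rw [hone, QuotientGroup.mk_one, map_one, eq_comm] at hei
      have h2 := mk_p7_order
      rw [hei, orderOf_one] at h2
      norm_num at h2

namespace Sev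

variable {D : Data z Q} (S : Sev D)

theorem order_β : orderOf S.β = 7 := by
  haveI : Fact (Nat.Prime 7) := ⟨by norm_num⟩
  refine orderOf_eq_prime S.pow7 fun h => ?_
  have he := S.eβ
  rw [h, QuotientGroup.mk_one, map_one, eq_comm] at he
  have h2 := mk_p7_order
  rw [he, orderOf_one] at h2
  norm_num at h2

theorem mk_pow_inj {i j : ℕ} (h : (QuotientGroup.mk (S.β ^ i) : Cz z ⧸ Q) = QuotientGroup.mk (S.β ^ j)) :
    S.β ^ i = S.β ^ j := by
  have h2 := congrArg D.e h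
  rw [QuotientGroup.mk_pow, QuotientGroup.mk_pow, map_pow, map_pow, S.eβ, pow_eq_pow_iff_modEq, mk_p7_order] at h2
  rw [pow_eq_pow_iff_modEq, S.order_β]
  exact h2

theorem q_cop (D : Data z Q) {q : Cz z} (hq : q ∈ Q) (h7 : q ^ 7 = 1) : q = 1 := by
  have h2 : orderOf q ∣ 2 ^ 25 := by
    have := orderOf_dvd_natCard (⟨q, hq⟩ : Q)
    rw [D.card_Q, Subgroup.orderOf_mk] at this
    exact this
  have hg := Nat.dvd_gcd h2 (orderOf_dvd_of_pow_eq_one h7)
  norm_num at hg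
  exact hg

/-- Elements of the centraliser of `z` whose images normalise the group of order seven. -/
theorem exists_lift {g : ↥Co0} {j : ℕ} (hg : g * p7 * g⁻¹ = p7 ^ j) :
    ∃ x : Cz z, D.e (QuotientGroup.mk x) = QuotientGroup.mk g ∧ x * S.β * x⁻¹ = S.β ^ j := by
  obtain ⟨y, hy⟩ := D.e.surjective (QuotientGroup.mk g)
  obtain ⟨x₀, rfl⟩ := QuotientGroup.mk_surjective y
  set K := Subgroup.zpowers S.β ⊔ Q
  have hmk : (QuotientGroup.mk (x₀ * S.β * x₀⁻¹) : Cz z ⧸ Q) = QuotientGroup.mk (S.β ^ j) := by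
    apply D.e.injective
    rw [QuotientGroup.mk_mul, QuotientGroup.mk_mul, QuotientGroup.mk_inv, map_mul, map_mul, map_inv, hy, S.eβ,
      QuotientGroup.mk_pow, map_pow, S.eβ, ← QuotientGroup.mk_inv, ← QuotientGroup.mk_mul, ← QuotientGroup.mk_mul, hg,
      QuotientGroup.mk_pow]
  have hym : x₀ * S.β * x₀⁻¹ ∈ K := by
    have h1 : (x₀ * S.β * x₀⁻¹)⁻¹ * S.β ^ j ∈ Q := QuotientGroup.eq.1 hmk
    have h2 := K.mul_mem (Subgroup.mem_sup_left (Subgroup.npow_mem_zpowers S.β j)) (K.inv_mem (Subgroup.mem_sup_right h1))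
    rwa [mul_inv_rev, inv_inv, mul_inv_cancel_left] at h2
  have hord : orderOf (x₀ * S.β * x₀⁻¹) = 7 := by
    rw [show x₀ * S.β * x₀⁻¹ = MulAut.conj x₀ S.β from rfl, MulEquiv.orderOf_eq, S.order_β]
  have hK : (Nat.card ↥K).factorization 7 = 1 := by
    have h := card_map_mk_mul Q K
    have e : K.map (QuotientGroup.mk' Q) = Subgroup.zpowers (QuotientGroup.mk' Q S.β) := by
      rw [Subgroup.map_sup, MonoidHom.map_zpowers, QuotientGroup.map_mk'_self, sup_bot_eq]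
    rw [e, inf_eq_right.mpr (le_sup_right : Q ≤ K), Nat.card_zpowers, D.card_Q,
      show orderOf (QuotientGroup.mk' Q S.β) = 7 by
        rw [← D.e.orderOf_eq]; show orderOf (D.e (QuotientGroup.mk S.β)) = 7
        rw [S.eβ, mk_p7_order]] at h
    rw [← h]
    exact fact_seven (m := 2 ^ 25) (by norm_num) (by norm_num)
  obtain ⟨k, hk, hkc⟩ := seven_conj K (Subgroup.zpowers (x₀ * S.β * x₀⁻¹)) (Subgroup.zpowers S.β)
    (Subgroup.zpowers_le.mpr hym) le_sup_left (by rw [Nat.card_zpowers, hord])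
    (by rw [Nat.card_zpowers, S.order_β]) hK
  rw [← SetLike.mem_coe, Subgroup.mul_normal, Set.mem_mul] at hk
  obtain ⟨b, hb, n, hn, rfl⟩ := hk
  obtain ⟨l, -, hl⟩ := mem_pow S.pow7 (hkc _ (Subgroup.mem_zpowers _))
  obtain ⟨i, -, rfl⟩ := mem_pow S.pow7 hb
  have hval : n * x₀ * S.β * (n * x₀)⁻¹ = S.β ^ l := by
    have hc : (S.β ^ i)⁻¹ * S.β ^ l * S.β ^ i = S.β ^ l := by
      rw [mul_assoc, (Commute.pow_pow_self S.β l i).eq, inv_mul_cancel_left]
    calc n * x₀ * S.β * (n * x₀)⁻¹ = (S.β ^ i)⁻¹ * (S.β ^ i * n * (x₀ * S.β * x₀⁻¹) * (S.β ^ i * n)⁻¹) * S.β ^ i := by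
          group
      _ = _ := by rw [hl, hc]
  have hnx : (QuotientGroup.mk (n * x₀) : Cz z ⧸ Q) = QuotientGroup.mk x₀ := by
    rw [QuotientGroup.mk_mul, (QuotientGroup.eq_one_iff n).mpr hn, one_mul]
  refine ⟨n * x₀, by rw [hnx, hy], hval.trans (S.mk_pow_inj ?_)⟩
  rw [← hval, ← hmk]
  simp only [QuotientGroup.mk_mul, QuotientGroup.mk_inv, (QuotientGroup.eq_one_iff n).mpr hn, one_mul]

theorem image_rel {x : Cz z} {g : ↥Co0} {j : ℕ} (hg : D.e (QuotientGroup.mk x) = QuotientGroup.mk g)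
    (hx : x * S.β * x⁻¹ = S.β ^ j) (hj : ¬ 7 ∣ j) : g * p7 * g⁻¹ = p7 ^ j := by
  haveI : Fact (Nat.Prime 7) := ⟨by norm_num⟩
  refine exact_rel ?_ ?_
  · rw [orderOf_pow' _ (by rintro rfl; exact hj (dvd_zero 7)), order_p7,
      Nat.Coprime.gcd_eq_one ((Nat.Prime.coprime_iff_not_dvd (by norm_num)).mpr hj), Nat.div_one]
  · have h := congrArg (fun t : Cz z => D.e (QuotientGroup.mk t)) hx
    simp only [QuotientGroup.mk_mul, QuotientGroup.mk_inv, QuotientGroup.mk_pow, map_mul, map_inv, map_pow, hg, S.eβ] at h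
    simpa only [QuotientGroup.mk_mul, QuotientGroup.mk_inv, QuotientGroup.mk_pow] using h

theorem image_comm {x : Cz z} {g : ↥Co0} (hg : D.e (QuotientGroup.mk x) = QuotientGroup.mk g)
    (hx : x * S.β = S.β * x) : g ∈ CC := by
  have h := S.image_rel (j := 1) hg (by rw [hx, mul_inv_cancel_right, pow_one]) (by norm_num)
  rw [pow_one] at h
  exact mem_CC.mpr (mul_inv_eq_iff_eq_mul.mp h)

/-! ### The fixed points on `Q` -/

theorem fix_iff {q : Q} {v : ↥leechLattice} (h : D.ψ v = QuotientGroup.mk q) :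
    S.β * (q : Cz z) = (q : Cz z) * S.β ↔ v ∈ P := by
  have h1 := D.iso.2.2.2 S.β p7 S.eβ.symm v q h
  set q' : Q := ⟨S.β * (q : Cz z) * S.β⁻¹, (inferInstance : Q.Normal).conj_mem _ q.2 _⟩
  constructor
  · intro hc
    refine class_mem (D.psi_cg.mp ?_)
    rw [h1, h]
    exact congrArg QuotientGroup.mk (Subtype.ext (mul_inv_eq_iff_eq_mul.mpr hc))
  · intro hv
    have h2 : (QuotientGroup.mk q' : Q ⧸ Subgroup.center Q) = QuotientGroup.mk q :=
      h1.symm.trans ((D.psi_cg.mpr (p7_fix hv)).trans h)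
    rcases D.mk_eq_mk.mp h2 with e | e
    · exact mul_inv_eq_iff_eq_mul.mp (congrArg Subtype.val e).symm
    · exfalso
      set w : Cz z := (D.zq : Cz z)
      have e' : (q : Cz z) = S.β * (q : Cz z) * S.β⁻¹ * w := congrArg Subtype.val e
      have hcen : ∀ x : Cz z, Commute x w := fun x => Subgroup.mem_center_iff.mp zc_central x
      have hw2 : w * w = 1 := congrArg Subtype.val D.ext2.zz
      have hstep : S.β * (q : Cz z) * S.β⁻¹ = (q : Cz z) * w := by
        conv_rhs => rw [e', mul_assoc, hw2, mul_one]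
      have hn : ∀ n : ℕ, S.β ^ n * (q : Cz z) * (S.β ^ n)⁻¹ = (q : Cz z) * w ^ n := by
        intro n
        induction n with
        | zero => simp
        | succ n ih =>
          calc S.β ^ (n + 1) * (q : Cz z) * (S.β ^ (n + 1))⁻¹
              = S.β * (S.β ^ n * (q : Cz z) * (S.β ^ n)⁻¹) * S.β⁻¹ := by rw [pow_succ']; group
            _ = S.β * (q : Cz z) * S.β⁻¹ * w ^ n := by
                rw [ih]
                calc S.β * ((q : Cz z) * w ^ n) * S.β⁻¹ = S.β * (q : Cz z) * (w ^ n * S.β⁻¹) := by group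
                  _ = S.β * (q : Cz z) * (S.β⁻¹ * w ^ n) := by rw [((hcen S.β⁻¹).pow_right n).eq]
                  _ = _ := by group
            _ = _ := by rw [hstep, pow_succ', mul_assoc]
      have h7 := hn 7
      rw [S.pow7, one_mul, inv_one, mul_one, eq_comm, mul_eq_left] at h7
      exact D.ext2.ne (Subtype.ext (q_cop D D.zq.2 h7))

/-- The fixed points. -/
def R : Subgroup (Cz z) := Q ⊓ Subgroup.centralizer {S.β}

theorem mem_R {x : Cz z} : x ∈ S.R ↔ x ∈ Q ∧ S.β * x = x * S.β :=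
  and_congr_right fun _ => Subgroup.mem_centralizer_singleton_iff.trans eq_comm

theorem zq_mem_R : (D.zq : Cz z) ∈ S.R :=
  S.mem_R.mpr ⟨D.zq.2, Subgroup.mem_center_iff.mp zc_central S.β⟩

theorem rep_mem_R {v : ↥leechLattice} (hv : v ∈ P) : (D.rep v : Cz z) ∈ S.R :=
  S.mem_R.mpr ⟨(D.rep v).2, (S.fix_iff (D.mk_rep v).symm).mpr hv⟩

theorem card_R : Nat.card ↥S.R = 128 := by
  let f : Fin 64 × Bool → ↥S.R := fun p =>
    ⟨(D.rep (sub p.1.val) : Cz z) * cond p.2 (D.zq : Cz z) 1, S.R.mul_mem (S.rep_mem_R (sub_mem_P p.1.isLt))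
      (by cases p.2
          · exact one_mem _
          · exact S.zq_mem_R)⟩
  have hf : Function.Bijective f := by
    refine ⟨?_, ?_⟩
    · rintro ⟨m, b⟩ ⟨n, c⟩ h
      have h' : D.rep (sub m.val) * cond b D.zq 1 = D.rep (sub n.val) * cond c D.zq 1 := by
        have hv := congrArg Subtype.val h
        cases b <;> cases c <;> exact Subtype.ext hv
      have hz : ∀ x : Bool, (QuotientGroup.mk (cond x D.zq 1) : Q ⧸ Subgroup.center Q) = 1 := fun x => by
        rw [QuotientGroup.eq_one_iff]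
        cases x
        · exact one_mem _
        · exact (D.ext2.center_iff _).mpr (Or.inr rfl)
      have hm := congrArg (fun q : Q => (QuotientGroup.mk q : Q ⧸ Subgroup.center Q)) h'
      simp only [QuotientGroup.mk_mul, hz, mul_one, D.mk_rep] at hm
      have hmn : m = n := Fin.ext (sub_inj m.isLt n.isLt (D.psi_cg.mp hm))
      subst hmn
      have hbc := mul_left_cancel h'
      cases b <;> cases c
      · rfl
      · exact absurd hbc.symm D.ext2.ne
      · exact absurd hbc D.ext2.ne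
      · rfl
    · rintro ⟨x, hx⟩
      obtain ⟨hxQ, hxc⟩ := S.mem_R.mp hx
      obtain ⟨v, hv⟩ := D.iso.2.1 (QuotientGroup.mk (⟨x, hxQ⟩ : Q))
      obtain ⟨m, hm, hcg⟩ := (S.fix_iff hv).mp hxc
      have h2 := (D.mk_rep (sub m)).trans ((D.psi_cg.mpr hcg).symm.trans hv)
      rcases D.mk_eq_mk.mp h2 with e | e
      · exact ⟨(⟨m, hm⟩, false), Subtype.ext (by
          show (D.rep (sub m) : Cz z) * 1 = x
          rw [mul_one]; exact (congrArg Subtype.val e).symm)⟩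
      · exact ⟨(⟨m, hm⟩, true), Subtype.ext (congrArg Subtype.val e).symm⟩
  rw [← Nat.card_eq_of_bijective f hf, Nat.card_prod, Nat.card_fin, Nat.card_eq_fintype_card (α := Bool), Fintype.card_bool]

theorem comm_ip {q r : Q} {v w : ↥leechLattice} (hv : D.ψ v = QuotientGroup.mk q)
    (hw : D.ψ w = QuotientGroup.mk r) : q * r = r * q ↔ ip v w = 0 := by
  have h1 : D.ψ (v + w) = QuotientGroup.mk (q * r) := by rw [D.psi_add, hv, hw, QuotientGroup.mk_mul]
  have hb : D.sqf (q * r) = D.sqf q + D.sqf r + D.bf q r := D.sqf_mul q r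
  rw [← D.rep_spec h1, ← D.rep_spec hv, ← D.rep_spec hw] at hb
  change D.qf _ = D.qf _ + D.qf _ + _ at hb
  rw [D.qf_eq, D.qf_eq, D.qf_eq] at hb
  have h3 := (sqNorm_sub_add (v : GolayPt → ℤ) (w : GolayPt → ℤ)).2
  rw [← AddSubgroup.coe_add] at h3
  have h16a := sqNorm_dvd (mem_leech.mp v.2)
  have h16b := sqNorm_dvd (mem_leech.mp w.2)
  have h8 := CfsgCoTwoOut.dot_dvd v w
  have e : sqNorm ((v + w : ↥leechLattice) : GolayPt → ℤ) / 16 = sqNorm (v : GolayPt → ℤ) / 16 +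
      sqNorm (w : GolayPt → ℤ) / 16 + dotInt (v : GolayPt → ℤ) (w : GolayPt → ℤ) / 8 := by omega
  rw [e, Int.cast_add, Int.cast_add] at hb
  have hbf : D.bf q r = ip v w := (add_left_cancel hb).symm
  rw [← hbf]
  unfold Data.bf
  by_cases hq : q * r = r * q <;> simp [hq]

/-- A fixed element flipping the sign of a fixed element outside the centre. -/
theorem exists_flip {q : Q} {v : ↥leechLattice} (hv : D.ψ v = QuotientGroup.mk q) (hvP : v ∈ P)
    (h0 : ¬ Cg v 0) : ∃ r : Q, (r : Cz z) ∈ S.R ∧ r * q * r⁻¹ = q * D.zq := by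
  obtain ⟨m, hm, hcg⟩ := hvP
  obtain ⟨j, hj, hip⟩ := sub_ip hm (fun e => h0 (by rw [e, sub_zero'] at hcg; exact hcg))
  refine ⟨D.rep (ev' j), S.rep_mem_R (ev_mem_P hj), ?_⟩
  set r := D.rep (ev' j)
  have hne : ¬ q * r = r * q := by
    rw [comm_ip hv (D.mk_rep _).symm, ip_cg hcg, hip]; exact one_ne_zero
  rcases D.ext2.comm_cases r q with e | e
  · exact absurd (commutatorElement_eq_one_iff_mul_comm.mp e).symm hne
  · rw [commutatorElement_def] at e
    calc r * q * r⁻¹ = r * q * r⁻¹ * q⁻¹ * q := by group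
      _ = D.zq * q := by rw [e]
      _ = q * D.zq := (D.ext2.z_comm q).eq.symm

theorem a_facts : IsConj z ((S.a : Cz z) : G) ∧ ((S.a : Cz z) : G) ≠ z := D.conj_of_norm64 ax_norm S.vec

theorem a_nc : S.a ∉ Subgroup.center ↥Q :=
  D.not_center S.vec (Data.ne_zero_of_norm ax_norm (by norm_num)) (by rw [ax_norm])

theorem fixed_conj_iff {q : Q} (hq : (q : Cz z) ∈ S.R) :
    (IsConj z ((q : Cz z) : G) ∧ ((q : Cz z) : G) ≠ z) ↔ ∃ k < 14, D.ψ (abV k) = QuotientGroup.mk q := by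
  constructor
  · rintro ⟨hc, hne⟩
    obtain ⟨v, hn, hv⟩ := D.norm_of_conj hc hne
    obtain ⟨m, hm, hcg⟩ := (S.fix_iff hv).mp (S.mem_R.mp hq).2
    obtain ⟨k, hk, hkm⟩ := List.getElem_of_mem (norm64_mem hm hn hcg)
    have hk14 : k < 14 := hk
    refine ⟨k, hk14, ?_⟩
    rw [← hv, D.psi_cg]
    have := (ab_facts hk14).2.1
    rw [List.getD_eq_getElem _ 0 hk, hkm] at this
    exact this.trans' hcg.symm'
  · rintro ⟨k, hk, he⟩
    exact D.conj_of_norm64 (ab_facts hk).2.2.1 he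

theorem abV_P {k : ℕ} (hk : k < 14) : abV k ∈ P := ⟨_, (ab_facts hk).2.2.2, (ab_facts hk).2.1⟩

/-- An element of the centraliser of `z` normalising the group of order seven carries the marked conjugate
to any other one. -/
theorem exists_move_a {q : Q} (hq : (q : Cz z) ∈ S.R) (hc : IsConj z ((q : Cz z) : G)) (hne : ((q : Cz z) : G) ≠ z) :
    ∃ (x : Cz z) (j : ℕ), x * S.β * x⁻¹ = S.β ^ j ∧ ((x : G)) * ((S.a : Cz z) : G) * (x : G)⁻¹ = ((q : Cz z) : G) := by
  obtain ⟨k, hk, hv⟩ := (S.fixed_conj_iff hq).mp ⟨hc, hne⟩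
  obtain ⟨g, j, hg, hgv⟩ : ∃ (g : ↥Co0) (j : ℕ), g * p7 * g⁻¹ = p7 ^ j ∧ g • ax none = abV k := by
    by_cases h7 : k < 7
    · refine ⟨gC ^ k, 1, ?_, by rw [← aV_zero]; exact gC_pow_aV h7⟩
      rw [((show Commute gC p7 from gC_comm).pow_left k).eq, mul_inv_cancel_right, pow_one]
    · obtain ⟨i, rfl⟩ : ∃ i, k = 7 + i := ⟨k - 7, by omega⟩
      refine ⟨uI * gC ^ i, 6, ?_, by rw [mul_smul, ← aV_zero, gC_pow_aV (by omega), uI_aV (by omega)]⟩
      have hinv : p7⁻¹ = p7 ^ 6 :=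
        inv_eq_of_mul_eq_one_right (by rw [← pow_succ', show 6 + 1 = 7 from rfl, p7_pow_seven])
      calc uI * gC ^ i * p7 * (uI * gC ^ i)⁻¹ = uI * (gC ^ i * p7) * (gC ^ i)⁻¹ * uI⁻¹ := by group
        _ = uI * p7 * uI⁻¹ := by rw [((show Commute gC p7 from gC_comm).pow_left i).eq]; group
        _ = p7 ^ 6 := by rw [uI_inv, mul_inv_cancel_right, hinv]
  obtain ⟨x, hxe, hxc⟩ := S.exists_lift hg
  have h1 := D.iso.2.2.2 x g hxe.symm (ax none) S.a S.vec
  rw [hgv] at h1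
  rcases D.mk_eq_mk.mp (h1.symm.trans hv) with e | e
  · exact ⟨x, j, hxc, (congrArg (fun t : Q => ((t : Cz z) : G)) e).symm⟩
  · obtain ⟨r, hr, hre⟩ := S.exists_flip h1 (abV_P hk)
      (not_cg_zero (Data.ne_zero_of_norm (ab_facts hk).2.2.1 (by norm_num)) (by rw [(ab_facts hk).2.2.1]))
    refine ⟨(r : Cz z) * x, j, ?_, ?_⟩
    · have hcomm : Commute (r : Cz z) (S.β ^ j) := Commute.pow_right (S.mem_R.mp hr).2.symm j
      calc (r : Cz z) * x * S.β * ((r : Cz z) * x)⁻¹ = (r : Cz z) * (x * S.β * x⁻¹) * (r : Cz z)⁻¹ := by group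
        _ = _ := by rw [hxc, hcomm.eq, mul_inv_cancel_right]
    · rw [← e] at hre
      have h2 := congrArg (fun t : Q => ((t : Cz z) : G)) hre
      simp only [Subgroup.coe_mul, Subgroup.coe_inv] at h2 ⊢
      rw [← h2]
      group

theorem perm_rel {σ τ : ↥M24} {k : ℕ} (h : σ * τ * σ⁻¹ = τ ^ k) :
    permHom σ * permHom τ * (permHom σ)⁻¹ = (permHom τ) ^ k := by
  rw [← map_inv, ← map_mul, ← map_mul, h, map_pow]

theorem exists_square_conj : ∃ g : ↥Co0, g * p7 * g⁻¹ = p7 ^ 2 := by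
  obtain ⟨τ, hτ, hp⟩ := p7_eq
  have hm : (⟨r7 ^ 2⟩ : PConj) ∈ MulAction.orbit norm7 (⟨r7⟩ : PConj) := by
    rw [seven_orbit norm7 fun g => mem_norm7]
    exact Or.inr (Or.inl rfl)
  obtain ⟨⟨σ, hσ⟩, he⟩ := hm
  have he' : σ * r7 * σ⁻¹ = r7 ^ 2 := congrArg PConj.val he
  refine ⟨permHom ⟨σ, (mem_norm7.mp hσ).1⟩, ?_⟩
  rw [hp]
  refine perm_rel (Subtype.ext ?_)
  simp only [Subgroup.coe_mul, Subgroup.coe_inv, SubgroupClass.coe_pow, hτ]
  exact he'

/-- Every automorphism of the group of order seven comes from the centraliser of `z`. -/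
theorem exists_aut {j : ℕ} (hj : ¬ 7 ∣ j) : ∃ x : Cz z, x * S.β * x⁻¹ = S.β ^ j := by
  obtain ⟨g, hg⟩ := exists_square_conj
  obtain ⟨x2, -, h2⟩ := S.exists_lift hg
  obtain ⟨x6, -, h6⟩ := S.exists_lift (g := uI) (j := 6) (by
    rw [uI_inv, mul_inv_cancel_right]
    exact inv_eq_of_mul_eq_one_right (by rw [← pow_succ', show 6 + 1 = 7 from rfl, p7_pow_seven]))
  have comp : ∀ {x y : Cz z} {k l : ℕ}, x * S.β * x⁻¹ = S.β ^ k → y * S.β * y⁻¹ = S.β ^ l →
      (x * y) * S.β * (x * y)⁻¹ = S.β ^ (k * l) := by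
    intro x y k l hx hy
    rw [← pow_conj_eq hx l, ← hy]; group
  have red : ∀ {x : Cz z} (k l : ℕ), x * S.β * x⁻¹ = S.β ^ k → k % 7 = l % 7 → x * S.β * x⁻¹ = S.β ^ l := by
    intro x k l hx hkl
    rw [hx, pow_eq_pow_iff_modEq, S.order_β]; exact hkl
  have h1 : (1 : Cz z) * S.β * 1⁻¹ = S.β ^ 1 := by simp
  have h4 := comp h2 h2
  have hlt : j % 7 < 7 := Nat.mod_lt _ (by norm_num)
  have hne : j % 7 ≠ 0 := fun e => hj (Nat.dvd_of_mod_eq_zero e)
  interval_cases h : j % 7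
  · exact absurd rfl hne
  · exact ⟨_, red _ _ h1 (by omega)⟩
  · exact ⟨_, red _ _ h2 (by omega)⟩
  · exact ⟨_, red _ _ (comp h6 h4) (by omega)⟩
  · exact ⟨_, red _ _ h4 (by omega)⟩
  · exact ⟨_, red _ _ (comp h6 h2) (by omega)⟩
  · exact ⟨_, red _ _ h6 (by omega)⟩

/-- The element of the centraliser of `z` under a conjugating element. -/
theorem y_mem_Q {g : G} (hg : g * z * g⁻¹ = ((S.a : Cz z) : G)) :
    ∃ y : Q, ((y : Cz z) : G) = g⁻¹ * z * g := by
  obtain ⟨-, v, g₀, -, -, -, hcard, -⟩ := D.main hg S.a_facts.2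
  by_contra hnot
  push Not at hnot
  have hzn : (D.zq : Cz z) ∉ Qc Q g := fun h => by
    obtain ⟨p, hp, hpe⟩ := mem_Qc.mp h
    refine hnot ⟨p, hp⟩ ?_
    show (p : G) = g⁻¹ * z * g
    have hpe' : g * (p : G) * g⁻¹ = z := hpe
    calc (p : G) = g⁻¹ * (g * (p : G) * g⁻¹) * g := by group
      _ = _ := by rw [hpe']
  set E : Subgroup ↥Q := (Qc Q g).subgroupOf Q with hE
  have hEc : Nat.card ↥E = 2 ^ 13 := by
    rw [hE, ← Subgroup.card_map_of_injective Q.subtype_injective, Subgroup.subgroupOf_map_subtype, inf_comm]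
    exact hcard
  have hzE : D.zq ∉ E := hzn
  have hcen : D.zq ∈ Subgroup.center ↥Q := (D.ext2.center_iff _).mpr (Or.inr rfl)
  haveI : (Subgroup.zpowers D.zq).Normal := ⟨fun x hx y => by
    have hxc : x ∈ Subgroup.center ↥Q := Subgroup.zpowers_le.mpr hcen hx
    rw [Subgroup.mem_center_iff.mp hxc y, mul_inv_cancel_right]; exact hx⟩
  set A := E ⊔ Subgroup.zpowers D.zq with hA
  have hz2 : ∀ b ∈ Subgroup.zpowers D.zq, b = 1 ∨ b = D.zq := fun b hb =>
    (D.ext2.center_iff b).mp (Subgroup.zpowers_le.mpr hcen hb)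
  have hAm : ∀ x ∈ A, ∃ e ∈ E, ∃ b ∈ Subgroup.zpowers D.zq, x = e * b := fun x hx => by
    rw [hA, ← SetLike.mem_coe, Subgroup.mul_normal, Set.mem_mul] at hx
    obtain ⟨e, he, b, hb, rfl⟩ := hx
    exact ⟨e, he, b, hb, rfl⟩
  have hcomm : ∀ e₁ ∈ E, ∀ e₂ ∈ E, e₁ * e₂ = e₂ * e₁ ∧ e₁ * e₁ = 1 := fun e₁ h₁ e₂ h₂ =>
    D.qc_comm_sq hg S.a_facts.2 e₁ e₂ h₁ h₂
  have hsq : ∀ x ∈ A, x * x = 1 := by
    intro x hx
    obtain ⟨e, he, b, hb, rfl⟩ := hAm x hx
    rcases hz2 b hb with rfl | rfl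
    · rw [mul_one]; exact (hcomm e he e he).2
    · rw [(D.ext2.z_comm e).symm.mul_mul_mul_comm, (hcomm e he e he).2, D.ext2.zz, one_mul]
  have hAc : IsMulCommutative A := ⟨⟨fun x y => Subtype.ext (by
    have inv : ∀ t ∈ A, t⁻¹ = t := fun t ht => inv_eq_of_mul_eq_one_right (hsq t ht)
    calc (x : Q) * y = ((x : Q) * y)⁻¹ := (inv _ (A.mul_mem x.2 y.2)).symm
      _ = (y : Q) * x := by rw [mul_inv_rev, inv _ x.2, inv _ y.2])⟩⟩
  have hle := (ExtraTwo.card_elementary_le D.ext2 (n := 12) D.card_Q hAc fun t ht => by rw [pow_two]; exact hsq t ht).1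
  have hlt : E < A := lt_of_le_of_ne le_sup_left fun e => hzE (by rw [e]; exact Subgroup.mem_sup_right (Subgroup.mem_zpowers _))
  have hdvd := Subgroup.card_dvd_of_le hlt.le
  have hne : Nat.card ↥E ≠ Nat.card ↥A := fun e => hlt.ne (Subgroup.eq_of_le_of_card_ge hlt.le e.ge)
  have hpos : 0 < Nat.card ↥A := Nat.card_pos
  rw [hEc] at hdvd hne
  have := Nat.le_of_dvd hpos hdvd
  norm_num at hle hne this
  omega

/-- Fusion of `z` with the marked conjugate inside the centraliser of the element of order seven. -/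
theorem exists_fuse_a : ∃ n : G, n * (S.β : G) = (S.β : G) * n ∧ n * z * n⁻¹ = ((S.a : Cz z) : G) := by
  obtain ⟨g, hg⟩ := isConj_iff.mp S.a_facts.1
  obtain ⟨y, hy⟩ := S.y_mem_Q hg
  have hyconj : IsConj z ((y : Cz z) : G) := isConj_iff.mpr ⟨g⁻¹, by rw [hy]; group⟩
  have hyne : ((y : Cz z) : G) ≠ z := fun e => S.a_facts.2 (by
    rw [← hg]
    calc g * z * g⁻¹ = g * (g⁻¹ * z * g) * g⁻¹ := by rw [← hy, e]
      _ = z := by group)
  obtain ⟨v, hn, hv⟩ := D.norm_of_conj hyconj hyne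
  obtain ⟨c, hc⟩ := D.conj_of_norm hv S.vec (hn.trans ax_norm.symm) (Or.inr hn)
  have hcG : (c : G) * (g⁻¹ * z * g) * (c : G)⁻¹ = ((S.a : Cz z) : G) := by
    rw [← hy]; exact congrArg Subtype.val hc
  have hβz : (S.β : G) * z = z * (S.β : G) := Subgroup.mem_centralizer_singleton_iff.mp S.β.2
  have hβa : (S.β : G) * ((S.a : Cz z) : G) = ((S.a : Cz z) : G) * (S.β : G) := congrArg Subtype.val S.comm
  -- the conjugate of the group of order seven
  have hβ1 : g⁻¹ * (S.β : G) * g ∈ Cz z := by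
    refine Subgroup.mem_centralizer_singleton_iff.mpr ?_
    calc g⁻¹ * (S.β : G) * g * z = g⁻¹ * ((S.β : G) * (g * z * g⁻¹)) * g := by group
      _ = g⁻¹ * ((g * z * g⁻¹) * (S.β : G)) * g := by rw [hg, hβa]
      _ = _ := by group
  set β' : Cz z := c * ⟨_, hβ1⟩ * c⁻¹ with hβ'
  have hβ'c : β' ∈ Subgroup.centralizer ({(S.a : Cz z)} : Set (Cz z)) := by
    refine Subgroup.mem_centralizer_singleton_iff.mpr (Subtype.ext ?_)
    show (c : G) * (g⁻¹ * (S.β : G) * g) * (c : G)⁻¹ * ((S.a : Cz z) : G) =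
      ((S.a : Cz z) : G) * ((c : G) * (g⁻¹ * (S.β : G) * g) * (c : G)⁻¹)
    rw [← hcG]
    calc (c : G) * (g⁻¹ * (S.β : G) * g) * (c : G)⁻¹ * ((c : G) * (g⁻¹ * z * g) * (c : G)⁻¹)
        = (c : G) * g⁻¹ * ((S.β : G) * z) * g * (c : G)⁻¹ := by group
      _ = (c : G) * g⁻¹ * (z * (S.β : G)) * g * (c : G)⁻¹ := by rw [hβz]
      _ = _ := by group
  have hord : orderOf β' = 7 := by
    rw [← S.order_β, ← Subgroup.orderOf_coe β', ← Subgroup.orderOf_coe S.β]
    have : (β' : G) = MulAut.conj ((c : G) * g⁻¹) (S.β : G) := by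
      rw [MulAut.conj_apply, hβ']
      show (c : G) * (g⁻¹ * (S.β : G) * g) * (c : G)⁻¹ = _
      group
    rw [this, MulEquiv.orderOf_eq]
  have hcard := D.card_centralizer S.vec S.a_nc
  rw [modImg_ax_card] at hcard
  obtain ⟨d, hd, hdc⟩ := seven_conj (Subgroup.centralizer ({(S.a : Cz z)} : Set (Cz z))) (Subgroup.zpowers β')
    (Subgroup.zpowers S.β) (Subgroup.zpowers_le.mpr hβ'c)
    (Subgroup.zpowers_le.mpr (Subgroup.mem_centralizer_singleton_iff.mpr S.comm))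
    (by rw [Nat.card_zpowers, hord]) (by rw [Nat.card_zpowers, S.order_β])
    (by rw [hcard]; exact fact_seven (m := 2 ^ 35 * 34974720) (by norm_num) (by norm_num))
  obtain ⟨j, hj, hje⟩ := mem_pow S.pow7 (hdc _ (Subgroup.mem_zpowers β'))
  obtain ⟨n₀, hn₀⟩ : ∃ n : G, n = (d : G) * (c : G) * g⁻¹ := ⟨_, rfl⟩
  have hn₀β : n₀ * (S.β : G) * n₀⁻¹ = (S.β : G) ^ j := by
    rw [← SubgroupClass.coe_pow, ← hje]
    show n₀ * (S.β : G) * n₀⁻¹ = (d : G) * ((c : G) * (g⁻¹ * (S.β : G) * g) * (c : G)⁻¹) * (d : G)⁻¹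
    rw [hn₀]; group
  have hn₀z : n₀ * z * n₀⁻¹ = ((S.a : Cz z) : G) := by
    have hda : (d : G) * ((S.a : Cz z) : G) = ((S.a : Cz z) : G) * (d : G) :=
      congrArg Subtype.val (Subgroup.mem_centralizer_singleton_iff.mp hd)
    calc n₀ * z * n₀⁻¹ = (d : G) * ((c : G) * (g⁻¹ * z * g) * (c : G)⁻¹) * (d : G)⁻¹ := by rw [hn₀]; group
      _ = _ := by rw [hcG, hda, mul_inv_cancel_right]
  have hj7 : ¬ 7 ∣ j := fun h => by
    have h0 : j = 0 := Nat.eq_zero_of_dvd_of_lt h hj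
    rw [h0, pow_zero, mul_inv_eq_one, mul_eq_left] at hn₀β
    have := S.order_β
    rw [show S.β = 1 from Subtype.ext hn₀β, orderOf_one] at this
    norm_num at this
  obtain ⟨x, hx⟩ := S.exists_aut hj7
  have hxG : (x : G) * (S.β : G) * (x : G)⁻¹ = (S.β : G) ^ j := by
    rw [← SubgroupClass.coe_pow, ← hx]; rfl
  refine ⟨n₀ * (x : G)⁻¹, ?_, ?_⟩
  · -- `n₀` and `x` induce the same automorphism
    have hkey : n₀ * (x : G)⁻¹ * ((S.β : G) ^ j) * (n₀ * (x : G)⁻¹)⁻¹ = (S.β : G) ^ j := by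
      calc n₀ * (x : G)⁻¹ * ((S.β : G) ^ j) * (n₀ * (x : G)⁻¹)⁻¹
          = n₀ * ((x : G)⁻¹ * ((x : G) * (S.β : G) * (x : G)⁻¹) * (x : G)) * n₀⁻¹ := by rw [hxG]; group
        _ = n₀ * (S.β : G) * n₀⁻¹ := by group
        _ = _ := hn₀β
    have hcj : Commute (n₀ * (x : G)⁻¹) ((S.β : G) ^ j) := mul_inv_eq_iff_eq_mul.mp hkey
    obtain ⟨i, -, hi⟩ := mem_pow (x := S.β ^ j) (by rw [← pow_mul, mul_comm, pow_mul, S.pow7, one_pow]) (y := S.β)
      (by
        rw [zpowers_eq_of_seven (Subgroup.zpowers S.β) (by rw [Nat.card_zpowers, S.order_β])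
          (Subgroup.npow_mem_zpowers S.β j) fun e => hj7 (S.order_β ▸ orderOf_dvd_of_pow_eq_one e)]
        exact Subgroup.mem_zpowers S.β)
    have hiG : (S.β : G) = ((S.β : G) ^ j) ^ i := by
      rw [← SubgroupClass.coe_pow, ← SubgroupClass.coe_pow]; exact congrArg Subtype.val hi
    rw [hiG]
    exact hcj.pow_right i
  · have hxz : (x : G) * z = z * (x : G) := Subgroup.mem_centralizer_singleton_iff.mp x.2
    calc n₀ * (x : G)⁻¹ * z * (n₀ * (x : G)⁻¹)⁻¹ = n₀ * ((x : G)⁻¹ * (z * (x : G))) * n₀⁻¹ := by group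
      _ = _ := by rw [← hxz, inv_mul_cancel_left, hn₀z]

/-- The conjugates of `z` fixed in `Q` are fused to it in the centraliser of the element of order seven. -/
theorem exists_fusing {q : Q} (hq : (q : Cz z) ∈ S.R) (hc : IsConj z ((q : Cz z) : G)) :
    ∃ n : G, n * (S.β : G) = (S.β : G) * n ∧ n * z * n⁻¹ = ((q : Cz z) : G) := by
  by_cases hne : ((q : Cz z) : G) = z
  · exact ⟨1, by simp, by simp [hne]⟩
  obtain ⟨n, hn, hnz⟩ := S.exists_fuse_a
  obtain ⟨x, j, hxj, hxa⟩ := S.exists_move_a hq hc hne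
  refine ⟨(x : G) * n * (x : G)⁻¹, ?_, ?_⟩
  · -- the group of order seven is stable
    have hj7 : ¬ 7 ∣ j := fun h => by
      obtain ⟨t, rfl⟩ := h
      rw [pow_mul, S.pow7, one_pow, mul_inv_eq_one, mul_eq_left] at hxj
      have := S.order_β
      rw [hxj, orderOf_one] at this
      norm_num at this
    have hxG : (x : G) * (S.β : G) * (x : G)⁻¹ = (S.β : G) ^ j := by
      rw [← SubgroupClass.coe_pow, ← hxj]; rfl
    obtain ⟨i, -, hi⟩ := mem_pow (x := S.β ^ j) (by rw [← pow_mul, mul_comm, pow_mul, S.pow7, one_pow]) (y := S.β)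
      (by
        rw [zpowers_eq_of_seven (Subgroup.zpowers S.β) (by rw [Nat.card_zpowers, S.order_β])
          (Subgroup.npow_mem_zpowers S.β j) fun e => hj7 (S.order_β ▸ orderOf_dvd_of_pow_eq_one e)]
        exact Subgroup.mem_zpowers S.β)
    have hiG : (S.β : G) = ((S.β : G) ^ j) ^ i := by
      rw [← SubgroupClass.coe_pow, ← SubgroupClass.coe_pow]; exact congrArg Subtype.val hi
    have hcj : Commute ((x : G) * n * (x : G)⁻¹) ((S.β : G) ^ j) := by
      rw [← hxG]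
      exact Commute.map (show Commute n (S.β : G) from hn) (MulAut.conj (x : G))
    rw [hiG]
    exact hcj.pow_right i
  · have hxz : (x : G) * z = z * (x : G) := Subgroup.mem_centralizer_singleton_iff.mp x.2
    calc (x : G) * n * (x : G)⁻¹ * z * ((x : G) * n * (x : G)⁻¹)⁻¹
        = (x : G) * (n * ((x : G)⁻¹ * (z * (x : G))) * n⁻¹) * (x : G)⁻¹ := by group
      _ = _ := by rw [← hxz, inv_mul_cancel_left, hnz, hxa]

end Sev

end CfsgLib.MonsterQ.Seven
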