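/-
A set of classes closed under the stabiliser of the cross contains every pair class, unless it is trivial.
-/
import Cfsg.Agent.Lib.Leech.FrameInvariant
import Cfsg.Agent.Lib.Golay.Trans

set_option autoImplicit false

namespace CfsgLib.MonsterQ.Seven

open Cfsg CfsgGolay CfsgLeech CfsgLeech.FrameClosed
open scoped Pointwise

variable {W : Set ↥leechLattice} (hW : FrameClosed W)
include hW

theorem quad_pair_of_tetrad {S : Finset GolayPt} (hS : HasQuad W S) (h4 : S.card = 4) :
    ∃ T : Finset GolayPt, HasQuad W T ∧ T.card = 2 := by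
  obtain ⟨p, hp⟩ : S.Nonempty := Finset.card_pos.mp (by omega)
  obtain ⟨q, -, hq⟩ : ∃ q ∈ (Finset.univ : Finset GolayPt), q ∉ S :=
    Finset.exists_mem_notMem_of_card_lt_card (by rw [h4, Finset.card_univ, card_univ_pt]; norm_num)
  set T := insert q (S.erase p)
  have hT : T.card = 4 := by
    rw [Finset.card_insert_of_notMem (fun h => hq (Finset.mem_of_mem_erase h)), Finset.card_erase_of_mem hp, h4]
  obtain ⟨g, hg, hgS⟩ := exists_smul_tetr0 h4
  obtain ⟨g', hg', hgT⟩ := exists_smul_tetr0 hT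
  have h : (g' * g⁻¹) • S = T := by rw [mul_smul, ← hgS, inv_smul_smul, hgT]
  refine ⟨symmDiff S T, hW.quad_add hS (h ▸ hW.quad_smul hS (mul_mem hg' (inv_mem hg))), ?_⟩
  have e : symmDiff S T = {p, q} := by
    ext i
    simp only [T, Finset.mem_symmDiff, Finset.mem_insert, Finset.mem_erase, Finset.mem_singleton]
    by_cases h1 : i = p <;> by_cases h2 : i = q <;> simp_all
  rw [e, Finset.card_pair (fun h => hq (by rw [← h]; exact hp))]

theorem quad_pair_of_even : ∀ (n : ℕ) (S : Finset GolayPt), S.card = n → Even n → S ∉ CW → HasQuad W S →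
    ∃ T : Finset GolayPt, HasQuad W T ∧ T.card = 2 := by
  intro n
  induction n using Nat.strong_induction_on with
  | _ n ih =>
    intro S hn hev hS hq
    by_cases h5 : 5 ≤ n
    · obtain ⟨s, hsS, hs⟩ := Finset.exists_subset_card_eq (s := S) (n := 5) (by omega)
      obtain ⟨o, ho, hso⟩ := exists_octad_mem hs.le
      have hint : 5 ≤ (S ∩ o).card := hs ▸ Finset.card_le_card (Finset.subset_inter hsS hso)
      have hc8 : o.card = 8 := card_of_mem_octads ho
      have hcard : (symmDiff S o).card + 2 * (S ∩ o).card = n + 8 := by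
        have h1 := Finset.card_sdiff_add_card_inter S o
        have h2 := Finset.card_sdiff_add_card_inter o S
        have h3 : (symmDiff S o).card = (S \ o).card + (o \ S).card := by
          rw [symmDiff_def, Finset.sup_eq_union, Finset.card_union_of_disjoint disjoint_sdiff_sdiff]
        rw [Finset.inter_comm o S] at h2
        omega
      refine ih (symmDiff S o).card (by omega) _ rfl ?_ ?_ (hW.quad_add hq (hW.quad_code ho.1))
      · rw [Nat.even_iff] at hev ⊢; omega
      · intro h
        exact hS (by simpa using CW_symmDiff h ho.1)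
    · have h0 : n ≠ 0 := by
        rintro rfl
        exact hS (by rw [Finset.card_eq_zero.mp hn]; exact CW_empty)
      rw [Nat.even_iff] at hev
      rcases (show n = 2 ∨ n = 4 by omega) with rfl | rfl
      · exact ⟨S, hq, hn⟩
      · exact quad_pair_of_tetrad hW hq hn

theorem exists_quad_pair (hx0 : ∃ x ∈ W, ¬ Cg x 0 ∧ ¬ Cg x (ax none)) :
    ∃ T : Finset GolayPt, HasQuad W T ∧ T.card = 2 := by
  obtain ⟨x, hx, hne0, hnev⟩ := hx0
  obtain ⟨e, c, y, he, hc, hxe, hs⟩ := (mem_leech.mp x.2).normal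
  rcases he with rfl | rfl
  swap
  · obtain ⟨C, D, hC, hD, hCD⟩ := octads_meet_two
    obtain ⟨x1, hx1, h1⟩ := hW.restrict hx hC
    obtain ⟨x2, hx2, h2⟩ := hW.restrict hx1 hD
    refine ⟨C ∩ D, ⟨x2, hx2, fun i => chi D i * (chi C i * (x : GolayPt → ℤ) i),
      fun i => by rw [h2, h1]; ring, ?_⟩, hCD⟩
    ext i
    rw [mem_oddSet, Finset.mem_inter, hxe]
    by_cases ha : i ∈ C <;> by_cases hb : i ∈ D <;> simp [chi, ha, hb]
    omega
  have key : ∀ (x : ↥leechLattice) (y : GolayPt → ℤ), x ∈ W → ¬ Cg x 0 → ¬ Cg x (ax none) →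
      (∀ i, (x : GolayPt → ℤ) i = 4 * y i) → ∃ T : Finset GolayPt, HasQuad W T ∧ T.card = 2 := by
    intro x y hx hne0 hnev hxy
    have hev : Even (oddSet y).card := by
      obtain ⟨m, d, z, hd, hxz, hz⟩ := mem_leech.mp x.2
      have hd4 := CW_card_four hd
      have hsum : ∑ i, (4 * y i) = 24 * m + 2 * (d.card : ℤ) + 4 * ∑ i, z i := by
        rw [Finset.sum_congr rfl fun i _ => (hxy i).symm.trans (hxz i)]
        simp only [Finset.sum_add_distrib, ← Finset.mul_sum, sum_chi, Finset.sum_const, Finset.card_univ,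
          card_univ_pt, nsmul_eq_mul, Nat.cast_ofNat]
      rw [← Finset.mul_sum] at hsum
      have hm : (2 : ℤ) ∣ m := by
        have := (hxy none).symm.trans (hxz none)
        omega
      have := sum_oddSet y
      rw [Nat.even_iff]
      omega
    refine quad_pair_of_even hW _ _ rfl hev (fun hS => ?_) ⟨x, hx, y, hxy, rfl⟩
    set z : GolayPt → ℤ := fun i => (y i - chi (oddSet y) i) / 2 with hz
    have hz2 : ∀ i, y i - chi (oddSet y) i = 2 * z i := fun i => by
      by_cases h : y i % 2 = 1 <;> simp [hz, chi, mem_oddSet, h] <;> omega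
    rcases Int.emod_two_eq_zero_or_one (∑ i, z i) with he | he
    · refine hne0 ⟨⟨fun i => 0 + 2 * chi (oddSet y) i + 4 * z i, mem_leech.mpr
        ⟨0, oddSet y, z, hS, fun i => rfl, by omega⟩⟩, Subtype.ext (funext fun i => ?_)⟩
      show (x : GolayPt → ℤ) i - 0 = 0 + 2 * chi (oddSet y) i + 4 * z i + (0 + 2 * chi (oddSet y) i + 4 * z i)
      have := hz2 i; rw [hxy]; omega
    · refine hnev ⟨⟨fun i => 0 + 2 * chi (oddSet y) i + 4 * (z i - chi {none} i), mem_leech.mpr
        ⟨0, oddSet y, fun i => z i - chi {none} i, hS, fun i => rfl, by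
          rw [Finset.sum_sub_distrib, sum_chi, Finset.card_singleton]; omega⟩⟩,
        Subtype.ext (funext fun i => ?_)⟩
      show (x : GolayPt → ℤ) i - (ax none : GolayPt → ℤ) i = 0 + 2 * chi (oddSet y) i + 4 * (z i - chi {none} i)
        + (0 + 2 * chi (oddSet y) i + 4 * (z i - chi {none} i))
      have := hz2 i
      rw [hxy, ax_coe]
      rcases eq_or_ne i none with rfl | h
      · rw [Pi.single_eq_same, show chi ({none} : Finset GolayPt) none = 1 by simp [chi]]; omega
      · rw [Pi.single_eq_of_ne h, show chi ({none} : Finset GolayPt) i = 0 by simp [chi, h]]; omega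
  by_cases hc0 : c = ∅
  · subst hc0
    exact key x y hx hne0 hnev fun i => by rw [hxe]; simp [chi]
  by_cases hc1 : c = Finset.univ
  · subst hc1
    have hw : (fun i => 1 - 4 * chi {none} i) ∈ leechLattice := mem_leech.mpr
      ⟨1, ∅, fun i => - chi {none} i, CW_empty, fun i => by simp [chi] <;> ring, by
        rw [Finset.sum_neg_distrib, sum_chi, Finset.card_singleton]; norm_num⟩
    set w : ↥leechLattice := ⟨_, hw⟩
    have hxw : Cg x (x - (w + w)) := ⟨w, by abel⟩
    refine key (x - (w + w)) (fun i => y i + 2 * chi {none} i) (hW.cg _ _ hxw hx)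
      (fun h => hne0 (hxw.trans' h)) (fun h => hnev (hxw.trans' h)) fun i => ?_
    show (x : GolayPt → ℤ) i - ((1 - 4 * chi {none} i) + (1 - 4 * chi {none} i)) = _
    rw [hxe]; by_cases hi : i = none <;> simp [chi, hi] <;> ring
  obtain ⟨p, hp⟩ := Finset.nonempty_iff_ne_empty.mpr hc0
  obtain ⟨q, hq⟩ : ∃ q, q ∉ c := by
    by_contra h; push Not at h; exact hc1 (Finset.eq_univ_iff_forall.mpr h)
  obtain ⟨o, ho, hpo⟩ := exists_octad_mem (s := {p, q}) ((Finset.card_le_two).trans (by norm_num))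
  obtain ⟨x', hx', h'⟩ := hW.restrict hx ho.1
  have hq' : HasQuad W (o ∩ c) := by
    refine ⟨x', hx', fun i => chi o i * (chi c i + 2 * y i), fun i => by rw [h', hxe]; ring, ?_⟩
    ext i
    rw [mem_oddSet, Finset.mem_inter]
    by_cases ha : i ∈ o <;> by_cases hb : i ∈ c <;> simp [chi, ha, hb] <;> omega
  refine quad_pair_of_even hW _ _ rfl ?_ ?_ hq'
  · have := CW_inter_even ho.1 hc; rw [Nat.even_iff]; omega
  · intro h
    have h8 : o.card = 8 := card_of_mem_octads ho
    have hlt : (o ∩ c).card < o.card := Finset.card_lt_card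
      (Finset.ssubset_iff_subset_ne.mpr ⟨Finset.inter_subset_left, fun he => hq (by
        have : q ∈ o ∩ c := he.symm ▸ hpo (by simp)
        exact (Finset.mem_inter.mp this).2)⟩)
    have hpos : 0 < (o ∩ c).card := Finset.card_pos.mpr ⟨p, Finset.mem_inter.mpr ⟨hpo (by simp), hp⟩⟩
    rcases code_weight_cases h with h' | h' | h' | h' | h' <;> omega

omit hW in
theorem pair_vec_mem {p q : GolayPt} (hpq : p ≠ q) :
    (fun i => 4 * chi ({p, q} : Finset GolayPt) i) ∈ leechLattice :=
  mem_leech.mpr ⟨0, ∅, chi ({p, q} : Finset GolayPt), CW_empty, fun i => by simp [chi],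
    by rw [sum_chi, Finset.card_pair hpq]; norm_num⟩

/-- Every pair class lies in the set. -/
theorem pair_mem (hx0 : ∃ x ∈ W, ¬ Cg x 0 ∧ ¬ Cg x (ax none)) {p q : GolayPt} (hpq : p ≠ q) :
    (⟨_, pair_vec_mem hpq⟩ : ↥leechLattice) ∈ W := by
  obtain ⟨T, hT, hT2⟩ := exists_quad_pair hW hx0
  obtain ⟨a, b, hab, rfl⟩ := Finset.card_eq_two.mp hT2
  obtain ⟨g, hg, hgx⟩ := exists_M24_map (by norm_num : 2 ≤ 5)
    (⟨![a, b], by intro i j; fin_cases i <;> fin_cases j <;> simp [hab, hab.symm]⟩ : Fin 2 ↪ GolayPt)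
    (⟨![p, q], by intro i j; fin_cases i <;> fin_cases j <;> simp [hpq, hpq.symm]⟩ : Fin 2 ↪ GolayPt)
  have h0 : g a = p := hgx 0
  have h1 : g b = q := hgx 1
  have hS := hW.quad_smul hT hg
  rw [show g • ({a, b} : Finset GolayPt) = {p, q} by
    rw [Finset.smul_finset_insert, Finset.smul_finset_singleton, Equiv.Perm.smul_def, Equiv.Perm.smul_def, h0, h1]] at hS
  obtain ⟨x, hx, y, hy, hS⟩ := hS
  set z : GolayPt → ℤ := fun i => (y i - chi (oddSet y) i) / 2 with hz
  have hz2 : ∀ i, y i - chi (oddSet y) i = 2 * z i := fun i => by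
    by_cases h : y i % 2 = 1 <;> simp [hz, chi, mem_oddSet, h] <;> omega
  rw [hS] at hz2
  rcases Int.emod_two_eq_zero_or_one (∑ i, z i) with he | he
  · refine hW.cg x _ ⟨⟨fun i => 4 * z i, mem_leech.mpr
      ⟨0, ∅, z, CW_empty, fun i => by simp [chi], by omega⟩⟩, Subtype.ext (funext fun i => ?_)⟩ hx
    show (x : GolayPt → ℤ) i - 4 * chi {p, q} i = 4 * z i + 4 * z i
    have := hz2 i; rw [hy]; omega
  · refine hW.cg (x - ax none) _ ⟨⟨fun i => 4 * (z i - chi {none} i), mem_leech.mpr
      ⟨0, ∅, fun i => z i - chi {none} i, CW_empty, fun i => by simp [chi], by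
        rw [Finset.sum_sub_distrib, sum_chi, Finset.card_singleton]; omega⟩⟩,
      Subtype.ext (funext fun i => ?_)⟩ (hW.sub hx hW.cross)
    show (x : GolayPt → ℤ) i - (ax none : GolayPt → ℤ) i - 4 * chi {p, q} i
      = 4 * (z i - chi {none} i) + 4 * (z i - chi {none} i)
    have := hz2 i
    rw [hy, ax_coe]
    rcases eq_or_ne i none with rfl | h
    · rw [Pi.single_eq_same, show chi ({none} : Finset GolayPt) none = 1 by simp [chi]]; omega
    · rw [Pi.single_eq_of_ne h, show chi ({none} : Finset GolayPt) i = 0 by simp [chi, h]]; omega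

end CfsgLib.MonsterQ.Seven
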