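/-
Groups of Monster type: the centraliser of the element of order seven modulo the group it generates is of Held type.
-/
import Cfsg.Agent.Lib.MonsterQ.Seven.Setup
import Cfsg.Agent.Lib.Comp.Layer
import Cfsg.Agent.Lib.LargeExtra.Odd

set_option autoImplicit false
set_option maxRecDepth 100000
set_option linter.style.haveILetI false
set_option linter.unusedSectionVars false

namespace CfsgLib.MonsterQ.Seven

open Cfsg CfsgGolay CfsgLeech CfsgLib.ExtraTwo
open scoped Pointwise commutatorElement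

attribute [local irreducible] codeL octadL dodecadL slpCodes r7

theorem ext2_equiv {E F : Type*} [Group E] [Group F] (e : E ≃* F) {w : E} (h : Ext2 E w) : Ext2 F (e w) := by
  refine ⟨fun h1 => h.ne (e.injective (h1.trans e.map_one.symm)), fun x => ?_, fun x => ?_⟩
  · obtain ⟨x, rfl⟩ := e.surjective x
    rw [← e.map_one, e.injective.eq_iff, e.injective.eq_iff, ← h.center_iff, Subgroup.mem_center_iff,
      Subgroup.mem_center_iff]
    refine ⟨fun hh y => e.injective (by rw [map_mul, map_mul]; exact hh (e y)), fun hh y => ?_⟩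
    obtain ⟨y, rfl⟩ := e.surjective y
    rw [← map_mul, ← map_mul, hh]
  · obtain ⟨x, rfl⟩ := e.surjective x
    rw [← map_mul, ← e.map_one, e.injective.eq_iff, e.injective.eq_iff]
    exact h.sq x

variable {G : Type*} [Group G] [Finite G] {z : G} {Q : Subgroup (Subgroup.centralizer ({z} : Set G))} [Q.Normal]

namespace Sev

variable {D : Data z Q} (S : Sev D)

/-- The element of order seven in the group. -/
abbrev bG : G := (S.β : G)

/-- The group of order seven. -/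
abbrev B : Subgroup G := Subgroup.zpowers S.bG

/-- Its centraliser. -/
abbrev X : Subgroup G := Subgroup.centralizer ((S.B : Subgroup G) : Set G)

/-- The group of order seven inside its centraliser. -/
abbrev N : Subgroup ↥S.X := S.B.subgroupOf S.X

theorem mem_X {x : G} : x ∈ S.X ↔ x * S.bG = S.bG * x := by
  refine ⟨fun h => (Subgroup.mem_centralizer_iff.mp h S.bG (Subgroup.mem_zpowers _)).symm,
    fun h => Subgroup.mem_centralizer_iff.mpr ?_⟩
  rintro y ⟨k, rfl⟩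
  exact ((show Commute x S.bG from h).zpow_right k).eq.symm

theorem N_normal : S.N.Normal := ⟨fun n hn x => by
  have h : (n : G) * (x : G) = (x : G) * (n : G) := Subgroup.mem_centralizer_iff.mp x.2 _ hn
  show (x : G) * (n : G) * (x : G)⁻¹ ∈ S.B
  rw [← h, mul_inv_cancel_right]
  exact hn⟩

theorem bG_pow : S.bG ^ 7 = 1 := by
  show ((S.β : Cz z) : G) ^ 7 = 1
  rw [← SubgroupClass.coe_pow, S.pow7]; rfl

theorem B_pow {b : G} (hb : b ∈ S.B) : b ^ 7 = 1 := by
  obtain ⟨k, rfl⟩ := hb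
  show (S.bG ^ k) ^ 7 = 1
  rw [← zpow_natCast, ← zpow_mul, mul_comm, zpow_mul, zpow_natCast, S.bG_pow, one_zpow]

theorem B_two {b : G} (hb : b ∈ S.B) (h2 : b * b = 1) : b = 1 := by
  have h7 := S.B_pow hb
  rwa [show 7 = 2 * 3 + 1 from rfl, pow_succ, pow_mul, pow_two, h2, one_pow, one_mul] at h7

theorem z_mem : z ∈ S.X := S.mem_X.mpr (Subgroup.mem_centralizer_singleton_iff.mp S.β.2).symm

theorem zz (D : Data z Q) : z * z = 1 := by rw [← pow_two, ← D.set'.1, pow_orderOf_eq_one]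

/-- The centraliser inside `C`. -/
abbrev CD : Subgroup (Cz z) := Subgroup.centralizer ({S.β} : Set (Cz z))

theorem cd_mem (d : ↥S.CD) : ((d : Cz z) : G) ∈ S.X :=
  S.mem_X.mpr (congrArg Subtype.val (Subgroup.mem_centralizer_singleton_iff.mp d.2))

theorem q_mem {q : Q} (hq : (q : Cz z) ∈ S.R) : ((q : Cz z) : G) ∈ S.X :=
  S.mem_X.mpr (congrArg Subtype.val (S.mem_R.mp hq).2).symm

theorem ext2R : Ext2 ↥S.R ⟨(D.zq : Cz z), S.zq_mem_R⟩ := by
  refine ⟨fun h => D.ext2.ne (Subtype.ext (congrArg (fun r : ↥S.R => (r : Cz z)) h)), fun r => ⟨fun hr => ?_, ?_⟩,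
    fun r => ?_⟩
  · set q : Q := ⟨(r : Cz z), (S.mem_R.mp r.2).1⟩
    obtain ⟨v, hv⟩ := D.iso.2.1 (QuotientGroup.mk q)
    obtain ⟨m, hm, hcg⟩ := (S.fix_iff hv).mp (S.mem_R.mp r.2).2
    have hm0 : m = 0 := by
      by_contra h0
      obtain ⟨j, hj, hip⟩ := sub_ip hm h0
      have hc : q * D.rep (ev' j) = D.rep (ev' j) * q := Subtype.ext
        (congrArg (fun t : ↥S.R => (t : Cz z)) (Subgroup.mem_center_iff.mp hr ⟨_, S.rep_mem_R (ev_mem_P hj)⟩)).symm
      rw [comm_ip hv (D.mk_rep _).symm, ip_cg hcg, hip] at hc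
      exact one_ne_zero hc
    subst hm0
    rw [sub_zero'] at hcg
    have h1 : (QuotientGroup.mk q : Q ⧸ Subgroup.center Q) = 1 := by rw [← hv, ← D.psi_zero, D.psi_cg]; exact hcg
    rcases (D.ext2.center_iff q).mp ((QuotientGroup.eq_one_iff q).mp h1) with e | e
    · exact Or.inl (Subtype.ext (congrArg Subtype.val e : (q : Cz z) = 1))
    · exact Or.inr (Subtype.ext (congrArg Subtype.val e : (q : Cz z) = _))
  · rintro (rfl | rfl)
    · exact one_mem _
    · exact Subgroup.mem_center_iff.mpr fun t => Subtype.ext (Subgroup.mem_center_iff.mp zc_central (t : Cz z))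
  · rcases D.ext2.sq ⟨(r : Cz z), (S.mem_R.mp r.2).1⟩ with e | e
    · exact Or.inl (Subtype.ext (congrArg (fun q : Q => (q : Cz z)) e))
    · exact Or.inr (Subtype.ext (congrArg (fun q : Q => (q : Cz z)) e))

variable [S.N.Normal]

/-- The quotient group. -/
abbrev Gb : Type _ := ↥S.X ⧸ S.N

/-- The image of an element. -/
abbrev im (x : G) (hx : x ∈ S.X) : S.Gb := QuotientGroup.mk ⟨x, hx⟩

/-- The image of `z`. -/
def zb : S.Gb := S.im z S.z_mem

theorem im_eq {x y : G} {hx : x ∈ S.X} {hy : y ∈ S.X} : S.im x hx = S.im y hy ↔ x⁻¹ * y ∈ S.B := by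
  rw [im, im, QuotientGroup.eq, Subgroup.mem_subgroupOf]
  rfl

theorem zb_order : orderOf S.zb = 2 := by
  haveI : Fact (Nat.Prime 2) := ⟨Nat.prime_two⟩
  refine orderOf_eq_prime ?_ ?_
  · show (QuotientGroup.mk ((⟨z, S.z_mem⟩ : ↥S.X) ^ 2) : S.Gb) = 1
    rw [← QuotientGroup.mk_one, show (⟨z, S.z_mem⟩ : ↥S.X) ^ 2 = 1 from
      Subtype.ext (by rw [SubgroupClass.coe_pow, pow_two]; exact zz D)]
  · intro h
    have hz : z ∈ S.B := Subgroup.mem_subgroupOf.mp ((QuotientGroup.eq_one_iff _).mp h)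
    have h1 : z = 1 := S.B_two hz (zz D)
    have h2 := D.set'.1
    rw [h1, orderOf_one] at h2
    norm_num at h2

/-- The map onto the centraliser of the image of `z`. -/
def toC : ↥S.CD →* ↥(Subgroup.centralizer ({S.zb} : Set S.Gb)) :=
  MonoidHom.mk' (fun d => ⟨S.im ((d : Cz z) : G) (S.cd_mem d), Subgroup.mem_centralizer_singleton_iff.mpr (by
      show _ * S.zb = S.zb * _
      rw [zb, im, ← QuotientGroup.mk_mul, ← QuotientGroup.mk_mul]
      exact congrArg QuotientGroup.mk (Subtype.ext (Subgroup.mem_centralizer_singleton_iff.mp (d : Cz z).2)))⟩)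
    fun d d' => Subtype.ext (by rfl)

theorem toC_eq {d d' : ↥S.CD} : S.toC d = S.toC d' ↔ ((d : Cz z) : G)⁻¹ * ((d' : Cz z) : G) ∈ S.B :=
  Subtype.ext_iff.trans S.im_eq

theorem toC_surjective : Function.Surjective S.toC := by
  rintro ⟨y, hy⟩
  obtain ⟨x, rfl⟩ := QuotientGroup.mk_surjective y
  have h := Subgroup.mem_centralizer_singleton_iff.mp hy
  rw [zb, im, ← QuotientGroup.mk_mul, ← QuotientGroup.mk_mul, QuotientGroup.eq, Subgroup.mem_subgroupOf] at h
  simp only [Subgroup.coe_mul, Subgroup.coe_inv] at h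
  obtain ⟨b, hbdef⟩ : ∃ b, b = ((x : G) * z)⁻¹ * (z * (x : G)) := ⟨_, rfl⟩
  have hb : b ∈ S.B := hbdef ▸ h
  have h1 : z * (x : G) = (x : G) * z * b := by rw [hbdef, mul_inv_cancel_left]
  have hbz : b * z = z * b :=
    (Subgroup.mem_centralizer_iff.mp S.z_mem b hb)
  have h2 : z * b * (z * b) = 1 := by
    have e : (x : G)⁻¹ * z * (x : G) = z * b := by rw [mul_assoc, h1, mul_assoc (x : G) z b, inv_mul_cancel_left]
    rw [← e, show (x : G)⁻¹ * z * (x : G) * ((x : G)⁻¹ * z * (x : G)) = (x : G)⁻¹ * (z * z) * (x : G) by group,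
      zz D, mul_one, inv_mul_cancel]
  have hb1 : b = 1 := S.B_two hb (by
    rwa [(show Commute b z from hbz).mul_mul_mul_comm, zz D, one_mul] at h2)
  rw [hb1, mul_one] at h1
  have hxz : (x : G) ∈ Cz z := Subgroup.mem_centralizer_singleton_iff.mpr h1.symm
  have hxd : (⟨(x : G), hxz⟩ : Cz z) ∈ S.CD :=
    Subgroup.mem_centralizer_singleton_iff.mpr (Subtype.ext (S.mem_X.mp x.2))
  exact ⟨⟨_, hxd⟩, Subtype.ext rfl⟩

theorem R_le_CD : S.R ≤ S.CD := inf_le_right

/-- The map of the fixed points. -/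
def toR : ↥S.R →* ↥(Subgroup.centralizer ({S.zb} : Set S.Gb)) := S.toC.comp (Subgroup.inclusion S.R_le_CD)

theorem toR_injective : Function.Injective S.toR := by
  intro r r' h
  have h1 : ((r : Cz z) : G)⁻¹ * ((r' : Cz z) : G) ∈ S.B := S.toC_eq.mp h
  have h2 : ((r : Cz z)⁻¹ * (r' : Cz z)) ^ 7 = 1 := Subtype.ext (S.B_pow h1)
  exact Subtype.ext (inv_mul_eq_one.mp (q_cop D (Q.mul_mem (Q.inv_mem (S.mem_R.mp r.2).1) (S.mem_R.mp r'.2).1) h2))

/-- The image of the fixed points. -/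
def R' : Subgroup ↥(Subgroup.centralizer ({S.zb} : Set S.Gb)) := (Q.subgroupOf S.CD).map S.toC

theorem R'_eq : S.R' = S.toR.range := by
  ext x
  constructor
  · rintro ⟨d, hd, rfl⟩
    exact ⟨⟨(d : Cz z), ⟨hd, d.2⟩⟩, rfl⟩
  · rintro ⟨r, rfl⟩
    exact ⟨_, (S.mem_R.mp r.2).1, rfl⟩

instance : S.R'.Normal := Subgroup.Normal.map inferInstance _ S.toC_surjective

/-- The fixed points and their image. -/
noncomputable def eqR : ↥S.R ≃* ↥S.R' :=
  (MonoidHom.ofInjective S.toR_injective).trans (MulEquiv.subgroupCongr S.R'_eq.symm)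

theorem eqR_val (r : ↥S.R) : ((S.eqR r : ↥S.R') : ↥(Subgroup.centralizer ({S.zb} : Set S.Gb))) = S.toR r := rfl

theorem ext2R' : Ext2 ↥S.R' (S.eqR ⟨(D.zq : Cz z), S.zq_mem_R⟩) := ext2_equiv S.eqR S.ext2R

theorem card_R' : Nat.card ↥S.R' = 128 := by rw [← Nat.card_congr S.eqR.toEquiv, S.card_R]

theorem extraspecial_R' : IsExtraspecial 2 ↥S.R' := by
  obtain ⟨a, ha⟩ : ∃ a : ↥S.R', a ∉ Subgroup.center ↥S.R' := by
    by_contra h
    push Not at h
    have h2 := S.ext2R'.card_center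
    rw [show Subgroup.center ↥S.R' = ⊤ from eq_top_iff.mpr fun x _ => h x, Subgroup.card_top, S.card_R'] at h2
    norm_num at h2
  rw [Subgroup.mem_center_iff] at ha
  push Not at ha
  obtain ⟨b, hb⟩ := ha
  exact CfsgLargeExtra.isExtraspecial_of_ext2 S.ext2R' hb

/-! ### The factor group -/

theorem rho_congr {g g' : ↥CC} (h : (QuotientGroup.mk (g : ↥Co0) : Spor.Co1) = QuotientGroup.mk (g' : ↥Co0)) :
    rho g = rho g' := by
  have hk : g⁻¹ * g' ∈ rho.ker := by
    rw [ker_rho.1, Subgroup.mem_subgroupOf]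
    exact Subgroup.mem_sup_right (QuotientGroup.eq.1 h)
  rw [MonoidHom.mem_ker, map_mul, map_inv, inv_mul_eq_one] at hk
  exact hk

omit [S.N.Normal] in
theorem exists_pi : ∃ π : ↥S.CD →* GL (Fin 3) (ZMod 2), Function.Surjective π ∧
    (∀ d, π d = 1 → ∃ i : ℕ, (d : Cz z) * (S.β ^ i)⁻¹ ∈ Q) ∧
    (∀ (d : ↥S.CD) (i : ℕ), (d : Cz z) * (S.β ^ i)⁻¹ ∈ Q → π d = 1) ∧
    ∀ (d : ↥S.CD) (g : ↥CC), D.e (QuotientGroup.mk (d : Cz z)) = QuotientGroup.mk (g : ↥Co0) → π d = rho g := by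
  have hex : ∀ d : ↥S.CD, ∃ g : ↥CC, D.e (QuotientGroup.mk (d : Cz z)) = QuotientGroup.mk (g : ↥Co0) := fun d => by
    obtain ⟨g, hg⟩ := QuotientGroup.mk_surjective (D.e (QuotientGroup.mk (d : Cz z)))
    exact ⟨⟨g, S.image_comm hg.symm (Subgroup.mem_centralizer_singleton_iff.mp d.2)⟩, hg.symm⟩
  choose gg hgg using hex
  refine ⟨MonoidHom.mk' (fun d => rho (gg d)) (fun d d' => ?_), fun u => ?_, fun d hd => ?_, fun d i hi => ?_,
    fun d g hg => rho_congr ((hgg d).symm.trans hg)⟩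
  · rw [← map_mul]
    refine rho_congr ((hgg _).symm.trans ?_)
    rw [Subgroup.coe_mul, QuotientGroup.mk_mul, map_mul, hgg d, hgg d']; rfl
  · obtain ⟨g, rfl⟩ := rho_surjective u
    obtain ⟨x, hxe, hxc⟩ := S.exists_lift (g := (g : ↥Co0)) (j := 1) (by
      rw [mem_CC.mp g.2, mul_inv_cancel_right, pow_one])
    rw [pow_one] at hxc
    refine ⟨⟨x, Subgroup.mem_centralizer_singleton_iff.mpr (mul_inv_eq_iff_eq_mul.mp hxc)⟩, ?_⟩
    exact rho_congr ((hgg _).symm.trans hxe)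
  · have hk : gg d ∈ rho.ker := hd
    rw [ker_rho.1, Subgroup.mem_subgroupOf] at hk
    have h1 : (QuotientGroup.mk (gg d : ↥Co0) : Spor.Co1) ∈ Subgroup.zpowers (QuotientGroup.mk p7 : Spor.Co1) := by
      have h2 := Subgroup.mem_map_of_mem (QuotientGroup.mk' (Subgroup.center ↥Co0)) hk
      rwa [Subgroup.map_sup, MonoidHom.map_zpowers, QuotientGroup.map_mk'_self, sup_bot_eq] at h2
    obtain ⟨i, -, hi⟩ := mem_pow (by rw [← QuotientGroup.mk_pow, p7_pow_seven]; rfl) h1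
    refine ⟨i, (QuotientGroup.eq_one_iff _).mp (D.e.injective ?_)⟩
    rw [QuotientGroup.mk_mul, QuotientGroup.mk_inv, QuotientGroup.mk_pow, map_mul, map_inv, map_pow, S.eβ, hgg d, hi,
      mul_inv_cancel]
    exact (map_one D.e).symm
  · show rho (gg d) = 1
    have h1 := congrArg D.e ((QuotientGroup.eq_one_iff _).mpr hi)
    rw [QuotientGroup.mk_mul, QuotientGroup.mk_inv, QuotientGroup.mk_pow, map_mul, map_inv, map_pow, S.eβ, hgg d,
      map_one, mul_inv_eq_one, ← QuotientGroup.mk_pow] at h1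
    have hk : (⟨p7, p7_mem⟩ : ↥CC) ^ i ∈ rho.ker := by
      refine pow_mem ?_ i
      rw [ker_rho.1, Subgroup.mem_subgroupOf]
      exact Subgroup.mem_sup_left (Subgroup.mem_zpowers p7)
    rw [rho_congr (g := gg d) (g' := ⟨p7, p7_mem⟩ ^ i) (by rw [h1]; rfl)]
    exact hk

theorem exists_F : ∃ (π : ↥S.CD →* GL (Fin 3) (ZMod 2))
    (F : ↥(Subgroup.centralizer ({S.zb} : Set S.Gb)) →* GL (Fin 3) (ZMod 2)), Function.Surjective F ∧ F.ker = S.R' ∧
    (∀ d, F (S.toC d) = π d) ∧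
    ∀ (d : ↥S.CD) (g : ↥CC), D.e (QuotientGroup.mk (d : Cz z)) = QuotientGroup.mk (g : ↥Co0) → π d = rho g := by
  obtain ⟨π, hs, hk1, hk2, hπ⟩ := S.exists_pi
  have hker : S.toC.ker ≤ π.ker := fun d hd => by
    rw [MonoidHom.mem_ker, eq_comm, ← map_one S.toC, S.toC_eq] at hd
    simp only [OneMemClass.coe_one, inv_one, one_mul] at hd
    obtain ⟨i, -, hi⟩ := mem_pow S.bG_pow hd
    refine hk2 d i ?_
    rw [show (d : Cz z) = S.β ^ i from Subtype.ext (by rw [SubgroupClass.coe_pow]; exact hi), mul_inv_cancel]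
    exact one_mem _
  set F := S.toC.liftOfSurjective S.toC_surjective ⟨π, hker⟩
  have hFd : ∀ d, F (S.toC d) = π d := fun d =>
    MonoidHom.liftOfRightInverse_comp_apply _ _ _ ⟨π, hker⟩ d
  refine ⟨π, F, fun u => by obtain ⟨d, rfl⟩ := hs u; exact ⟨_, hFd d⟩, ?_, hFd, hπ⟩
  ext x
  obtain ⟨d, rfl⟩ := S.toC_surjective x
  rw [MonoidHom.mem_ker, hFd]
  constructor
  · intro hd
    obtain ⟨i, hi⟩ := hk1 d hd
    have hbc : S.β ^ i ∈ S.CD :=
      Subgroup.mem_centralizer_singleton_iff.mpr (Commute.pow_self S.β i).eq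
    refine ⟨d * (⟨_, hbc⟩ : ↥S.CD)⁻¹, hi, ?_⟩
    rw [S.toC_eq]
    simp only [Subgroup.coe_mul, Subgroup.coe_inv, SubgroupClass.coe_pow]
    rw [mul_inv_rev, inv_inv, mul_assoc, inv_mul_cancel, mul_one]
    exact Subgroup.npow_mem_zpowers _ i
  · rintro ⟨d', hd', he⟩
    rw [← hFd, ← he, hFd]
    exact hk2 d' 0 (by rw [pow_zero, inv_one, mul_one]; exact hd')

theorem centralizer_R' : Subgroup.centralizer (S.R' : Set ↥(Subgroup.centralizer ({S.zb} : Set S.Gb))) ≤ S.R' := by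
  obtain ⟨π, F, -, hFk, hFd, hπ⟩ := S.exists_F
  intro x hx
  obtain ⟨d, rfl⟩ := S.toC_surjective x
  rw [← hFk, MonoidHom.mem_ker, hFd]
  obtain ⟨g, hg⟩ := QuotientGroup.mk_surjective (D.e (QuotientGroup.mk (d : Cz z)))
  have hgC : g ∈ CC := S.image_comm hg.symm (Subgroup.mem_centralizer_singleton_iff.mp d.2)
  rw [hπ d ⟨g, hgC⟩ hg.symm]
  refine Units.ext (kills fun j hj => ?_)
  have hjP : aV j ∈ P := abV_P (by omega)
  have hr := S.rep_mem_R hjP
  set r : Q := D.rep (aV j)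
  obtain ⟨d₀, hd₀⟩ : ∃ d₀ : ↥S.CD, (d₀ : Cz z) = (r : Cz z) := ⟨⟨_, S.R_le_CD hr⟩, rfl⟩
  have hcm := Subgroup.mem_centralizer_iff.mp hx (S.toC d₀) ⟨d₀, by rw [SetLike.mem_coe, Subgroup.mem_subgroupOf, hd₀]; exact r.2, rfl⟩
  have hconj : d * d₀ * d⁻¹ ∈ Q.subgroupOf S.CD :=
    (inferInstance : (Q.subgroupOf S.CD).Normal).conj_mem _ (by rw [Subgroup.mem_subgroupOf, hd₀]; exact r.2) d
  have he : S.toR ⟨(r : Cz z), hr⟩ = S.toR ⟨((d * d₀ * d⁻¹ : ↥S.CD) : Cz z), ⟨hconj, (d * d₀ * d⁻¹).2⟩⟩ := by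
    show S.toC ⟨(r : Cz z), _⟩ = S.toC (d * d₀ * d⁻¹)
    rw [show (⟨(r : Cz z), S.R_le_CD hr⟩ : ↥S.CD) = d₀ from Subtype.ext hd₀.symm, map_mul, map_mul, map_inv, ← hcm,
      mul_inv_cancel_right]
  have he2 : (r : Cz z) = (d : Cz z) * (d₀ : Cz z) * (d : Cz z)⁻¹ :=
    congrArg Subtype.val (S.toR_injective he)
  have h1 := D.iso.2.2.2 (d : Cz z) g hg (aV j) r (D.mk_rep _).symm
  refine D.psi_cg.mp (h1.trans ?_)
  rw [← D.mk_rep]
  refine congrArg QuotientGroup.mk (Subtype.ext ?_)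
  show (d : Cz z) * (r : Cz z) * (d : Cz z)⁻¹ = (r : Cz z)
  rw [hd₀] at he2
  exact he2.symm

theorem two_R' : IsPGroup 2 ↥S.R' := S.ext2R'.isPGroup

theorem pCore_R' : pCore 2 ↥(Subgroup.centralizer ({S.zb} : Set S.Gb)) = S.R' := by
  obtain ⟨π, F, hFs, hFk, -, -⟩ := S.exists_F
  haveI : Fact (Nat.Prime 2) := ⟨Nat.prime_two⟩
  refine le_antisymm ?_ (CfsgLib.le_pCore S.two_R')
  rw [← hFk, ← Subgroup.map_eq_bot_iff]
  haveI := CfsgLib.Order168.gl32.1
  have hn : ((pCore 2 ↥(Subgroup.centralizer ({S.zb} : Set S.Gb))).map F).Normal :=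
    Subgroup.Normal.map inferInstance F hFs
  rcases hn.eq_bot_or_eq_top with h | h
  · exact h
  · exfalso
    have h2 := (CfsgLib.isPGroup_pCore (G := ↥(Subgroup.centralizer ({S.zb} : Set S.Gb))) 2).map F
    rw [h] at h2
    obtain ⟨k, hk⟩ := h2.exists_card_eq
    rw [Subgroup.card_top, CfsgLib.Order168.gl32.2] at hk
    have : (7 : ℕ) ∣ 2 ^ k := ⟨24, by omega⟩
    have := (show Nat.Prime 7 by norm_num).dvd_of_dvd_pow this
    norm_num at this

theorem gfit_R' : generalizedFittingSubgroup ↥(Subgroup.centralizer ({S.zb} : Set S.Gb)) = S.R' := by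
  haveI : Fact (Nat.Prime 2) := ⟨Nat.prime_two⟩
  rw [(CfsgLib.Comp.gfit_eq_pCore_iff 2).mpr (by rw [S.pCore_R']; exact S.centralizer_R'), S.pCore_R']

/-! ### Fusion -/

theorem conj_zb {q : Q} (hq : (q : Cz z) ∈ S.R) (h : IsConj z ((q : Cz z) : G)) :
    IsConj S.zb (S.im _ (S.q_mem hq)) := by
  obtain ⟨n, hn, hnz⟩ := S.exists_fusing hq h
  refine isConj_iff.mpr ⟨S.im n (S.mem_X.mpr hn), ?_⟩
  rw [zb, im, im, ← QuotientGroup.mk_inv, ← QuotientGroup.mk_mul, ← QuotientGroup.mk_mul]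
  exact congrArg QuotientGroup.mk (Subtype.ext hnz)

theorem conj_of_conj_zb {q : Q} (hq : (q : Cz z) ∈ S.R) (h : IsConj S.zb (S.im _ (S.q_mem hq))) :
    IsConj z ((q : Cz z) : G) := by
  obtain ⟨y, hy⟩ := isConj_iff.mp h
  obtain ⟨x, rfl⟩ := QuotientGroup.mk_surjective y
  rw [zb, im, ← QuotientGroup.mk_inv, ← QuotientGroup.mk_mul, ← QuotientGroup.mk_mul, QuotientGroup.eq,
    Subgroup.mem_subgroupOf] at hy
  simp only [Subgroup.coe_mul, Subgroup.coe_inv] at hy
  obtain ⟨c, hc⟩ : ∃ c : G, c = (x : G) * z * (x : G)⁻¹ := ⟨_, rfl⟩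
  rw [← hc] at hy
  have hcc : c * c = 1 := by
    rw [hc, show (x : G) * z * (x : G)⁻¹ * ((x : G) * z * (x : G)⁻¹) = (x : G) * (z * z) * (x : G)⁻¹ by group,
      zz D, mul_one, mul_inv_cancel]
  obtain ⟨b, hb, hqb⟩ : ∃ b ∈ S.B, ((q : Cz z) : G) = c * b :=
    ⟨_, hy, by rw [mul_inv_cancel_left]⟩
  have hcb : Commute c b := by
    have hcX : c ∈ S.X := hc ▸ S.X.mul_mem (S.X.mul_mem x.2 S.z_mem) (S.X.inv_mem x.2)
    exact (Subgroup.mem_centralizer_iff.mp hcX b hb).symm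
  have hb1 : b = 1 := by
    have h4 : ((q : Cz z) : G) ^ 4 = 1 := congrArg (fun t : Q => ((t : Cz z) : G)) (D.ext2.pow_four q)
    rw [hqb, hcb.mul_pow, show c ^ 4 = 1 by rw [show 4 = 2 * 2 from rfl, pow_mul, show c ^ 2 = 1 by rw [pow_two, hcc], one_pow], one_mul] at h4
    have h7 := S.B_pow hb
    have h8 : b ^ 8 = b := by rw [pow_succ, h7, one_mul]
    rw [← h8, show (8 : ℕ) = 4 * 2 from rfl, pow_mul, h4, one_pow]
  rw [hb1, mul_one] at hqb
  exact isConj_iff.mpr ⟨(x : G), by rw [hqb, hc]⟩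

/-- The conjugates of the image of `z` in `R'`, by an index. -/
noncomputable def conjMap : Option (Fin 14 × Bool) → ↥S.R
  | none => ⟨(D.zq : Cz z), S.zq_mem_R⟩
  | some (k, b) => ⟨(D.rep (abV k.val) : Cz z) * cond b (D.zq : Cz z) 1,
      S.R.mul_mem (S.rep_mem_R (abV_P k.isLt)) (by cases b; exacts [one_mem _, S.zq_mem_R])⟩

omit [S.N.Normal] in
theorem conjMap_some (k : Fin 14) (b : Bool) : ∃ q : Q, (q : Cz z) = (S.conjMap (some (k, b)) : Cz z) ∧
    D.ψ (abV k.val) = QuotientGroup.mk q := by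
  refine ⟨D.rep (abV k.val) * cond b D.zq 1, ?_, ?_⟩
  · cases b <;> rfl
  · rw [QuotientGroup.mk_mul, D.mk_rep, (QuotientGroup.eq_one_iff _).mpr, mul_one]
    cases b
    · exact one_mem _
    · exact (D.ext2.center_iff _).mpr (Or.inr rfl)

theorem count : Set.ncard {x : ↥(Subgroup.centralizer ({S.zb} : Set S.Gb)) |
    x ∈ S.R' ∧ IsConj S.zb (x : S.Gb)} = 29 := by
  classical
  have hinj : Function.Injective (fun o => S.toR (S.conjMap o)) := by
    refine S.toR_injective.comp ?_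
    rintro (_ | ⟨k, b⟩) (_ | ⟨l, c⟩) h
    · rfl
    · exfalso
      obtain ⟨q, hq, hv⟩ := S.conjMap_some l c
      exact (D.conj_of_norm64 (ab_facts l.isLt).2.2.1 hv).2 (by rw [hq, ← h]; exact D.coe_zq)
    · exfalso
      obtain ⟨q, hq, hv⟩ := S.conjMap_some k b
      exact (D.conj_of_norm64 (ab_facts k.isLt).2.2.1 hv).2 (by rw [hq, h]; exact D.coe_zq)
    · obtain ⟨q, hq, hv⟩ := S.conjMap_some k b
      obtain ⟨q', hq', hv'⟩ := S.conjMap_some l c
      have he : q = q' := Subtype.ext (by rw [hq, hq', h])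
      subst he
      have hcg := D.psi_cg.mp (hv.trans hv'.symm)
      have hm := sub_inj (ab_facts k.isLt).2.2.2 (ab_facts l.isLt).2.2.2
        (((ab_facts k.isLt).2.1.symm'.trans' hcg).trans' (ab_facts l.isLt).2.1)
      have hkl : k = l := by
        have hnd : ∀ i j : Fin 14, abM.getD i.val 0 = abM.getD j.val 0 → i = j := by decide +kernel
        exact hnd k l hm
      subst hkl
      have h2 : (D.rep (abV k.val) : Cz z) * cond b (D.zq : Cz z) 1 =
          (D.rep (abV k.val) : Cz z) * cond c (D.zq : Cz z) 1 := congrArg Subtype.val h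
      have h3 := mul_left_cancel h2
      cases b <;> cases c
      · rfl
      · exact absurd (Subtype.ext h3.symm : D.zq = 1) D.ext2.ne
      · exact absurd (Subtype.ext h3 : D.zq = 1) D.ext2.ne
      · rfl
  have hset : {x : ↥(Subgroup.centralizer ({S.zb} : Set S.Gb)) | x ∈ S.R' ∧ IsConj S.zb (x : S.Gb)} =
      Set.range fun o => S.toR (S.conjMap o) := by
    ext x
    constructor
    · rintro ⟨hx, hc⟩
      rw [R'_eq] at hx
      obtain ⟨r, rfl⟩ := hx
      set q : Q := ⟨(r : Cz z), (S.mem_R.mp r.2).1⟩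
      have hconj : IsConj z ((q : Cz z) : G) := S.conj_of_conj_zb (q := q) r.2 hc
      by_cases hne : ((q : Cz z) : G) = z
      · refine ⟨none, congrArg S.toR (Subtype.ext (Subtype.ext ?_))⟩
        exact D.coe_zq.trans hne.symm
      obtain ⟨k, hk, hv⟩ := (S.fixed_conj_iff (q := q) r.2).mp ⟨hconj, hne⟩
      rcases D.mk_eq_mk.mp ((D.mk_rep _).trans hv) with e | e
      · exact ⟨some (⟨k, hk⟩, false), congrArg S.toR (Subtype.ext (by
          show (D.rep (abV k) : Cz z) * 1 = _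
          rw [mul_one]; exact (congrArg Subtype.val e).symm))⟩
      · exact ⟨some (⟨k, hk⟩, true), congrArg S.toR (Subtype.ext (congrArg Subtype.val e).symm)⟩
    · rintro ⟨o, rfl⟩
      refine ⟨by rw [R'_eq]; exact ⟨_, rfl⟩, ?_⟩
      rcases o with _ | ⟨k, b⟩
      · exact IsConj.refl _
      · obtain ⟨q, hq, hv⟩ := S.conjMap_some k b
        have hqR : (q : Cz z) ∈ S.R := hq ▸ (S.conjMap (some (k, b))).2
        have := S.conj_zb hqR (D.conj_of_norm64 (ab_facts k.isLt).2.2.1 hv).1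
        convert this using 1
        exact congrArg QuotientGroup.mk (Subtype.ext (congrArg Subtype.val hq).symm)
  rw [hset, Set.ncard_range_of_injective hinj, Nat.card_eq_fintype_card]
  rfl

/-- The image of the marked conjugate. -/
theorem a_mem_R : (S.a : Cz z) ∈ S.R := S.mem_R.mpr ⟨S.a.2, S.comm⟩

/-- The group of Held type. -/
theorem held : IsOfHeldType S.Gb := by
  refine ⟨S.zb, S.R', inferInstance, ⟨S.zb_order, S.gfit_R', S.extraspecial_R', by rw [S.card_R']; norm_num, ?_⟩, ?_,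
    S.count⟩
  · obtain ⟨n, hn⟩ := isConj_iff.mp (S.conj_zb S.a_mem_R S.a_facts.1)
    refine ⟨n, ⟨?_, ?_⟩, ?_⟩
    · rw [hn]
      exact (S.toR ⟨_, S.a_mem_R⟩).2
    · simp only [hn]
      rw [R'_eq]
      exact ⟨⟨_, S.a_mem_R⟩, rfl⟩
    · rw [hn, zb, im, im, ← im, ← im]
      intro he
      rw [S.im_eq] at he
      have h2 : (((S.a : Cz z) : G)⁻¹ * z) = 1 := by
        have h := S.B_pow he
        have hc : Commute ((S.a : Cz z) : G)⁻¹ z :=
          (show Commute ((S.a : Cz z) : G) z from Subgroup.mem_centralizer_singleton_iff.mp (S.a : Cz z).2).inv_left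
        exact congrArg Subtype.val (q_cop D (q := (S.a : Cz z)⁻¹ * zc z) (Q.mul_mem (Q.inv_mem S.a.2) D.zc_mem)
          (Subtype.ext h))
      exact S.a_facts.2 (inv_mul_eq_one.mp h2)
  · obtain ⟨π, F, hFs, hFk, -, -⟩ := S.exists_F
    have hu : Function.Bijective (Matrix.SpecialLinearGroup.toGL :
        Matrix.SpecialLinearGroup (Fin 3) (ZMod 2) → GL (Fin 3) (ZMod 2)) := by
      refine ⟨Matrix.SpecialLinearGroup.toGL_injective, fun g => ⟨⟨g.1, ?_⟩, Units.ext rfl⟩⟩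
      exact CfsgLib.Order168.units_two (Matrix.GeneralLinearGroup.det g)
    exact ⟨((QuotientGroup.quotientMulEquivOfEq hFk.symm).trans (QuotientGroup.quotientKerEquivOfSurjective F hFs)).trans
      (MulEquiv.ofBijective _ hu).symm⟩

end Sev

end CfsgLib.MonsterQ.Seven
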