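/-
Groups of Monster type: an involution of the centraliser of `z` inverting the element of order seven.
-/
import Cfsg.Agent.Lib.MonsterQ.Seven.Setup

set_option autoImplicit false
set_option maxRecDepth 100000

namespace CfsgLib.MonsterQ.Seven

open Cfsg CfsgGolay CfsgLeech CfsgLib.ExtraTwo
open scoped Pointwise commutatorElement

attribute [local irreducible] codeL octadL dodecadL slpCodes r7

/-- The sum over the powers of the permutation of order seven. -/
noncomputable def avg (x : ↥leechLattice) : ↥leechLattice := ∑ n ∈ Finset.range 7, p7 ^ n • x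

theorem avg_add (x y : ↥leechLattice) : avg (x + y) = avg x + avg y := by
  rw [avg, avg, avg, ← Finset.sum_add_distrib]
  exact Finset.sum_congr rfl fun n _ => aut_add _ _ _

theorem avg_fixed (x : ↥leechLattice) : p7 • avg x = avg x := by
  refine (map_sum (autHom p7) _ _).trans ?_
  show ∑ n ∈ Finset.range 7, p7 • p7 ^ n • x = avg x
  simp only [← mul_smul, ← pow_succ']
  have h1 := Finset.sum_range_succ (fun n => p7 ^ n • x) 7
  have h2 := Finset.sum_range_succ' (fun n => p7 ^ n • x) 7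
  rw [p7_pow_seven] at h1
  simp only [pow_zero] at h2
  rw [h2] at h1
  exact add_right_cancel h1

theorem Cg_odd (c : ↥leechLattice) : Cg ((7 : ℕ) • c) c := ⟨(3 : ℕ) • c, by abel⟩

theorem avg_of_fixed {c : ↥leechLattice} (h : Cg (p7 • c) c) : Cg (avg c) c := by
  have hn : ∀ n, Cg (p7 ^ n • c) c := by
    intro n
    induction n with
    | zero => rw [pow_zero, one_smul]; exact Cg.refl' c
    | succ n ih => rw [pow_succ', mul_smul]; exact (Cg.map' p7 ih).trans' h
  have h7 : ∀ N, Cg (∑ n ∈ Finset.range N, p7 ^ n • c) (N • c) := by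
    intro N
    induction N with
    | zero => simpa using Cg.refl' (0 : ↥leechLattice)
    | succ N ih => rw [Finset.sum_range_succ, succ_nsmul]; exact Cg_add ih (hn N)
  exact (h7 7).trans' (Cg_odd c)

theorem uI_pow (n : ℕ) : uI * p7 ^ n = p7⁻¹ ^ n * uI :=
  (show SemiconjBy uI p7 p7⁻¹ from uI_inv).pow_right n

theorem pow_inv_seven {n : ℕ} (hn : n ≤ 7) : p7⁻¹ ^ n = p7 ^ (7 - n) := by
  rw [inv_pow, inv_eq_iff_mul_eq_one, ← pow_add, show n + (7 - n) = 7 by omega, p7_pow_seven]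

theorem avg_uI (x : ↥leechLattice) : avg (uI • x) = uI • avg x := by
  have h : uI • avg x = p7 • avg (uI • x) := by
    rw [avg, show uI • ∑ n ∈ Finset.range 7, p7 ^ n • x = autHom uI (∑ n ∈ Finset.range 7, p7 ^ n • x) from rfl,
      map_sum, show p7 • avg (uI • x) = autHom p7 (∑ n ∈ Finset.range 7, p7 ^ n • uI • x) from rfl, map_sum,
      ← Finset.sum_range_reflect (fun n => autHom p7 (p7 ^ n • uI • x)) 7]
    refine Finset.sum_congr rfl fun n hn => ?_
    rw [Finset.mem_range] at hn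
    show uI • p7 ^ n • x = p7 • p7 ^ (7 - 1 - n) • uI • x
    rw [← mul_smul, uI_pow, pow_inv_seven hn.le, mul_smul, ← mul_smul p7, ← pow_succ',
      show 7 - 1 - n + 1 = 7 - n by omega]
  rw [h, avg_fixed]

variable {G : Type*} [Group G] [Finite G] {z : G} {Q : Subgroup (Subgroup.centralizer ({z} : Set G))} [Q.Normal]

namespace Sev

variable {D : Data z Q} (S : Sev D)

/-- An involution of the centraliser of `z` over the inverting element of the lattice. -/
theorem exists_inv_lift (S : Sev D) : ∃ i : Cz z, i * i = 1 ∧ D.e (QuotientGroup.mk i) = QuotientGroup.mk uI := by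
  obtain ⟨g, hg⟩ := isConj_iff.mp S.a_facts.1
  obtain ⟨-, v, g₀, hv, -, hg₀, hcard, himg⟩ := D.main hg S.a_facts.2
  have hg₀m : (QuotientGroup.mk g₀ : Spor.Co1) ∈ modImg (ax none) := mem_modImg.2 (by
    rw [hg₀]; exact D.psi_cg.mp (hv.trans S.vec.symm))
  obtain ⟨h, hh⟩ := uI_sign
  obtain ⟨y, hy⟩ : ∃ y : Spor.Co1, y = QuotientGroup.mk (h * uI * h⁻¹) := ⟨_, rfl⟩
  have hys : y ∈ signImg := hy ▸ ⟨_, hh, rfl⟩
  have hx : (QuotientGroup.mk g₀ : Spor.Co1)⁻¹ * y * QuotientGroup.mk g₀ ∈ signImg := by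
    have := signImg_normal ((modImg (ax none)).inv_mem hg₀m) hys
    rwa [inv_inv] at this
  have hmem : D.e.symm y ∈ (Qc Q g).map (QuotientGroup.mk' Q) := by
    rw [himg]
    refine ⟨_, hx, ?_⟩
    simp only [Data.phi, MulEquiv.coe_toMonoidHom, MulEquiv.trans_apply, MulAut.conj_apply]
    congr 1
    group
  obtain ⟨i₁, hi₁, hi₁e⟩ := hmem
  obtain ⟨p, hp, hpe⟩ := mem_Qc.mp hi₁
  set p' : Q := ⟨p, hp⟩
  -- the part of `Q` carried into `Q`
  let f : ↥Q →* G := (MulAut.conj g).toMonoidHom.comp ((Cz z).subtype.comp Q.subtype)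
  set E : Subgroup ↥Q := (Q.map (Cz z).subtype).comap f with hE
  have hEmem : ∀ e : Q, e ∈ E ↔ ∃ k : Q, g * ((e : Cz z) : G) * g⁻¹ = ((k : Cz z) : G) := fun e => by
    constructor
    · rintro ⟨k, hk, he⟩; exact ⟨⟨k, hk⟩, he.symm⟩
    · rintro ⟨k, he⟩; exact ⟨k, k.2, he.symm⟩
  have hEc : Nat.card ↥E = 2 ^ 13 := by
    rw [← hcard]
    refine Nat.card_congr (Equiv.ofBijective (fun e => ⟨⟨g * (((e : Q) : Cz z) : G) * g⁻¹, ?_⟩, ?_, ?_⟩) ⟨?_, ?_⟩)
    · obtain ⟨k, hk⟩ := (hEmem e).mp e.2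
      rw [hk]; exact (k : Cz z).2
    · obtain ⟨k, hk⟩ := (hEmem e).mp e.2
      show (⟨g * (((e : Q) : Cz z) : G) * g⁻¹, _⟩ : Cz z) ∈ Q
      rw [show (⟨g * (((e : Q) : Cz z) : G) * g⁻¹, _⟩ : Cz z) = (k : Cz z) from Subtype.ext hk]
      exact k.2
    · exact mem_Qc.mpr ⟨_, (e : Q).2, rfl⟩
    · intro e e' he
      have h1 : g * (((e : Q) : Cz z) : G) * g⁻¹ = g * (((e' : Q) : Cz z) : G) * g⁻¹ :=
        congrArg (fun t : ↥(Q ⊓ Qc Q g) => ((t : Cz z) : G)) he
      exact Subtype.ext (Subtype.ext (Subtype.ext (mul_left_cancel (mul_right_cancel h1))))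
    · rintro ⟨x, hxQ, hxc⟩
      obtain ⟨q, hq, hqe⟩ := mem_Qc.mp hxc
      exact ⟨⟨⟨q, hq⟩, (hEmem _).mpr ⟨⟨x, hxQ⟩, hqe⟩⟩, Subtype.ext (Subtype.ext hqe)⟩
  have hEa : ∀ e ∈ E, ∀ e' ∈ E, e * e' = e' * e ∧ e * e = 1 := by
    intro e he e' he'
    obtain ⟨k, hk⟩ := (hEmem e).mp he
    obtain ⟨k', hk'⟩ := (hEmem e').mp he'
    obtain ⟨h1, h2⟩ := D.qc_comm_sq hg S.a_facts.2 k k' (mem_Qc.mpr ⟨_, e.2, hk⟩) (mem_Qc.mpr ⟨_, e'.2, hk'⟩)
    constructor
    · refine Subtype.ext (Subtype.ext ((MulAut.conj g).injective ?_))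
      simp only [MulAut.conj_apply, Subgroup.coe_mul]
      have h1' : ((k : Cz z) : G) * ((k' : Cz z) : G) = ((k' : Cz z) : G) * ((k : Cz z) : G) :=
        congrArg (fun t : Q => ((t : Cz z) : G)) h1
      rw [← hk, ← hk'] at h1'
      calc g * (((e : Cz z) : G) * ((e' : Cz z) : G)) * g⁻¹
          = g * ((e : Cz z) : G) * g⁻¹ * (g * ((e' : Cz z) : G) * g⁻¹) := by group
        _ = _ := by rw [h1']; group
    · refine Subtype.ext (Subtype.ext ((MulAut.conj g).injective ?_))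
      simp only [MulAut.conj_apply, Subgroup.coe_mul, Subgroup.coe_one]
      have h2' : ((k : Cz z) : G) * ((k : Cz z) : G) = 1 := congrArg (fun t : Q => ((t : Cz z) : G)) h2
      rw [← hk] at h2'
      calc g * (((e : Cz z) : G) * ((e : Cz z) : G)) * g⁻¹
          = g * ((e : Cz z) : G) * g⁻¹ * (g * ((e : Cz z) : G) * g⁻¹) := by group
        _ = _ := by rw [h2']; group
  have hzE : D.zq ∈ E := (hEmem _).mpr ⟨S.a, by rw [D.coe_zq]; exact hg⟩
  -- an involution in the coset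
  obtain ⟨p₁, hp₁, e, he, rfl⟩ : ∃ p₁ : Q, p₁ * p₁ = 1 ∧ ∃ e ∈ E, p₁ = p' * e := by
    rcases D.ext2.sq p' with hsq | hsq
    · exact ⟨p', hsq, 1, E.one_mem, by rw [mul_one]⟩
    obtain ⟨e, he, hne⟩ : ∃ e ∈ E, p' * e ≠ e * p' := by
      by_contra hall
      push Not at hall
      have hC := D.ext2.card_mul_card_centralizer hzE
      rw [hEc, D.card_Q, show 2 ^ (2 * 12 + 1) * 2 = 2 ^ 13 * 2 ^ 13 by norm_num] at hC
      have hCE : Subgroup.centralizer (E : Set ↥Q) = E := (Subgroup.eq_of_le_of_card_ge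
        (fun x hx => Subgroup.mem_centralizer_iff.mpr fun w hw => (hEa w hw x hx).1)
        (by rw [Nat.eq_of_mul_eq_mul_left (by norm_num) hC, hEc])).symm
      have hpE : p' ∈ E := hCE ▸ Subgroup.mem_centralizer_iff.mpr fun w hw => (hall w hw).symm
      exact D.ext2.ne (hsq.symm.trans (hEa p' hpE p' hpE).2)
    refine ⟨p' * e, ?_, e, he, rfl⟩
    have h1 := D.sqf_mul p' e
    have e1 : D.sqf p' = 1 := by
      unfold Data.sqf; rw [if_neg (by rw [hsq]; exact D.ext2.ne)]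
    have e2 : D.sqf e = 0 := by
      unfold Data.sqf; rw [if_pos (hEa e he e he).2]
    have e3 : D.bf p' e = 1 := by
      unfold Data.bf; rw [if_neg hne]
    rw [e1, e2, e3, show (1 + 0 + 1 : ZMod 2) = 0 by decide] at h1
    by_contra hne'
    unfold Data.sqf at h1
    rw [if_neg hne'] at h1
    exact one_ne_zero h1
  obtain ⟨k, hk⟩ := (hEmem e).mp he
  have hi₂ : (i₁ * (k : Cz z)) * (i₁ * (k : Cz z)) = 1 := by
    refine Subtype.ext ?_
    show (i₁ : G) * ((k : Cz z) : G) * ((i₁ : G) * ((k : Cz z) : G)) = 1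
    rw [← hpe, ← hk]
    have h1 : (p : G) * ((e : Cz z) : G) * ((p : G) * ((e : Cz z) : G)) = 1 :=
      congrArg (fun t : Q => ((t : Cz z) : G)) hp₁
    calc g * (p : G) * g⁻¹ * (g * ((e : Cz z) : G) * g⁻¹) * (g * (p : G) * g⁻¹ * (g * ((e : Cz z) : G) * g⁻¹))
        = g * ((p : G) * ((e : Cz z) : G) * ((p : G) * ((e : Cz z) : G))) * g⁻¹ := by group
      _ = 1 := by rw [h1, mul_one, mul_inv_cancel]
  have hi₂e : D.e (QuotientGroup.mk (i₁ * (k : Cz z))) = y := by
    rw [QuotientGroup.mk_mul, (QuotientGroup.eq_one_iff (k : Cz z)).mpr k.2, mul_one,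
      show (QuotientGroup.mk i₁ : Cz z ⧸ Q) = D.e.symm y from hi₁e, MulEquiv.apply_symm_apply]
  obtain ⟨x, hxe⟩ := D.e.surjective (QuotientGroup.mk h)
  obtain ⟨x, rfl⟩ := QuotientGroup.mk_surjective x
  obtain ⟨m, hm⟩ : ∃ m : Cz z, m = i₁ * (k : Cz z) := ⟨_, rfl⟩
  rw [← hm] at hi₂ hi₂e
  refine ⟨x⁻¹ * m * x, by rw [show x⁻¹ * m * x * (x⁻¹ * m * x) = x⁻¹ * (m * m) * x by group, hi₂]; group, ?_⟩
  simp only [QuotientGroup.mk_mul, QuotientGroup.mk_inv, map_mul, map_inv, hxe, hi₂e, hy]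
  group

/-- An involution of the centraliser of `z` inverting the element of order seven. -/
theorem exists_inverter : ∃ t : Cz z, orderOf t = 2 ∧ t * S.β * t⁻¹ = S.β⁻¹ := by
  have h6 : S.β⁻¹ = S.β ^ 6 :=
    inv_eq_of_mul_eq_one_right (by rw [← pow_succ', show 6 + 1 = 7 from rfl, S.pow7])
  obtain ⟨i, hii, hie⟩ := S.exists_inv_lift
  obtain ⟨u, hue, huc⟩ := S.exists_lift (g := uI) (j := 6) (by
    rw [uI_inv, mul_inv_cancel_right]
    exact inv_eq_of_mul_eq_one_right (by rw [← pow_succ', show 6 + 1 = 7 from rfl, p7_pow_seven]))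
  have hiinv : i⁻¹ = i := inv_eq_of_mul_eq_one_right hii
  have hqQ : i * u ∈ Q := by
    have h : (QuotientGroup.mk i : Cz z ⧸ Q) = QuotientGroup.mk u := D.e.injective (hie.trans hue.symm)
    have := QuotientGroup.eq.1 h
    rwa [hiinv] at this
  set q : Q := ⟨i * u, hqQ⟩
  obtain ⟨v, hv⟩ := D.iso.2.1 (QuotientGroup.mk q)
  have hfP : avg v ∈ P := class_mem (by rw [avg_fixed]; exact Cg.refl' _)
  set r : Q := D.rep (avg v)
  have hr : S.β * (r : Cz z) = (r : Cz z) * S.β := (S.mem_R.mp (S.rep_mem_R hfP)).2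
  set t : Cz z := u * (r : Cz z) with ht
  have htinv : t * S.β * t⁻¹ = S.β⁻¹ := by
    calc t * S.β * t⁻¹ = u * ((r : Cz z) * S.β) * (r : Cz z)⁻¹ * u⁻¹ := by rw [ht]; group
      _ = u * S.β * u⁻¹ := by rw [← hr]; group
      _ = _ := by rw [huc, h6]
  set q' : Q := q * r
  have htq : t = i * (q' : Cz z) := by
    show u * (r : Cz z) = i * (i * u * (r : Cz z))
    rw [← mul_assoc, ← mul_assoc, hii, one_mul]
  set w := v + avg v with hw
  have hwq : D.ψ w = QuotientGroup.mk q' := by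
    rw [hw, D.psi_add, hv, ← D.mk_rep]; rfl
  have havg : Cg (avg w) 0 := by
    rw [hw, avg_add]
    exact (Cg_add (Cg.refl' _) (avg_of_fixed (c := avg v) (by rw [avg_fixed]; exact Cg.refl' _))).trans' (Cg_double _)
  -- the class of the square
  have hiq : i * (q' : Cz z) * i⁻¹ ∈ Q := (inferInstance : Q.Normal).conj_mem _ q'.2 i
  have hc : D.ψ (uI • w + w) = QuotientGroup.mk (⟨i * (q' : Cz z) * i⁻¹, hiq⟩ * q' : Q) := by
    rw [D.psi_add, D.iso.2.2.2 i uI hie.symm w q' hwq, hwq]; rfl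
  have htt : t * t = i * (q' : Cz z) * i⁻¹ * (q' : Cz z) := by rw [htq, hiinv]; group
  have httc : S.β * (t * t) = t * t * S.β := by
    have h1 : t * t * S.β * (t * t)⁻¹ = S.β := by
      calc t * t * S.β * (t * t)⁻¹ = t * (t * S.β * t⁻¹) * t⁻¹ := by group
        _ = t * S.β⁻¹ * t⁻¹ := by rw [htinv]
        _ = (t * S.β * t⁻¹)⁻¹ := by group
        _ = S.β := by rw [htinv, inv_inv]
    exact (mul_inv_eq_iff_eq_mul.mp h1).symm
  have hcP : uI • w + w ∈ P := (S.fix_iff hc).mp (by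
    show S.β * (i * (q' : Cz z) * i⁻¹ * (q' : Cz z)) = i * (q' : Cz z) * i⁻¹ * (q' : Cz z) * S.β
    rw [← htt]; exact httc)
  have hc0 : Cg (uI • w + w) 0 := by
    refine (avg_of_fixed (p7_fix hcP)).symm'.trans' ?_
    rw [avg_add, avg_uI]
    have h1 := Cg.map' uI havg
    rw [show uI • (0 : ↥leechLattice) = 0 from map_zero (autHom uI)] at h1
    have h2 := Cg_add h1 havg
    rwa [add_zero] at h2
  have hfix : Cg (uI • w) w := by
    have h := (Cg_add hc0 (Cg.neg_self w)).trans' (by rw [zero_add]; exact Cg.refl' w)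
    rwa [add_neg_cancel_right] at h
  -- the class as a sum over the involution
  set y := p7 ^ 1 • w + p7 ^ 2 • w + p7 ^ 3 • w with hy
  have huy : Cg (uI • y) (p7 ^ 6 • w + p7 ^ 5 • w + p7 ^ 4 • w) := by
    rw [hy, aut_add, aut_add, ← mul_smul, ← mul_smul, ← mul_smul, uI_pow, uI_pow, uI_pow,
      pow_inv_seven (by norm_num), pow_inv_seven (by norm_num), pow_inv_seven (by norm_num), mul_smul, mul_smul, mul_smul]
    exact Cg_add (Cg_add (Cg.map' _ hfix) (Cg.map' _ hfix)) (Cg.map' _ hfix)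
  have hsum : Cg (y + uI • y) w := by
    refine (Cg_add (Cg.refl' y) huy).trans' ?_
    have havw : avg w = w + (y + (p7 ^ 6 • w + p7 ^ 5 • w + p7 ^ 4 • w)) := by
      rw [avg, hy]
      simp only [Finset.sum_range_succ, Finset.sum_range_zero, pow_zero, one_smul]
      abel
    have h1 := Cg_add (havw ▸ havg) (Cg.neg_self w)
    rw [zero_add, add_comm w, add_neg_cancel_right] at h1
    exact h1
  set x : Q := D.rep y
  have hix : i * (x : Cz z) * i⁻¹ ∈ Q := (inferInstance : Q.Normal).conj_mem _ x.2 i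
  have hmk : (QuotientGroup.mk (x * ⟨i * (x : Cz z) * i⁻¹, hix⟩ : Q) : Q ⧸ Subgroup.center Q) = QuotientGroup.mk q' := by
    rw [QuotientGroup.mk_mul, D.mk_rep, ← D.iso.2.2.2 i uI hie.symm y x (D.mk_rep y).symm, ← D.psi_add, D.psi_cg.mpr hsum, hwq]
  have hcen : ∀ m : Cz z, Commute m (D.zq : Cz z) := fun m => Subgroup.mem_center_iff.mp zc_central m
  have hz2 : (D.zq : Cz z) * (D.zq : Cz z) = 1 := congrArg Subtype.val D.ext2.zz
  have hxx : ∀ m : Cz z, Commute m ((x : Cz z) * (x : Cz z)) := by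
    intro m
    rcases D.ext2.sq x with e | e
    · rw [show (x : Cz z) * (x : Cz z) = 1 from congrArg Subtype.val e]; exact Commute.one_right m
    · rw [show (x : Cz z) * (x : Cz z) = (D.zq : Cz z) from congrArg Subtype.val e]; exact hcen m
  have hx4 : (x : Cz z) * (x : Cz z) * ((x : Cz z) * (x : Cz z)) = 1 := by
    rcases D.ext2.sq x with e | e
    · rw [show (x : Cz z) * (x : Cz z) = 1 from congrArg Subtype.val e, one_mul]
    · rw [show (x : Cz z) * (x : Cz z) = (D.zq : Cz z) from congrArg Subtype.val e, hz2]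
  have hbase : i * ((x : Cz z) * (i * (x : Cz z) * i⁻¹)) * (i * ((x : Cz z) * (i * (x : Cz z) * i⁻¹))) = 1 := by
    calc i * ((x : Cz z) * (i * (x : Cz z) * i⁻¹)) * (i * ((x : Cz z) * (i * (x : Cz z) * i⁻¹)))
        = i * (x : Cz z) * i * ((x : Cz z) * (x : Cz z)) * (i * (x : Cz z) * i⁻¹) := by group
      _ = ((x : Cz z) * (x : Cz z)) * (i * (x : Cz z) * i) * (i * (x : Cz z) * i⁻¹) := by rw [(hxx (i * (x : Cz z) * i)).eq]
      _ = (x : Cz z) * (x : Cz z) * (i * ((x : Cz z) * (x : Cz z)) * i⁻¹) := by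
          rw [show (x : Cz z) * (x : Cz z) * (i * (x : Cz z) * i) * (i * (x : Cz z) * i⁻¹) =
            (x : Cz z) * (x : Cz z) * (i * ((x : Cz z) * (i * i) * (x : Cz z)) * i⁻¹) by group, hii, mul_one]
      _ = 1 := by rw [(hxx i).eq, mul_inv_cancel_right, hx4]
  have htt1 : t * t = 1 := by
    rcases D.mk_eq_mk.mp hmk with e | e
    · rw [htq, show (q' : Cz z) = (x : Cz z) * (i * (x : Cz z) * i⁻¹) from congrArg Subtype.val e]
      exact hbase
    · rw [htq, show (q' : Cz z) = (x : Cz z) * (i * (x : Cz z) * i⁻¹) * (D.zq : Cz z) from congrArg Subtype.val e,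
        ← mul_assoc i, (hcen _).symm.mul_mul_mul_comm, hbase, one_mul, hz2]
  haveI : Fact (Nat.Prime 2) := ⟨Nat.prime_two⟩
  refine ⟨t, orderOf_eq_prime (by rw [pow_two, htt1]) fun h1 => ?_, htinv⟩
  rw [h1, one_mul, inv_one, mul_one, h6] at htinv
  have h5 : S.β ^ 5 = 1 := mul_left_cancel (a := S.β) (by rw [← pow_succ', mul_one, ← htinv])
  have := orderOf_dvd_of_pow_eq_one h5
  rw [S.order_β] at this
  norm_num at this

end Sev

end CfsgLib.MonsterQ.Seven
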