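/-
Groups of Monster type: the centraliser of the element of order seven has `z` in its layer, and an inverting
involution induces an outer automorphism on that layer.
-/
import Cfsg.Agent.Lib.MonsterQ.Seven.Held
import Cfsg.Agent.Lib.MonsterQ.Seven.Invert

set_option autoImplicit false
set_option maxRecDepth 100000
set_option linter.style.haveILetI false
set_option linter.unusedSectionVars false

namespace CfsgLib.MonsterQ.Seven

open Cfsg CfsgGolay CfsgLeech CfsgLib.ExtraTwo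
open scoped Pointwise commutatorElement

attribute [local irreducible] codeL octadL dodecadL slpCodes r7

/-- An involution centralising no element of a normal subgroup inverts it, and it is abelian of odd order. -/
theorem free_inverts {Γ : Type*} [Group Γ] [Finite Γ] (K : Subgroup Γ) [K.Normal] {y : Γ} (hy : y * y = 1)
    (hfree : ∀ k ∈ K, k * y = y * k → k = 1) :
    (∀ k ∈ K, y * k * y⁻¹ = k⁻¹) ∧ (∀ k ∈ K, ∀ l ∈ K, k * l = l * k) ∧ Odd (Nat.card ↥K) := by
  let φ : ↥K →* ↥K := (MulAut.conjNormal y).toMonoidHom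
  have hφ : ∀ k : ↥K, ((φ k : ↥K) : Γ) = y * (k : Γ) * y⁻¹ := fun k => MulAut.conjNormal_apply y k
  have hfp : MonoidHom.FixedPointFree φ := fun k hk => Subtype.ext (hfree k k.2
    (mul_inv_eq_iff_eq_mul.mp ((hφ k).symm.trans (congrArg Subtype.val hk))).symm)
  have hinv : Function.Involutive φ := fun k => Subtype.ext (by
    rw [hφ, hφ, show y * (y * (k : Γ) * y⁻¹) * y⁻¹ = y * y * (k : Γ) * (y * y)⁻¹ by group, hy]
    group)
  refine ⟨fun k hk => ?_, fun k hk l hl => ?_, hfp.odd_card_of_involutive hinv⟩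
  · have h := congrFun (hfp.coe_eq_inv_of_involutive hinv) ⟨k, hk⟩
    exact (hφ ⟨k, hk⟩).symm.trans (congrArg Subtype.val h)
  · exact congrArg Subtype.val (hfp.commute_all_of_involutive hinv ⟨k, hk⟩ ⟨l, hl⟩).eq

variable {G : Type*} [Group G] [Finite G] {z : G} {Q : Subgroup (Subgroup.centralizer ({z} : Set G))} [Q.Normal]

namespace Sev

variable {D : Data z Q} (S : Sev D) [S.N.Normal]

/-- The fixed points inside the quotient. -/
def ι : ↥S.R →* S.Gb := (Subgroup.centralizer ({S.zb} : Set S.Gb)).subtype.comp S.toR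

theorem ι_injective : Function.Injective S.ι :=
  (Subgroup.centralizer ({S.zb} : Set S.Gb)).subtype_injective.comp S.toR_injective

theorem ι_zq : S.ι ⟨(D.zq : Cz z), S.zq_mem_R⟩ = S.zb := rfl

theorem zb_sq : S.zb * S.zb = 1 := by rw [← pow_two, ← S.zb_order, pow_orderOf_eq_one]

theorem ι_comm (r : ↥S.R) : S.ι r * S.zb = S.zb * S.ι r := Subgroup.mem_centralizer_singleton_iff.mp (S.toR r).2

/-- A normal subgroup contains the involution or it acts on it without fixed points. -/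
theorem dichotomy (K : Subgroup S.Gb) [K.Normal] :
    S.zb ∈ K ∨ ∀ k ∈ K, k * S.zb = S.zb * k → k = 1 := by
  by_cases hmeet : ∀ r : ↥S.R, S.ι r ∈ K → r = 1
  · right
    intro k hk hkz
    set c : ↥(Subgroup.centralizer ({S.zb} : Set S.Gb)) := ⟨k, Subgroup.mem_centralizer_singleton_iff.mpr hkz⟩
    have hc : c ∈ Subgroup.centralizer (S.R' : Set ↥(Subgroup.centralizer ({S.zb} : Set S.Gb))) := by
      refine Subgroup.mem_centralizer_iff.mpr fun r hr => ?_
      obtain ⟨t, ht⟩ : c * r * c⁻¹ * r⁻¹ ∈ S.toR.range := by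
        rw [← R'_eq]
        exact mul_mem ((inferInstance : S.R'.Normal).conj_mem r hr c) (inv_mem hr)
      have hK : S.ι t ∈ K := by
        show ((S.toR t : ↥(Subgroup.centralizer ({S.zb} : Set S.Gb))) : S.Gb) ∈ K
        rw [ht]
        show k * (r : S.Gb) * k⁻¹ * (r : S.Gb)⁻¹ ∈ K
        rw [show k * (r : S.Gb) * k⁻¹ * (r : S.Gb)⁻¹ = k * ((r : S.Gb) * k⁻¹ * (r : S.Gb)⁻¹) by group]
        exact K.mul_mem hk ((inferInstance : K.Normal).conj_mem _ (K.inv_mem hk) _)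
      rw [hmeet t hK, map_one] at ht
      exact (mul_inv_eq_iff_eq_mul.mp (mul_inv_eq_one.mp ht.symm)).symm
    obtain ⟨t, ht⟩ : c ∈ S.toR.range := by rw [← R'_eq]; exact S.centralizer_R' hc
    have hK : S.ι t ∈ K := by
      show ((S.toR t : ↥(Subgroup.centralizer ({S.zb} : Set S.Gb))) : S.Gb) ∈ K
      rw [ht]; exact hk
    rw [hmeet t hK, map_one] at ht
    exact (congrArg Subtype.val ht).symm
  · left
    push Not at hmeet
    obtain ⟨r, hr, hr1⟩ := hmeet
    by_cases hcen : r ∈ Subgroup.center ↥S.R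
    · rcases (S.ext2R.center_iff r).mp hcen with e | e
      · exact absurd e hr1
      · rw [← S.ι_zq, ← e]; exact hr
    · rw [Subgroup.mem_center_iff] at hcen
      push Not at hcen
      obtain ⟨t, ht⟩ := hcen
      rcases S.ext2R.comm_cases t r with e | e
      · exact absurd (commutatorElement_eq_one_iff_mul_comm.mp e) ht
      · rw [← S.ι_zq, ← e, commutatorElement_def, map_mul, map_mul, map_mul, map_inv, map_inv]
        exact K.mul_mem ((inferInstance : K.Normal).conj_mem _ hr _) (K.inv_mem hr)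

/-- Conjugates of the involution act in the same way. -/
theorem free_conj {K : Subgroup S.Gb} [K.Normal] (hfree : ∀ k ∈ K, k * S.zb = S.zb * k → k = 1) {y : S.Gb}
    (hy : IsConj S.zb y) : ∀ k ∈ K, y * k * y⁻¹ = k⁻¹ := by
  obtain ⟨n, rfl⟩ := isConj_iff.mp hy
  intro k hk
  have hm : n⁻¹ * k * n ∈ K := by simpa using (inferInstance : K.Normal).conj_mem k hk n⁻¹
  have h := (free_inverts K S.zb_sq hfree).1 _ hm
  calc n * S.zb * n⁻¹ * k * (n * S.zb * n⁻¹)⁻¹ = n * (S.zb * (n⁻¹ * k * n) * S.zb⁻¹) * n⁻¹ := by group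
    _ = n * (n⁻¹ * k * n)⁻¹ * n⁻¹ := by rw [h]
    _ = k⁻¹ := by group

theorem ι_conj {q : Q} (hq : (q : Cz z) ∈ S.R) (h : IsConj z ((q : Cz z) : G)) : IsConj S.zb (S.ι ⟨_, hq⟩) :=
  S.conj_zb hq h

theorem zqa_mem : ((D.zq * S.a : Q) : Cz z) ∈ S.R := S.R.mul_mem S.zq_mem_R S.a_mem_R

theorem odd_trivial (K : Subgroup S.Gb) [K.Normal] (hodd : Odd (Nat.card ↥K)) : K = ⊥ := by
  rcases S.dichotomy K with h | hfree
  · exfalso
    have h2 := orderOf_dvd_natCard (⟨S.zb, h⟩ : ↥K)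
    rw [Subgroup.orderOf_mk, S.zb_order] at h2
    exact Nat.not_even_iff_odd.mpr hodd (even_iff_two_dvd.mpr h2)
  have hv : D.ψ (ax none) = QuotientGroup.mk (D.zq * S.a : Q) := by
    rw [S.vec, QuotientGroup.mk_mul, (QuotientGroup.eq_one_iff D.zq).mpr ((D.ext2.center_iff _).mpr (Or.inr rfl)), one_mul]
  have i0 := S.free_conj hfree (IsConj.refl S.zb)
  have i1 := S.free_conj hfree (S.ι_conj S.a_mem_R S.a_facts.1)
  have i2 := S.free_conj hfree (S.ι_conj S.zqa_mem (D.conj_of_norm64 ax_norm hv).1)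
  have e : S.ι ⟨_, S.zqa_mem⟩ = S.zb * S.ι ⟨_, S.a_mem_R⟩ := by rw [← S.ι_zq, ← map_mul]; rfl
  rw [Subgroup.eq_bot_iff_forall]
  intro k hk
  have h2 : k⁻¹ = k := by
    have h := i2 k hk
    rw [e, show S.zb * S.ι ⟨_, S.a_mem_R⟩ * k * (S.zb * S.ι ⟨_, S.a_mem_R⟩)⁻¹ =
      S.zb * (S.ι ⟨_, S.a_mem_R⟩ * k * (S.ι ⟨_, S.a_mem_R⟩)⁻¹) * S.zb⁻¹ by group, i1 k hk,
      i0 _ (K.inv_mem hk), inv_inv] at h
    exact h.symm
  have hkk : k ^ 2 = 1 := by rw [pow_two]; nth_rewrite 1 [← h2]; exact inv_mul_cancel k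
  have h2' := orderOf_dvd_of_pow_eq_one hkk
  have hk' := orderOf_dvd_natCard (⟨k, hk⟩ : ↥K)
  rw [Subgroup.orderOf_mk] at hk'
  rcases (Nat.dvd_prime Nat.prime_two).mp h2' with h | h
  · exact orderOf_eq_one_iff.mp h
  · rw [h] at hk'
    exact absurd (even_iff_two_dvd.mpr hk') (Nat.not_even_iff_odd.mpr hodd)

theorem ι_range_le {P2 : Subgroup S.Gb} [P2.Normal] (hz : S.zb ∈ P2) : S.ι.range ≤ P2 := by
  rintro _ ⟨r, rfl⟩
  obtain ⟨v, hv⟩ := D.iso.2.1 (QuotientGroup.mk (⟨(r : Cz z), (S.mem_R.mp r.2).1⟩ : Q))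
  let M : AddSubgroup ↥leechLattice :=
    { carrier := {v | ∃ q : Q, ∃ h : (q : Cz z) ∈ S.R, S.ι ⟨_, h⟩ ∈ P2 ∧ D.ψ v = QuotientGroup.mk q}
      zero_mem' := ⟨1, S.R.one_mem, by rw [show (⟨((1 : Q) : Cz z), S.R.one_mem⟩ : ↥S.R) = 1 from rfl, map_one]; exact P2.one_mem,
        by rw [D.psi_zero]; rfl⟩
      add_mem' := by
        rintro u w ⟨q, h, hm, e⟩ ⟨q', h', hm', e'⟩
        refine ⟨q * q', S.R.mul_mem h h', ?_, by rw [D.psi_add, e, e', QuotientGroup.mk_mul]⟩
        rw [show (⟨((q * q' : Q) : Cz z), S.R.mul_mem h h'⟩ : ↥S.R) = ⟨_, h⟩ * ⟨_, h'⟩ from rfl, map_mul]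
        exact P2.mul_mem hm hm'
      neg_mem' := by
        rintro u ⟨q, h, hm, e⟩
        exact ⟨q, h, hm, by rw [← e, D.psi_cg]; exact Cg.neg_self u⟩ }
  have hbasis : ∀ j < 6, ev' j ∈ M := by
    have hab : ∀ k < 14, abV k ∈ M := fun k hk => by
      have hr := S.rep_mem_R (abV_P hk)
      obtain ⟨n, hn⟩ := isConj_iff.mp
        (S.ι_conj hr (D.conj_of_norm64 (ab_facts hk).2.2.1 (D.mk_rep _).symm).1)
      exact ⟨_, hr, hn ▸ (inferInstance : P2.Normal).conj_mem _ hz n, (D.mk_rep _).symm⟩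
    intro j hj
    by_cases h3 : j < 3
    · rw [ev_aV h3]; exact hab j (by omega)
    · obtain ⟨i, rfl⟩ : ∃ i, j = 3 + i := ⟨j - 3, by omega⟩
      have he : ev' (3 + i) = bV i := by
        have : i < 3 := by omega
        interval_cases i <;> rfl
      rw [he]; exact hab _ (by omega)
  obtain ⟨m, hm, hcg⟩ := (S.fix_iff hv).mp (S.mem_R.mp r.2).2
  have hsub : sub m ∈ M := by
    refine list_sum_mem fun x hx => ?_
    obtain ⟨j, hj, rfl⟩ := List.mem_map.mp hx
    cases m.testBit j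
    · exact M.zero_mem
    · exact hbasis j (List.mem_range.mp hj)
  obtain ⟨q, h, hmem, e⟩ := hsub
  rcases D.mk_eq_mk.mp ((e.symm.trans (D.psi_cg.mpr hcg.symm')).trans hv) with e1 | e1
  · rw [show r = ⟨_, h⟩ from Subtype.ext (congrArg Subtype.val e1 : (r : Cz z) = (q : Cz z))]
    exact hmem
  · rw [show r = ⟨_, h⟩ * ⟨_, S.zq_mem_R⟩ from Subtype.ext (congrArg Subtype.val e1 : (r : Cz z) = (q : Cz z) * (D.zq : Cz z)),
      map_mul, S.ι_zq]
    exact P2.mul_mem hmem hz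

theorem xb_ne : S.ι ⟨_, S.a_mem_R⟩ ≠ S.zb := by
  rw [← S.ι_zq]
  intro h
  have he := congrArg (fun t : ↥S.R => ((t : Cz z) : G)) (S.ι_injective h)
  exact S.a_facts.2 he

theorem two_trivial (P2 : Subgroup S.Gb) [P2.Normal] (hP : IsPGroup 2 ↥P2) : P2 = ⊥ := by
  haveI : Fact (Nat.Prime 2) := ⟨Nat.prime_two⟩
  rcases S.dichotomy P2 with hz | hfree
  swap
  · obtain ⟨k, hk⟩ := hP.exists_card_eq
    have hodd := (free_inverts P2 S.zb_sq hfree).2.2
    rw [hk] at hodd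
    rcases Nat.eq_zero_or_pos k with rfl | hpos
    · exact Subgroup.card_eq_one.mp (by rw [hk, pow_zero])
    · exact absurd (Nat.even_pow.mpr ⟨even_two, hpos.ne'⟩) (Nat.not_even_iff_odd.mpr hodd)
  exfalso
  have hle := S.ι_range_le hz
  -- the centraliser of the involution in `P2` is the range
  have hcap : ∀ k ∈ P2, k * S.zb = S.zb * k → k ∈ S.ι.range := by
    intro k hk hkz
    have hn : ((P2.comap (Subgroup.centralizer ({S.zb} : Set S.Gb)).subtype)) ≤ S.R' := by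
      rw [← pCore_R']
      exact CfsgLib.le_pCore (hP.comap_of_injective _ (Subgroup.centralizer ({S.zb} : Set S.Gb)).subtype_injective)
    have := hn (show (⟨k, Subgroup.mem_centralizer_singleton_iff.mpr hkz⟩ :
      ↥(Subgroup.centralizer ({S.zb} : Set S.Gb))) ∈ P2.comap _ from hk)
    rw [R'_eq] at this
    obtain ⟨r, hr⟩ := this
    exact ⟨r, congrArg Subtype.val hr⟩
  -- whatever normalises the range fixes the involution
  have hfix : ∀ n : S.Gb, (∀ x ∈ S.ι.range, n * x * n⁻¹ ∈ S.ι.range) → n * S.zb * n⁻¹ = S.zb := by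
    intro n hn
    obtain ⟨r, hr⟩ := hn S.zb ⟨_, S.ι_zq⟩
    have hcen : r ∈ Subgroup.center ↥S.R := by
      refine Subgroup.mem_center_iff.mpr fun t => S.ι_injective ?_
      -- pull back along conjugation
      have hsurj : ∃ u, n * S.ι u * n⁻¹ = S.ι t := by
        let f : ↥S.R → ↥S.R := fun u => (hn (S.ι u) ⟨u, rfl⟩).choose
        have hf : ∀ u, S.ι (f u) = n * S.ι u * n⁻¹ := fun u => (hn (S.ι u) ⟨u, rfl⟩).choose_spec
        have hinj : Function.Injective f := fun u u' e => S.ι_injective (by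
          have := congrArg S.ι e
          rw [hf, hf] at this
          exact mul_left_cancel (mul_right_cancel this))
        obtain ⟨u, hu⟩ := (Finite.injective_iff_surjective.mp hinj) t
        exact ⟨u, by rw [← hu, hf]⟩
      obtain ⟨u, hu⟩ := hsurj
      rw [map_mul, map_mul, ← hu, hr,
        show n * S.ι u * n⁻¹ * (n * S.zb * n⁻¹) = n * (S.ι u * S.zb) * n⁻¹ by group, S.ι_comm u]
      group
    rcases (S.ext2R.center_iff r).mp hcen with e | e
    · exfalso
      rw [e, map_one, eq_comm, mul_inv_eq_one, mul_eq_left] at hr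
      have := S.zb_order
      rw [hr, orderOf_one] at this
      norm_num at this
    · rw [← hr, e, S.ι_zq]
  have heq : S.ι.range = P2 := by
    by_contra hne
    haveI := hP.isNilpotent
    have hlt : S.ι.range.subgroupOf P2 < ⊤ := lt_of_le_of_ne le_top fun e =>
      hne (le_antisymm hle (Subgroup.subgroupOf_eq_top.mp e))
    obtain ⟨n, hn, hnn⟩ := SetLike.exists_of_lt (Group.normalizerCondition_of_isNilpotent _ hlt)
    refine hnn (hcap n n.2 ?_)
    have h := hfix n fun x hx => by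
      have := ((Subgroup.mem_normalizer_iff.mp hn) ⟨x, hle hx⟩).mp hx
      exact this
    exact mul_inv_eq_iff_eq_mul.mp h
  have hall : ∀ g : S.Gb, g * S.zb * g⁻¹ = S.zb := fun g => hfix g fun x hx => by
    rw [heq] at hx ⊢
    exact (inferInstance : P2.Normal).conj_mem x hx g
  obtain ⟨n, hn⟩ := isConj_iff.mp (S.ι_conj S.a_mem_R S.a_facts.1)
  exact S.xb_ne (hn.symm.trans (hall n))

/-- The layer contains `z`. -/
theorem z_mem_layer : (⟨z, S.z_mem⟩ : ↥S.X) ∈ layer ↥S.X := by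
  classical
  haveI : Fact (Nat.Prime 2) := ⟨Nat.prime_two⟩
  have hNc : ∀ n ∈ S.N, ∀ x : ↥S.X, n * x = x * n := fun n hn x => Subtype.ext
    (Subgroup.mem_centralizer_iff.mp x.2 _ hn)
  have hF : fittingSubgroup ↥S.X ≤ S.N := by
    have hFb : (fittingSubgroup ↥S.X).map (QuotientGroup.mk' S.N) = ⊥ := by
      haveI : ((fittingSubgroup ↥S.X).map (QuotientGroup.mk' S.N)).Normal :=
        Subgroup.Normal.map (by rw [CfsgLib.fittingSubgroup_eq_iSup_pCore]; infer_instance) _ (QuotientGroup.mk'_surjective _)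
      rw [CfsgLib.fittingSubgroup_eq_iSup_pCore, Subgroup.map_iSup, iSup_eq_bot]
      intro p
      haveI : ((pCore (p : ℕ) ↥S.X).map (QuotientGroup.mk' S.N)).Normal :=
        Subgroup.Normal.map inferInstance _ (QuotientGroup.mk'_surjective _)
      have hp : IsPGroup (p : ℕ) ↥((pCore (p : ℕ) ↥S.X).map (QuotientGroup.mk' S.N)) :=
        (CfsgLib.isPGroup_pCore (G := ↥S.X) (p : ℕ)).map _
      by_cases h2 : (p : ℕ) = 2
      · refine S.two_trivial _ fun x => ?_
        obtain ⟨k, hk⟩ := hp x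
        exact ⟨k, (congrArg (fun n : ℕ => x ^ n) (congrArg (fun n : ℕ => n ^ k) h2)).symm.trans hk⟩
      · haveI : Fact (p : ℕ).Prime := ⟨p.2⟩
        obtain ⟨k, hk⟩ := hp.exists_card_eq
        refine S.odd_trivial _ ?_
        rw [hk]
        exact (p.2.odd_of_ne_two h2).pow
    intro x hx
    have := Subgroup.mem_map_of_mem (QuotientGroup.mk' S.N) hx
    rw [hFb, Subgroup.mem_bot] at this
    exact (QuotientGroup.eq_one_iff x).mp this
  set L := layer ↥S.X with hL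
  -- the centraliser of the layer
  have hCL : ∀ x : ↥S.X, (∀ l ∈ L, l * x = x * l) → x ∈ S.N := by
    have hgc : ∀ x : ↥S.X, (∀ l ∈ L, l * x = x * l) →
        x ∈ Subgroup.centralizer (generalizedFittingSubgroup ↥S.X : Set ↥S.X) := by
      intro x hx
      have h : generalizedFittingSubgroup ↥S.X ≤ Subgroup.centralizer ({x} : Set ↥S.X) :=
        sup_le (fun l hl => Subgroup.mem_centralizer_singleton_iff.mpr (hx l hl))
          fun f hf => Subgroup.mem_centralizer_singleton_iff.mpr (hNc f (hF hf) x)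
      exact Subgroup.mem_centralizer_iff.mpr fun y hy => Subgroup.mem_centralizer_singleton_iff.mp (h hy)
    set A := Subgroup.centralizer (L : Set ↥S.X)
    have hAab : ∀ a ∈ A, ∀ b ∈ A, a * b = b * a := by
      intro a ha b hb
      have hb' := CfsgLib.centralizer_generalizedFitting_le (hgc b (Subgroup.mem_centralizer_iff.mp hb))
      exact ((Subgroup.mem_centralizer_iff.mp (hgc a (Subgroup.mem_centralizer_iff.mp ha))) b hb').symm
    haveI : A.Normal := Subgroup.normal_centralizer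
    have hAF : A ≤ fittingSubgroup ↥S.X := CfsgLib.le_fittingSubgroup (CfsgLib.Comp.nilpotent_of_comm hAab)
    exact fun x hx => hF (hAF (Subgroup.mem_centralizer_iff.mpr hx))
  set Lb := L.map (QuotientGroup.mk' S.N)
  haveI : Lb.Normal := Subgroup.Normal.map inferInstance _ (QuotientGroup.mk'_surjective _)
  have hCb : ∀ y : S.Gb, (∀ l ∈ Lb, l * y = y * l) → y = 1 := by
    intro y hy
    obtain ⟨x, rfl⟩ := QuotientGroup.mk_surjective y
    refine (QuotientGroup.eq_one_iff x).mpr (hCL x ?_)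
    have hmem : ∀ l : ↥L, x * (l : ↥S.X) * x⁻¹ * (l : ↥S.X)⁻¹ ∈ S.N := fun l => by
      rw [← QuotientGroup.eq_one_iff, QuotientGroup.mk_mul, QuotientGroup.mk_mul, QuotientGroup.mk_mul,
        QuotientGroup.mk_inv, QuotientGroup.mk_inv,
        ← hy (QuotientGroup.mk (l : ↥S.X)) (Subgroup.mem_map_of_mem _ l.2)]
      group
    let f : ↥L →* ↥S.N := MonoidHom.mk' (fun l => ⟨_, hmem l⟩) fun l l' => Subtype.ext (by
      simp only [Subgroup.coe_mul, mul_inv_rev]
      calc x * ((l : ↥S.X) * (l' : ↥S.X)) * x⁻¹ * ((l' : ↥S.X)⁻¹ * (l : ↥S.X)⁻¹)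
          = x * (l : ↥S.X) * x⁻¹ * ((x * (l' : ↥S.X) * x⁻¹ * (l' : ↥S.X)⁻¹) * (l : ↥S.X)⁻¹) := by group
        _ = _ := by rw [hNc _ (hmem l') (l : ↥S.X)⁻¹]; group)
    have hker : L ≤ f.ker.map L.subtype := by
      conv_lhs => rw [hL, ← layer_commutator_self (G := ↥S.X)]
      rw [Subgroup.commutator_le]
      intro a ha b hb
      refine ⟨⁅(⟨a, ha⟩ : ↥L), ⟨b, hb⟩⁆, ?_, map_commutatorElement L.subtype _ _⟩
      rw [SetLike.mem_coe, MonoidHom.mem_ker, map_commutatorElement, commutatorElement_eq_one_iff_mul_comm]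
      exact Subtype.ext (hNc _ (f ⟨a, ha⟩).2 _)
    intro l hl
    obtain ⟨l', hl', he⟩ := hker hl
    have h1 : x * (l' : ↥S.X) * x⁻¹ * (l' : ↥S.X)⁻¹ = 1 := congrArg Subtype.val (MonoidHom.mem_ker.mp hl')
    have he' : (l' : ↥S.X) = l := he
    rw [he'] at h1
    exact (mul_inv_eq_iff_eq_mul.mp (mul_inv_eq_one.mp h1)).symm
  rcases S.dichotomy Lb with hz | hfree
  swap
  · exfalso
    have hab := (free_inverts Lb S.zb_sq hfree).2.1
    have hL1 : ∀ l ∈ Lb, l = 1 := fun l hl => hCb l fun m hm => hab m hm l hl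
    have hz1 := hCb S.zb fun l hl => by rw [hL1 l hl, one_mul, mul_one]
    have h2 := S.zb_order
    rw [hz1, orderOf_one] at h2
    norm_num at h2
  obtain ⟨l, hl, hle⟩ := hz
  have hN : (⟨z, S.z_mem⟩ : ↥S.X)⁻¹ * l ∈ S.N := QuotientGroup.eq.1 hle.symm
  have hb7 : ((⟨z, S.z_mem⟩ : ↥S.X)⁻¹ * l) ^ 7 = 1 := Subtype.ext (by
    rw [SubgroupClass.coe_pow]; exact S.B_pow (Subgroup.mem_subgroupOf.mp hN))
  have hz7 : (⟨z, S.z_mem⟩ : ↥S.X) ^ 7 = ⟨z, S.z_mem⟩ := Subtype.ext (by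
    rw [SubgroupClass.coe_pow]
    show z ^ 7 = z
    rw [show 7 = 2 * 3 + 1 from rfl, pow_succ, pow_mul, pow_two, zz D, one_pow, one_mul])
  have hl7 : l ^ 7 = ⟨z, S.z_mem⟩ := by
    have hc : Commute (⟨z, S.z_mem⟩ : ↥S.X) ((⟨z, S.z_mem⟩ : ↥S.X)⁻¹ * l) := (hNc _ hN _).symm
    have := hc.mul_pow 7
    rwa [mul_inv_cancel_left, hb7, mul_one, hz7] at this
  rw [← hl7]
  exact L.pow_mem hl 7

theorem a_mem_layer : ∃ h : ((S.a : Cz z) : G) ∈ S.X, (⟨_, h⟩ : ↥S.X) ∈ layer ↥S.X := by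
  refine ⟨S.q_mem S.a_mem_R, ?_⟩
  obtain ⟨n, hn, hnz⟩ := S.exists_fuse_a
  have h := (inferInstance : (layer ↥S.X).Normal).conj_mem _ S.z_mem_layer ⟨n, S.mem_X.mpr hn⟩
  convert h using 1
  exact Subtype.ext hnz.symm

omit [S.N.Normal] in
theorem relIndex_six : S.X.relIndex (Subgroup.normalizer ((S.B : Subgroup G) : Set G)) = 6 := by
  haveI : Fact (Nat.Prime 7) := ⟨by norm_num⟩
  set H := S.B
  have cH : Nat.card ↥H = 7 := by
    show Nat.card ↥(Subgroup.zpowers S.bG) = 7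
    rw [Nat.card_zpowers]
    show orderOf ((S.β : Cz z) : G) = 7
    rw [Subgroup.orderOf_coe, S.order_β]
  have htop : H.normalizerMonoidHom.range = ⊤ := by
    rw [eq_top_iff]
    intro φ _
    obtain ⟨j, hj, hje⟩ := mem_pow S.bG_pow (φ ⟨S.bG, Subgroup.mem_zpowers _⟩).2
    have hj7 : ¬ 7 ∣ j := fun h => by
      have h0 : j = 0 := Nat.eq_zero_of_dvd_of_lt h hj
      rw [h0, pow_zero] at hje
      have h1 : (⟨S.bG, Subgroup.mem_zpowers _⟩ : ↥H) = 1 := φ.injective ((Subtype.ext hje).trans (map_one φ).symm)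
      have h2 := S.order_β
      rw [← Subgroup.orderOf_coe, show ((S.β : Cz z) : G) = 1 from congrArg Subtype.val h1, orderOf_one] at h2
      norm_num at h2
    obtain ⟨x, hx⟩ := S.exists_aut hj7
    have hxG : (x : G) * S.bG * (x : G)⁻¹ = S.bG ^ j := by
      show (x : G) * ((S.β : Cz z) : G) * (x : G)⁻¹ = ((S.β : Cz z) : G) ^ j
      rw [← SubgroupClass.coe_pow, ← hx]; rfl
    have hnx : (x : G) ∈ Subgroup.normalizer (H : Set G) := by
      have hmap : H.map (MulAut.conj (x : G)).toMonoidHom = H := by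
        refine Subgroup.eq_of_le_of_card_ge ?_ (by rw [Subgroup.card_map_of_injective (MulAut.conj (x : G)).injective])
        show (Subgroup.zpowers S.bG).map _ ≤ _
        rw [MonoidHom.map_zpowers, Subgroup.zpowers_le]
        show (x : G) * S.bG * (x : G)⁻¹ ∈ _
        rw [hxG]
        exact Subgroup.npow_mem_zpowers _ j
      rw [Subgroup.mem_normalizer_iff]
      intro h
      conv_rhs => rw [← hmap]
      exact (Subgroup.mem_map_iff_mem (MulAut.conj (x : G)).injective).symm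
    refine ⟨⟨(x : G), hnx⟩, ?_⟩
    ext ⟨b, hb⟩
    obtain ⟨i, -, rfl⟩ := mem_pow S.bG_pow hb
    rw [show (⟨S.bG ^ i, hb⟩ : ↥H) = (⟨S.bG, Subgroup.mem_zpowers _⟩ : ↥H) ^ i from rfl, map_pow, map_pow,
      SubgroupClass.coe_pow, SubgroupClass.coe_pow, hje]
    show ((x : G) * S.bG * (x : G)⁻¹) ^ i = _
    rw [hxG]
  haveI : IsCyclic ↥H := isCyclic_of_prime_card cH
  show ((Subgroup.centralizer (H : Set G)).subgroupOf (Subgroup.normalizer (H : Set G))).index = 6
  rw [← Subgroup.normalizerMonoidHom_ker, Subgroup.index_ker, htop, Subgroup.card_top, IsCyclic.card_mulAut, cH]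
  rfl

theorem automizer : ∃ t : G, orderOf t = 2 ∧ (∀ b ∈ S.B, t * b * t⁻¹ = b⁻¹) ∧
    (∀ x ∈ (layer ↥S.X).map S.X.subtype, t * x * t⁻¹ ∈ (layer ↥S.X).map S.X.subtype) ∧
    ¬ ∃ l ∈ (layer ↥S.X).map S.X.subtype, ∀ x ∈ (layer ↥S.X).map S.X.subtype, t * x * t⁻¹ = l * x * l⁻¹ := by
  obtain ⟨t, ht2, htβ⟩ := S.exists_inverter
  have htb : (t : G) * S.bG * (t : G)⁻¹ = S.bG⁻¹ := congrArg (fun u : Cz z => (u : G)) htβ
  have hB : ∀ b ∈ S.B, (t : G) * b * (t : G)⁻¹ = b⁻¹ := by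
    intro b hb
    obtain ⟨i, -, rfl⟩ := mem_pow S.bG_pow hb
    rw [← conj_pow, htb, inv_pow]
  have hX : ∀ x : G, x ∈ S.X ↔ (t : G) * x * (t : G)⁻¹ ∈ S.X := by
    intro x
    rw [S.mem_X, S.mem_X]
    have key : ((t : G) * x * (t : G)⁻¹ * ((t : G) * S.bG * (t : G)⁻¹) = (t : G) * S.bG * (t : G)⁻¹ * ((t : G) * x * (t : G)⁻¹)) ↔
        x * S.bG = S.bG * x := by
      rw [show (t : G) * x * (t : G)⁻¹ * ((t : G) * S.bG * (t : G)⁻¹) = (t : G) * (x * S.bG) * (t : G)⁻¹ by group,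
        show (t : G) * S.bG * (t : G)⁻¹ * ((t : G) * x * (t : G)⁻¹) = (t : G) * (S.bG * x) * (t : G)⁻¹ by group]
      simp
    rw [← key, htb]
    exact ⟨fun h => by simpa using (show Commute _ S.bG⁻¹ from h).inv_right.eq,
      fun h => (show Commute _ S.bG from h).inv_right.eq⟩
  refine ⟨(t : G), by rw [Subgroup.orderOf_coe, ht2], hB, ?_, ?_⟩
  · rintro _ ⟨x, hx, rfl⟩
    have hmap : S.X.map (MulAut.conj (t : G)).toMonoidHom = S.X := by
      ext y
      rw [Subgroup.mem_map_equiv, MulAut.conj_symm_apply]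
      rw [hX ((t : G)⁻¹ * y * (t : G))]
      simp [mul_assoc]
    let φ : ↥S.X ≃* ↥S.X := ((MulAut.conj (t : G)).subgroupMap S.X).trans (MulEquiv.subgroupCongr hmap)
    refine ⟨φ x, ?_, rfl⟩
    rw [SetLike.mem_coe, ← map_layer_equiv φ]
    exact Subgroup.mem_map_of_mem _ hx
  · rintro ⟨_, ⟨l, hl, rfl⟩, hall⟩
    obtain ⟨hax, hal⟩ := S.a_mem_layer
    obtain ⟨u, hu⟩ : ∃ u : G, u = (l : G)⁻¹ * (t : G) := ⟨_, rfl⟩
    have hcomm : ∀ x ∈ (layer ↥S.X).map S.X.subtype, u * x * u⁻¹ = x := fun x hx => by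
      rw [hu, show (l : G)⁻¹ * (t : G) * x * ((l : G)⁻¹ * (t : G))⁻¹ = (l : G)⁻¹ * ((t : G) * x * (t : G)⁻¹) * (l : G) by group,
        hall x hx]
      show (l : G)⁻¹ * ((l : G) * x * (l : G)⁻¹) * (l : G) = x
      group
    have huz : u ∈ Cz z := Subgroup.mem_centralizer_singleton_iff.mpr
      (mul_inv_eq_iff_eq_mul.mp (hcomm z ⟨_, S.z_mem_layer, rfl⟩))
    set uc : Cz z := ⟨u, huz⟩
    obtain ⟨g, hg⟩ := QuotientGroup.mk_surjective (D.e (QuotientGroup.mk uc))
    have h1 := D.iso.2.2.2 uc g hg (ax none) S.a S.vec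
    have hcg : Cg (g • ax none) (ax none) := by
      refine D.psi_cg.mp ?_
      rw [h1, S.vec]
      exact congrArg QuotientGroup.mk (Subtype.ext (Subtype.ext (hcomm _ ⟨_, hal, rfl⟩)))
    have hub : uc * S.β * uc⁻¹ = S.β ^ 6 := by
      rw [show S.β ^ 6 = S.β⁻¹ from
        (inv_eq_of_mul_eq_one_right (by rw [← pow_succ', show 6 + 1 = 7 from rfl, S.pow7])).symm]
      refine Subtype.ext ?_
      show u * S.bG * u⁻¹ = S.bG⁻¹
      have hlb : (l : G) * S.bG = S.bG * (l : G) := S.mem_X.mp l.2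
      calc u * S.bG * u⁻¹ = (l : G)⁻¹ * ((t : G) * S.bG * (t : G)⁻¹) * (l : G) := by rw [hu]; group
        _ = (l : G)⁻¹ * (S.bG⁻¹ * (l : G)) := by rw [htb, mul_assoc]
        _ = _ := by rw [((show Commute (l : G) S.bG from hlb).inv_right).eq.symm, inv_mul_cancel_left]
    have hrel := S.image_rel hg.symm hub (by norm_num)
    refine no_invert hcg (mul_inv_eq_iff_eq_mul.mp ?_)
    rw [hrel]
    exact (inv_eq_of_mul_eq_one_right (by rw [← pow_succ', show 6 + 1 = 7 from rfl, p7_pow_seven])).symm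

end Sev

end CfsgLib.MonsterQ.Seven
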