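/-
Groups of Monster type: the two elementary abelian subgroups of order sixteen among the fixed points of the
element of order seven, and the meeting with a conjugate.
-/
import Cfsg.Agent.Lib.MonsterQ.Seven.Held
import Cfsg.Agent.Lib.MonsterQ.Seven.Frame
import Cfsg.Agent.Lib.MonsterQ.Fix
import Cfsg.Agent.Lib.SmallSimple.Order168Model
import Cfsg.Agent.Lib.Golay.Seven

set_option autoImplicit false
set_option maxRecDepth 100000
set_option linter.style.haveILetI false
set_option linter.unusedSectionVars false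

namespace CfsgLib.MonsterQ.Seven

open Cfsg CfsgGolay CfsgLeech CfsgLib.ExtraTwo
open scoped Pointwise commutatorElement

attribute [local irreducible] codeL octadL dodecadL slpCodes r7

/-- The masks of the first plane. -/
def firstB (m : ℕ) : Bool := Nat.blt m 8

/-- The masks of the second plane. -/
def secondB (m : ℕ) : Bool := Nat.beq (m % 8) 0

theorem first_xor : ∀ m < 8, ∀ n < 8, m ^^^ n < 8 := fun _ hm _ hn => Nat.xor_lt_two_pow (n := 3) hm hn

theorem second_xor : ∀ m < 64, ∀ n < 64, m % 8 = 0 → n % 8 = 0 → (m ^^^ n) % 8 = 0 := by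
  intro m _ n _ hm hn
  rw [show (8 : ℕ) = 2 ^ 3 from rfl, Nat.xor_mod_two_pow] at *
  rw [hm, hn]; rfl

theorem abM_cover : ∀ m < 64, m ≠ 0 → (m < 8 → ∃ k < 7, abM.getD k 0 = m) ∧
    (m % 8 = 0 → ∃ k < 7, abM.getD (7 + k) 0 = m) := by decide +kernel

theorem abM_second : ∀ k < 7, abM.getD (7 + k) 0 % 8 = 0 := by decide +kernel

/-- The stabiliser of the plane acts on its classes. -/
theorem first_act {g : ↥Co0} (hg : g ∈ CC) {m : ℕ} (hm : m < 8) : ∃ m' < 8, Cg (g • sub m) (sub m') := by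
  by_cases h0 : m = 0
  · subst h0
    exact ⟨0, by norm_num, by rw [sub_zero', show g • (0 : ↥leechLattice) = 0 from map_zero (autHom g)]; exact Cg.refl' 0⟩
  obtain ⟨k, hk, rfl⟩ := (abM_cover m (by omega) h0).1 hm
  obtain ⟨m', hm', hcg⟩ := plane_mem hg hk
  exact ⟨m', hm', (Cg.map' g (ab_facts (show k < 14 by omega)).2.1.symm').trans' hcg⟩

theorem uI_conj_mem {g : ↥Co0} (hg : g ∈ CC) : uI⁻¹ * g * uI ∈ CC := by
  have h1 := mem_CC.mp hg
  have hu : p7 * uI = uI * p7⁻¹ := by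
    calc p7 * uI = p7 * (p7⁻¹ * (p7 * uI)) := by group
      _ = uI * p7⁻¹ := by
        have : uI * p7⁻¹ = p7 * uI := by
          calc uI * p7⁻¹ = p7 * (p7⁻¹ * uI) * p7⁻¹ := by group
            _ = p7 * (uI * p7) * p7⁻¹ := by rw [uI_inv]
            _ = p7 * uI := by group
        rw [this]; group
  have h2 : g * p7⁻¹ = p7⁻¹ * g := by
    calc g * p7⁻¹ = p7⁻¹ * (p7 * g) * p7⁻¹ := by group
      _ = _ := by rw [← h1]; group
  refine mem_CC.mpr ?_
  calc uI⁻¹ * g * uI * p7 = uI⁻¹ * g * (p7⁻¹ * uI) := by rw [← uI_inv]; group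
    _ = uI⁻¹ * (g * p7⁻¹) * uI := by group
    _ = uI⁻¹ * p7⁻¹ * g * uI := by rw [h2]; group
    _ = _ := by
      have h3 : uI⁻¹ * p7⁻¹ = p7 * uI⁻¹ := by
        calc uI⁻¹ * p7⁻¹ = uI⁻¹ * (p7⁻¹ * uI) * uI⁻¹ := by group
          _ = uI⁻¹ * (uI * p7) * uI⁻¹ := by rw [uI_inv]
          _ = _ := by group
      rw [h3]; group

theorem second_act {g : ↥Co0} (hg : g ∈ CC) {m : ℕ} (hm : m < 64) (h8 : m % 8 = 0) :
    ∃ m' < 64, m' % 8 = 0 ∧ Cg (g • sub m) (sub m') := by
  by_cases h0 : m = 0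
  · subst h0
    exact ⟨0, by norm_num, rfl, by
      rw [sub_zero', show g • (0 : ↥leechLattice) = 0 from map_zero (autHom g)]; exact Cg.refl' 0⟩
  obtain ⟨k, hk, rfl⟩ := (abM_cover m hm h0).2 h8
  obtain ⟨m', hm', hcg⟩ := plane_mem (uI_conj_mem hg) hk
  have h1 : Cg (g • sub (abM.getD (7 + k) 0)) (uI • sub m') := by
    refine (Cg.map' g (ab_facts (show 7 + k < 14 by omega)).2.1.symm').trans' ?_
    rw [show abV (7 + k) = uI • aV k from (uI_aV hk).symm, ← mul_smul]
    have := Cg.map' uI hcg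
    rwa [← mul_smul, ← mul_assoc, ← mul_assoc, mul_inv_cancel, one_mul] at this
  by_cases hm0 : m' = 0
  · refine ⟨0, by norm_num, rfl, h1.trans' ?_⟩
    subst hm0
    rw [sub_zero', show uI • (0 : ↥leechLattice) = 0 from map_zero (autHom uI)]
    exact Cg.refl' 0
  obtain ⟨j, hj, rfl⟩ := (abM_cover m' (by omega) hm0).1 hm'
  refine ⟨abM.getD (7 + j) 0, (ab_facts (by omega)).2.2.2, abM_second j hj, h1.trans' ?_⟩
  refine (Cg.map' uI (ab_facts (show j < 14 by omega)).2.1.symm').trans' ?_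
  rw [uI_aV hj]
  exact (ab_facts (show 7 + j < 14 by omega)).2.1

/-- The check for four-groups in the group of order 168. -/
def kleinB : Bool :=
  (List.range 512).all fun v =>
    !(Order168Model.mulC 275 v == Order168Model.mulC v 275 && Order168Model.mulC v v == 273 && v != 273 &&
        v != 275 && Order168Model.detC v) ||
      (List.range 512).all fun w =>
        !(Order168Model.mulC 275 w == Order168Model.mulC w 275 && Order168Model.mulC v w == Order168Model.mulC w v &&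
            Order168Model.mulC w w == 273 && Order168Model.detC w) ||
          (w == 273 || w == 275 || w == v || w == Order168Model.mulC 275 v)

theorem klein_checked : kleinB = true := by decide +kernel

theorem klein_max_standard (v : Order168Model.T) (h1 : Order168Model.mkT 275 * v = v * Order168Model.mkT 275)
    (h2 : v * v = 1) (h3 : v ≠ 1) (h4 : v ≠ Order168Model.mkT 275) (w : Order168Model.T)
    (h5 : Order168Model.mkT 275 * w = w * Order168Model.mkT 275) (h6 : v * w = w * v) (h7 : w * w = 1) :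
    w = 1 ∨ w = Order168Model.mkT 275 ∨ w = v ∨ w = Order168Model.mkT 275 * v := by
  have ht : (Order168Model.mkT 275).1.val = 275 := by decide +kernel
  have cm : ∀ a b : Order168Model.T, (a * b).1.val = Order168Model.mulC a.1.val b.1.val := fun a b => rfl
  have e1 : (1 : Order168Model.T).1.val = 273 := rfl
  have inj : ∀ a b : Order168Model.T, a.1.val = b.1.val → a = b := fun a b h => Subtype.ext (Fin.ext h)
  have h := List.all_eq_true.mp klein_checked v.1.val (List.mem_range.mpr v.1.2)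
  have g1 := congrArg (fun x : Order168Model.T => x.1.val) h1
  have g2 := congrArg (fun x : Order168Model.T => x.1.val) h2
  have g5 := congrArg (fun x : Order168Model.T => x.1.val) h5
  have g6 := congrArg (fun x : Order168Model.T => x.1.val) h6
  have g7 := congrArg (fun x : Order168Model.T => x.1.val) h7
  simp only [cm, ht, e1] at g1 g2 g5 g6 g7
  have g3 : v.1.val ≠ 273 := fun h => h3 (inj _ _ (h.trans e1.symm))
  have g4 : v.1.val ≠ 275 := fun h => h4 (inj _ _ (h.trans ht.symm))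
  simp only [g1, g2, v.2, Bool.or_eq_true, Bool.not_eq_true', Bool.and_eq_false_iff, beq_self_eq_true,
    bne_eq_false_iff_eq, g3, g4, reduceCtorEq, or_self, false_or, List.all_eq_true, List.mem_range] at h
  have hw := h w.1.val w.1.2
  simp only [g5, g6, g7, w.2, beq_self_eq_true, reduceCtorEq, or_self, false_or, beq_iff_eq] at hw
  rcases hw with ((hw | hw) | hw) | hw
  exacts [Or.inl (inj _ _ (hw.trans e1.symm)), Or.inr (Or.inl (inj _ _ (hw.trans ht.symm))),
    Or.inr (Or.inr (Or.inl (inj _ _ hw))),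
    Or.inr (Or.inr (Or.inr (inj _ _ (by rw [hw, cm, ht, g1]))))]

/-- An elementary abelian 2-subgroup of the group of order 168 has at most four elements. -/
theorem card_elementary_T_le (U : Subgroup Order168Model.T) (h2 : ∀ x ∈ U, x * x = 1) : Nat.card U ≤ 4 := by
  classical
  by_contra hbig
  push Not at hbig
  haveI : Fintype ↥U := Fintype.ofFinite _
  rw [Nat.card_eq_fintype_card] at hbig
  obtain ⟨u, hu1⟩ := Fintype.exists_ne_of_one_lt_card (by omega) (1 : ↥U)
  obtain ⟨c, hc⟩ := Order168Model.conj_two (u : Order168Model.T) (by rw [pow_two]; exact h2 _ u.2)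
    (fun h => hu1 (Subtype.ext h))
  set t := Order168Model.mkT 275
  set U' := U.map (MulAut.conj c).toMonoidHom with hU'
  have hc' : Nat.card ↥U' = Nat.card ↥U := Subgroup.card_map_of_injective (MulAut.conj c).injective
  have hsq : ∀ x ∈ U', x * x = 1 := by
    rintro _ ⟨x, hx, rfl⟩
    rw [← map_mul, h2 x hx, map_one]
  have hcomm : ∀ x ∈ U', ∀ y ∈ U', x * y = y * x := fun x hx y hy => by
    have hi : ∀ w ∈ U', w⁻¹ = w := fun w hw => inv_eq_of_mul_eq_one_right (hsq w hw)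
    calc x * y = (x * y)⁻¹ := (hi _ (U'.mul_mem hx hy)).symm
      _ = y * x := by rw [mul_inv_rev, hi x hx, hi y hy]
  have htU : t ∈ U' := ⟨u, u.2, hc⟩
  haveI : Fintype ↥U' := Fintype.ofFinite _
  have hbig' : 4 < Fintype.card ↥U' := by
    rw [← Nat.card_eq_fintype_card, hc', Nat.card_eq_fintype_card]; exact hbig
  have hex : ∀ s : Finset ↥U', s.card ≤ 4 → ∃ x : ↥U', x ∉ s := fun s hs => by
    by_contra h
    push Not at h
    rw [← Finset.card_univ] at hbig'
    have := Finset.card_le_card (fun x _ => h x : (Finset.univ : Finset ↥U') ⊆ s)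
    omega
  obtain ⟨v, hv⟩ := hex {1, ⟨t, htU⟩} ((Finset.card_le_two).trans (by norm_num))
  simp only [Finset.mem_insert, Finset.mem_singleton, not_or] at hv
  obtain ⟨w, hw⟩ := hex {1, ⟨t, htU⟩, v, ⟨t, htU⟩ * v} Finset.card_le_four
  simp only [Finset.mem_insert, Finset.mem_singleton, not_or] at hw
  rcases klein_max_standard v (hcomm _ htU _ v.2) (hsq _ v.2) (fun h => hv.1 (Subtype.ext h))
    (fun h => hv.2 (Subtype.ext h)) w (hcomm _ htU _ w.2) (hcomm _ v.2 _ w.2) (hsq _ w.2) with h | h | h | h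
  exacts [hw.1 (Subtype.ext h), hw.2.1 (Subtype.ext h), hw.2.2.1 (Subtype.ext h), hw.2.2.2 (Subtype.ext h)]

variable {G : Type*} [Group G] [Finite G] {z : G} {Q : Subgroup (Subgroup.centralizer ({z} : Set G))} [Q.Normal]

namespace Sev

variable {D : Data z Q} (S : Sev D)

/-- The fixed elements with a mask satisfying a test. -/
def PlaneMem (f : ℕ → Bool) (x : Cz z) : Prop :=
  ∃ q : Q, (q : Cz z) = x ∧ ∃ m < 64, f m = true ∧ D.ψ (sub m) = QuotientGroup.mk q

theorem planeMem_mul {f : ℕ → Bool} (hf : ∀ m < 64, ∀ n < 64, f m = true → f n = true → f (m ^^^ n) = true)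
    {x y : Cz z} (hx : PlaneMem (D := D) f x) (hy : PlaneMem (D := D) f y) : PlaneMem (D := D) f (x * y) := by
  obtain ⟨p, rfl, m, hm, hfm, hp⟩ := hx
  obtain ⟨q, rfl, n, hn, hfn, hq⟩ := hy
  refine ⟨p * q, rfl, m ^^^ n, Nat.xor_lt_two_pow (n := 6) hm hn, hf m hm n hn hfm hfn, ?_⟩
  rw [← D.psi_cg.mpr (sub_add m n), D.psi_add, hp, hq, QuotientGroup.mk_mul]

/-- A plane as a subgroup. -/
def plane (f : ℕ → Bool) (hf : ∀ m < 64, ∀ n < 64, f m = true → f n = true → f (m ^^^ n) = true)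
    (h0 : f 0 = true) : Subgroup (Cz z) where
  carrier := {x | PlaneMem (D := D) f x}
  one_mem' := ⟨1, rfl, 0, by norm_num, h0, by rw [sub_zero', D.psi_zero]; rfl⟩
  mul_mem' := planeMem_mul hf
  inv_mem' := by
    rintro _ ⟨q, rfl, m, hm, hfm, hq⟩
    refine ⟨q⁻¹, rfl, m, hm, hfm, ?_⟩
    rw [hq]
    refine D.mk_eq_mk.mpr ?_
    rcases D.ext2.sq q with h | h
    · exact Or.inl (inv_eq_of_mul_eq_one_right h)
    · refine Or.inr (inv_eq_of_mul_eq_one_right ?_)
      rw [← mul_assoc, h, D.ext2.zz]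

/-- The first plane. -/
def PA : Subgroup (Cz z) :=
  plane (D := D) firstB (fun m _ n _ hm hn => by
    simp only [firstB, Nat.blt_eq] at *; exact first_xor m hm n hn) rfl

/-- The second plane. -/
def PB : Subgroup (Cz z) :=
  plane (D := D) secondB (fun m hm n hn h h' => by
    simp only [secondB, Nat.beq_eq] at *; exact second_xor m hm n hn h h') rfl

theorem mem_PA {x : Cz z} : x ∈ PA (D := D) ↔
    ∃ q : Q, (q : Cz z) = x ∧ ∃ m < 8, D.ψ (sub m) = QuotientGroup.mk q := by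
  constructor
  · rintro ⟨q, rfl, m, -, hf, h⟩
    exact ⟨q, rfl, m, Nat.blt_eq.mp hf, h⟩
  · rintro ⟨q, rfl, m, hm, h⟩
    exact ⟨q, rfl, m, by omega, Nat.blt_eq.mpr hm, h⟩

theorem mem_PB {x : Cz z} : x ∈ PB (D := D) ↔
    ∃ q : Q, (q : Cz z) = x ∧ ∃ m < 64, m % 8 = 0 ∧ D.ψ (sub m) = QuotientGroup.mk q := by
  constructor
  · rintro ⟨q, rfl, m, hm, hf, h⟩
    exact ⟨q, rfl, m, hm, Nat.beq_eq.mp hf, h⟩
  · rintro ⟨q, rfl, m, hm, h8, h⟩
    exact ⟨q, rfl, m, hm, Nat.beq_eq.mpr h8, h⟩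

theorem planeMem_R {f : ℕ → Bool} {x : Cz z} (hx : PlaneMem (D := D) f x) : x ∈ S.R := by
  obtain ⟨q, rfl, m, hm, -, hq⟩ := hx
  exact S.mem_R.mpr ⟨q.2, (S.fix_iff hq).mpr (sub_mem_P hm)⟩

theorem plane_sq {f : ℕ → Bool} (hsub : ∀ m < 64, f m = true → m ≠ 0 → ∃ k < 14, abM.getD k 0 = m) {x : Cz z}
    (hx : PlaneMem (D := D) f x) : x * x = 1 := by
  obtain ⟨q, rfl, m, hm, hfm, hq⟩ := hx
  have h : q * q = 1 := by
    by_cases h0 : m = 0
    · subst h0
      rw [sub_zero', D.psi_zero] at hq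
      rcases (D.ext2.center_iff q).mp ((QuotientGroup.eq_one_iff q).mp hq.symm) with rfl | rfl
      exacts [one_mul 1, D.ext2.zz]
    · obtain ⟨k, hk, rfl⟩ := hsub m hm hfm h0
      exact (D.sq_iff ((D.psi_cg.mpr (ab_facts hk).2.1).trans hq)).mpr (by rw [(ab_facts hk).2.2.1]; norm_num)
  exact congrArg Subtype.val h

theorem PA_sq {x : Cz z} (hx : x ∈ PA (D := D)) : x * x = 1 :=
  plane_sq (fun m hm hf h0 => by
    obtain ⟨k, hk, e⟩ := (abM_cover m hm h0).1 (Nat.blt_eq.mp hf)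
    exact ⟨k, by omega, e⟩) hx

theorem PB_sq {x : Cz z} (hx : x ∈ PB (D := D)) : x * x = 1 :=
  plane_sq (fun m hm hf h0 => by
    obtain ⟨k, hk, e⟩ := (abM_cover m hm h0).2 (Nat.beq_eq.mp hf)
    exact ⟨7 + k, by omega, e⟩) hx

theorem zq_PA : (D.zq : Cz z) ∈ PA (D := D) := mem_PA.mpr ⟨D.zq, rfl, 0, by norm_num, by
  rw [sub_zero', D.psi_zero]; exact ((QuotientGroup.eq_one_iff _).mpr ((D.ext2.center_iff _).mpr (Or.inr rfl))).symm⟩

theorem zq_PB : (D.zq : Cz z) ∈ PB (D := D) := mem_PB.mpr ⟨D.zq, rfl, 0, by norm_num, rfl, by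
  rw [sub_zero', D.psi_zero]; exact ((QuotientGroup.eq_one_iff _).mpr ((D.ext2.center_iff _).mpr (Or.inr rfl))).symm⟩

theorem PA_inf_PB {x : Cz z} (hA : x ∈ PA (D := D)) (hB : x ∈ PB (D := D)) : x = 1 ∨ x = (D.zq : Cz z) := by
  obtain ⟨q, rfl, m, hm, h1⟩ := mem_PA.mp hA
  obtain ⟨q', he, n, hn, h8, h2⟩ := mem_PB.mp hB
  obtain rfl : q' = q := Subtype.ext he
  have := sub_inj (by omega) hn (D.psi_cg.mp (h1.trans h2.symm))
  have h0 : m = 0 := by omega
  subst h0
  rw [sub_zero', D.psi_zero] at h1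
  rcases (D.ext2.center_iff q').mp ((QuotientGroup.eq_one_iff q').mp h1.symm) with rfl | rfl
  exacts [Or.inl rfl, Or.inr rfl]

theorem card_plane_ge {M : Subgroup (Cz z)} (f : Fin 8 → ℕ) (hf : Function.Injective f) (hlt : ∀ i, f i < 64)
    (hmem : ∀ (i : Fin 8) (b : Bool), (D.rep (sub (f i)) : Cz z) * cond b (D.zq : Cz z) 1 ∈ M) :
    16 ≤ Nat.card ↥M := by
  have h := Nat.card_le_card_of_injective (fun p : Fin 8 × Bool => (⟨_, hmem p.1 p.2⟩ : ↥M)) (by
    rintro ⟨m, b⟩ ⟨n, c⟩ h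
    have hv := congrArg Subtype.val h
    have h' : D.rep (sub (f m)) * cond b D.zq 1 = D.rep (sub (f n)) * cond c D.zq 1 := by
      cases b <;> cases c <;> exact Subtype.ext hv
    have hz : ∀ x : Bool, (QuotientGroup.mk (cond x D.zq 1) : Q ⧸ Subgroup.center Q) = 1 := fun x => by
      rw [QuotientGroup.eq_one_iff]
      cases x
      exacts [one_mem _, (D.ext2.center_iff _).mpr (Or.inr rfl)]
    have hm := congrArg (fun q : Q => (QuotientGroup.mk q : Q ⧸ Subgroup.center Q)) h'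
    simp only [QuotientGroup.mk_mul, hz, mul_one, D.mk_rep] at hm
    obtain rfl : m = n := hf (sub_inj (hlt m) (hlt n) (D.psi_cg.mp hm))
    have hbc := mul_left_cancel h'
    cases b <;> cases c
    · rfl
    · exact absurd hbc.symm D.ext2.ne
    · exact absurd hbc D.ext2.ne
    · rfl)
  simpa using h

theorem card_PA_ge : 16 ≤ Nat.card ↥(PA (D := D)) :=
  card_plane_ge (fun i => i.val) Fin.val_injective (fun i => by omega) fun i b => by
    refine mul_mem (mem_PA.mpr ⟨_, rfl, i.val, i.2, (D.mk_rep _).symm⟩) ?_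
    cases b
    exacts [one_mem _, zq_PA]

theorem card_PB_ge : 16 ≤ Nat.card ↥(PB (D := D)) :=
  card_plane_ge (fun i => 8 * i.val) (fun i j h => Fin.ext (by simpa using h)) (fun i => by omega) fun i b => by
    refine mul_mem (mem_PB.mpr ⟨_, rfl, 8 * i.val, by omega, by simp, (D.mk_rep _).symm⟩) ?_
    cases b
    exacts [one_mem _, zq_PB]

theorem card_PA : Nat.card ↥(PA (D := D)) = 16 := by
  classical
  refine le_antisymm ?_ card_PA_ge
  let f : ↥(PA (D := D)) → Fin 8 × Bool := fun x =>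
    (⟨(mem_PA.mp x.2).choose_spec.2.choose, (mem_PA.mp x.2).choose_spec.2.choose_spec.1⟩,
      decide ((mem_PA.mp x.2).choose = D.rep (sub (mem_PA.mp x.2).choose_spec.2.choose)))
  have key : ∀ x : ↥(PA (D := D)), ∀ q : Q, (q : Cz z) = (x : Cz z) → ∀ m : ℕ, D.ψ (sub m) = QuotientGroup.mk q →
      (q = D.rep (sub m) ∨ q = D.rep (sub m) * D.zq) := fun x q _ m hm =>
    D.mk_eq_mk.mp ((D.mk_rep _).trans hm)
  refine le_trans (Nat.card_le_card_of_injective f fun x y h => Subtype.ext ?_) (by simp)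
  simp only [f, Prod.mk.injEq, Fin.mk.injEq] at h
  obtain ⟨hx, -⟩ := (mem_PA.mp x.2).choose_spec
  obtain ⟨hy, -⟩ := (mem_PA.mp y.2).choose_spec
  have ex := key x _ hx _ (mem_PA.mp x.2).choose_spec.2.choose_spec.2
  have ey := key y _ hy _ (mem_PA.mp y.2).choose_spec.2.choose_spec.2
  rw [← hx, ← hy]
  obtain ⟨h1, h2⟩ := h
  rw [h1] at ex h2
  rw [decide_eq_decide] at h2
  rcases ex with ex | ex
  · exact congrArg Subtype.val (ex.trans (h2.mp ex).symm)
  · rcases ey with ey | ey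
    · exact congrArg Subtype.val ((h2.mpr ey).trans ey.symm)
    · exact congrArg Subtype.val (ex.trans ey.symm)

theorem card_PB : Nat.card ↥(PB (D := D)) = 16 := by
  classical
  refine le_antisymm ?_ card_PB_ge
  let f : ↥(PB (D := D)) → Fin 8 × Bool := fun x =>
    (⟨(mem_PB.mp x.2).choose_spec.2.choose / 8, by
        have := (mem_PB.mp x.2).choose_spec.2.choose_spec.1; omega⟩,
      decide ((mem_PB.mp x.2).choose = D.rep (sub (mem_PB.mp x.2).choose_spec.2.choose)))
  refine le_trans (Nat.card_le_card_of_injective f fun x y h => Subtype.ext ?_) (by simp)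
  simp only [f, Prod.mk.injEq, Fin.mk.injEq] at h
  obtain ⟨hx, -⟩ := (mem_PB.mp x.2).choose_spec
  obtain ⟨hy, -⟩ := (mem_PB.mp y.2).choose_spec
  obtain ⟨-, h8x, hpx⟩ := (mem_PB.mp x.2).choose_spec.2.choose_spec
  obtain ⟨-, h8y, hpy⟩ := (mem_PB.mp y.2).choose_spec.2.choose_spec
  have ex := D.mk_eq_mk.mp ((D.mk_rep _).trans hpx)
  have ey := D.mk_eq_mk.mp ((D.mk_rep _).trans hpy)
  rw [← hx, ← hy]
  obtain ⟨h1, h2⟩ := h
  have h1' : (mem_PB.mp x.2).choose_spec.2.choose = (mem_PB.mp y.2).choose_spec.2.choose := by omega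
  rw [h1'] at ex h2
  rw [decide_eq_decide] at h2
  rcases ex with ex | ex
  · exact congrArg Subtype.val (ex.trans (h2.mp ex).symm)
  · rcases ey with ey | ey
    · exact congrArg Subtype.val ((h2.mpr ey).trans ey.symm)
    · exact congrArg Subtype.val (ex.trans ey.symm)

/-- The planes are stable under the centraliser of the element of order seven. -/
theorem planes_stable (d : ↥S.CD) {x : Cz z} :
    (x ∈ PA (D := D) → (d : Cz z) * x * (d : Cz z)⁻¹ ∈ PA (D := D)) ∧
      (x ∈ PB (D := D) → (d : Cz z) * x * (d : Cz z)⁻¹ ∈ PB (D := D)) := by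
  obtain ⟨g, hg⟩ := QuotientGroup.mk_surjective (D.e (QuotientGroup.mk (d : Cz z)))
  have hgC : g ∈ CC := S.image_comm hg.symm (Subgroup.mem_centralizer_singleton_iff.mp d.2)
  constructor
  · intro hx
    obtain ⟨q, rfl, m, hm, hq⟩ := mem_PA.mp hx
    obtain ⟨m', hm', hcg⟩ := first_act hgC hm
    exact mem_PA.mpr ⟨⟨_, (inferInstance : Q.Normal).conj_mem _ q.2 _⟩, rfl, m', hm',
      (D.psi_cg.mpr hcg).symm.trans (D.iso.2.2.2 (d : Cz z) g hg _ q hq)⟩
  · intro hx
    obtain ⟨q, rfl, m, hm, h8, hq⟩ := mem_PB.mp hx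
    obtain ⟨m', hm', h8', hcg⟩ := second_act hgC hm h8
    exact mem_PB.mpr ⟨⟨_, (inferInstance : Q.Normal).conj_mem _ q.2 _⟩, rfl, m', hm', h8',
      (D.psi_cg.mpr hcg).symm.trans (D.iso.2.2.2 (d : Cz z) g hg _ q hq)⟩

/-- The fused element meets `Q` and its conjugate in a class of norm 32 fixed by the element of order seven. -/
theorem exists_fixed_norm32 {n : G} (hnz : n * z * n⁻¹ = ((S.a : Cz z) : G)) :
    ∃ q : Q, (q : Cz z) ∈ S.R ∧ (q : Cz z) ∈ Qc Q n ∧ ((q : Cz z) : G) ≠ 1 ∧ ¬ IsConj z ((q : Cz z) : G) := by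
  obtain ⟨hc, -, -, -, -, -, hcard, -⟩ := D.main hnz S.a_facts.2
  let W : Set ↥leechLattice := {u | ∃ q : Q, (q : Cz z) ∈ Qc Q n ∧ D.ψ u = QuotientGroup.mk q}
  have h1 : (1 : ↥Co0) • ax none = ax none := one_smul _ _
  have hW : CfsgLeech.FrameClosed W := by
    refine ⟨?_, ?_, ?_, ⟨S.a, D.self_mem_qc hnz, S.vec⟩⟩
    · rintro x ⟨q, hq, e⟩ y ⟨q', hq', e'⟩
      exact ⟨q * q', (Qc Q n).mul_mem hq hq', by rw [D.psi_add, e, e', QuotientGroup.mk_mul]⟩
    · rintro x y hxy ⟨q, hq, e⟩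
      exact ⟨q, hq, (D.psi_cg.mpr hxy.symm').trans e⟩
    · rintro m hm x ⟨q, hq, e⟩
      have hmem : (D.phi 1) (QuotientGroup.mk m) ∈
          (Subgroup.centralizer ({(S.a : Cz z)} : Set (Cz z))).map (QuotientGroup.mk' Q) := by
        rw [D.map_phi S.vec hc h1]
        exact Subgroup.mem_map_of_mem _ (mem_modImg.2 hm)
      obtain ⟨k, hk, hke⟩ := hmem
      have hk' : (QuotientGroup.mk m : Spor.Co1) = D.e (QuotientGroup.mk k) := by
        rw [show (QuotientGroup.mk k : Cz z ⧸ Q) = D.phi 1 (QuotientGroup.mk m) from hke]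
        simp [Data.phi, MulAut.conj_apply]
      exact ⟨_, D.qc_normal hnz hk hq, D.iso.2.2.2 k m hk' x q e⟩
  have hex : ∃ x ∈ W, ¬ Cg x 0 ∧ ¬ Cg x (ax none) := by
    by_contra hall
    push Not at hall
    classical
    let T : Finset ↥Q := {1, D.zq, S.a, S.a * D.zq}
    have hle : ∀ q : ↥((Qc Q n).subgroupOf Q), (q : ↥Q) ∈ T := by
      rintro ⟨q, hq⟩
      obtain ⟨v, hv⟩ := D.iso.2.1 (QuotientGroup.mk q)
      by_cases h0 : Cg v 0
      · have h1 := D.psi_cg.mpr h0
        rw [hv, D.psi_zero] at h1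
        rcases (D.ext2.center_iff q).mp ((QuotientGroup.eq_one_iff q).mp h1) with rfl | rfl <;> simp [T]
      · have h1 := D.psi_cg.mpr (hall v ⟨q, hq, hv⟩ h0)
        rw [hv, S.vec] at h1
        rcases D.mk_eq_mk.mp h1.symm with rfl | rfl <;> simp [T]
    have hc1 : Nat.card ↥((Qc Q n).subgroupOf Q) ≤ Nat.card ↥T :=
      Nat.card_le_card_of_injective (fun q => (⟨q.1, hle q⟩ : ↥T)) fun p q h =>
        Subtype.ext (congrArg (fun s : ↥T => (s : ↥Q)) h)
    have hc2 : Nat.card ↥T ≤ 4 := by rw [Nat.card_eq_finsetCard]; exact Finset.card_le_four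
    have hc3 : Nat.card ↥((Qc Q n).subgroupOf Q) = 2 ^ 13 := by
      rw [← hcard, inf_comm, ← Subgroup.subgroupOf_map_subtype, Subgroup.card_map_of_injective Q.subtype_injective]
    norm_num at hc3
    omega
  have hfix : ∀ k : ℕ, k = 0 ∨ k = 4 → r7 (pt k) = pt k := by
    intro k hk
    rw [repr_r7.apply_pt (by omega)]
    rcases hk with rfl | rfl
    · exact congrArg pt (show papp e7 0 = 0 by decide +kernel)
    · exact congrArg pt (show papp e7 4 = 4 by decide +kernel)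
  have hpq : pt 0 ≠ pt 4 := fun h => absurd (congrArg idx h) (by rw [idx_pt (by norm_num), idx_pt (by norm_num)]; norm_num)
  obtain ⟨q, hq, hqv⟩ := pair_mem hW hex hpq
  set w : ↥leechLattice := ⟨_, pair_vec_mem hpq⟩
  have hiff : ∀ i, r7 i ∈ ({pt 0, pt 4} : Finset GolayPt) ↔ i ∈ ({pt 0, pt 4} : Finset GolayPt) := by
    intro i
    simp only [Finset.mem_insert, Finset.mem_singleton]
    constructor
    · rintro (h | h)
      · exact Or.inl (r7.injective (h.trans (hfix 0 (Or.inl rfl)).symm))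
      · exact Or.inr (r7.injective (h.trans (hfix 4 (Or.inr rfl)).symm))
    · rintro (rfl | rfl)
      exacts [Or.inl (hfix 0 (Or.inl rfl)), Or.inr (hfix 4 (Or.inr rfl))]
  have hwP : w ∈ P := fixed_mem fun i => by
    show 4 * chi ({pt 0, pt 4} : Finset GolayPt) (r7 i) = 4 * chi ({pt 0, pt 4} : Finset GolayPt) i
    rw [chi, chi, if_congr (hiff i) rfl rfl]
  have hn : sqNorm (w : GolayPt → ℤ) = 32 := by
    show sqNorm (fun i => 4 * chi ({pt 0, pt 4} : Finset GolayPt) i) = 32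
    rw [sqNorm, Finset.sum_congr rfl fun i _ => (show (4 * chi ({pt 0, pt 4} : Finset GolayPt) i) ^ 2 =
      16 * chi ({pt 0, pt 4} : Finset GolayPt) i by rw [mul_pow, chi_sq]; norm_num), ← Finset.mul_sum, sum_chi,
      Finset.card_pair hpq]
    norm_num
  obtain ⟨ho, hnc⟩ := D.not_conj_of_norm32 hqv hn
  refine ⟨q, S.mem_R.mpr ⟨q.2, (S.fix_iff hqv).mpr hwP⟩, hq, fun h => ?_, hnc⟩
  rw [h, orderOf_one] at ho
  norm_num at ho

end Sev

end CfsgLib.MonsterQ.Seven
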