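/-
Groups of Monster type: the centraliser of the image of `z` has the shape of the centraliser of a transvection.
-/
import Cfsg.Agent.Lib.MonsterQ.Seven.Planes
import Cfsg.Agent.Lib.HeldShape.Affine

set_option autoImplicit false
set_option maxRecDepth 100000
set_option linter.style.haveILetI false
set_option linter.unusedSectionVars false

namespace CfsgLib.MonsterQ.Seven

open Cfsg CfsgGolay CfsgLeech CfsgLib.ExtraTwo
open scoped Pointwise commutatorElement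

attribute [local irreducible] codeL octadL dodecadL slpCodes r7

variable {G : Type*} [Group G] [Finite G] {z : G} {Q : Subgroup (Subgroup.centralizer ({z} : Set G))} [Q.Normal]

namespace Sev

variable {D : Data z Q} (S : Sev D) [S.N.Normal]

/-- The centraliser of the image of `z`. -/
abbrev Cb : Type _ := ↥(Subgroup.centralizer ({S.zb} : Set S.Gb))

/-- The image of a subgroup of the fixed points. -/
def up (M : Subgroup (Cz z)) : Subgroup S.Cb := (M.subgroupOf S.R).map S.toR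

theorem mem_up {M : Subgroup (Cz z)} {x : S.Cb} :
    x ∈ S.up M ↔ ∃ r : ↥S.R, (r : Cz z) ∈ M ∧ S.toR r = x := Iff.rfl

theorem up_le (M : Subgroup (Cz z)) : S.up M ≤ S.R' := by
  rintro _ ⟨r, -, rfl⟩
  rw [S.R'_eq]; exact ⟨r, rfl⟩

theorem card_up {M : Subgroup (Cz z)} (h : M ≤ S.R) : Nat.card ↥(S.up M) = Nat.card ↥M := by
  rw [up, Subgroup.card_map_of_injective S.toR_injective, Nat.card_congr (Subgroup.subgroupOfEquivOfLe h).toEquiv]

theorem up_sq {M : Subgroup (Cz z)} (h : ∀ x ∈ M, x * x = 1) {x : S.Cb} (hx : x ∈ S.up M) : x * x = 1 := by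
  obtain ⟨r, hr, rfl⟩ := hx
  rw [← map_mul, show r * r = 1 from Subtype.ext (h _ hr), map_one]

theorem up_normal {M : Subgroup (Cz z)} (hle : M ≤ S.R)
    (h : ∀ (d : ↥S.CD) (x : Cz z), x ∈ M → (d : Cz z) * x * (d : Cz z)⁻¹ ∈ M) : (S.up M).Normal := by
  refine ⟨fun x hx g => ?_⟩
  obtain ⟨r, hr, rfl⟩ := hx
  obtain ⟨d, rfl⟩ := S.toC_surjective g
  refine ⟨⟨(d : Cz z) * (r : Cz z) * (d : Cz z)⁻¹, hle (h d _ hr)⟩, h d _ hr, ?_⟩
  show S.toC _ = S.toC d * S.toC (Subgroup.inclusion S.R_le_CD r) * (S.toC d)⁻¹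
  rw [← map_inv, ← map_mul, ← map_mul]
  rfl

theorem PA_le : PA (D := D) ≤ S.R := fun _ hx => S.planeMem_R hx

theorem PB_le : PB (D := D) ≤ S.R := fun _ hx => S.planeMem_R hx

theorem upA_normal : (S.up (PA (D := D))).Normal := S.up_normal S.PA_le fun d _ hx => (S.planes_stable d).1 hx

theorem upB_normal : (S.up (PB (D := D))).Normal := S.up_normal S.PB_le fun d _ hx => (S.planes_stable d).2 hx

/-- The image of `z` in the centraliser. -/
def zC : S.Cb := S.toR ⟨(D.zq : Cz z), S.zq_mem_R⟩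

theorem zC_val : (S.zC : S.Gb) = S.zb := congrArg QuotientGroup.mk (Subtype.ext D.coe_zq)

theorem up_inf {x : S.Cb} (hA : x ∈ S.up (PA (D := D))) (hB : x ∈ S.up (PB (D := D))) : x = 1 ∨ x = S.zC := by
  obtain ⟨r, hr, rfl⟩ := hA
  obtain ⟨r', hr', he⟩ := hB
  obtain rfl := S.toR_injective he
  rcases PA_inf_PB hr hr' with h | h
  · left
    rw [show r' = 1 from Subtype.ext h, map_one]
  · right
    rw [show r' = ⟨_, S.zq_mem_R⟩ from Subtype.ext h]; rfl

theorem exists_fixer : ∃ F : S.Cb →* Order168Model.T, Function.Surjective F ∧ F.ker = S.R' := by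
  obtain ⟨-, F, hFs, hFk, -, -⟩ := S.exists_F
  haveI := CfsgLib.Order168.gl32.1
  obtain ⟨e⟩ := Order168Model.exists_equiv CfsgLib.Order168.gl32.2
  refine ⟨e.toMonoidHom.comp F, e.surjective.comp hFs, ?_⟩
  rw [← hFk]
  ext x
  simp [MonoidHom.mem_ker]

theorem cent_up {c : S.Cb} (hc : ∀ x ∈ S.up (PA (D := D)), c * x = x * c) : c ∈ S.R' := by
  obtain ⟨π, F, -, hFk, hFd, hπ⟩ := S.exists_F
  obtain ⟨d, rfl⟩ := S.toC_surjective c
  rw [← hFk, MonoidHom.mem_ker, hFd]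
  obtain ⟨g, hg⟩ := QuotientGroup.mk_surjective (D.e (QuotientGroup.mk (d : Cz z)))
  have hgC : g ∈ CC := S.image_comm hg.symm (Subgroup.mem_centralizer_singleton_iff.mp d.2)
  rw [hπ d ⟨g, hgC⟩ hg.symm]
  refine Units.ext (kills fun j hj => ?_)
  set r : Q := D.rep (aV j)
  have hrA : (r : Cz z) ∈ PA (D := D) := mem_PA.mpr ⟨r, rfl, abM.getD j 0, abM_first j (by omega),
    (D.psi_cg.mpr (ab_facts (show j < 14 by omega)).2.1.symm').trans (D.mk_rep _).symm⟩
  obtain ⟨rr, hrr⟩ : ∃ rr : ↥S.R, rr = ⟨(r : Cz z), S.PA_le hrA⟩ := ⟨_, rfl⟩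
  have hcm := hc (S.toR rr) ⟨rr, by rw [SetLike.mem_coe, Subgroup.mem_subgroupOf, hrr]; exact hrA, rfl⟩
  have hconj : (d : Cz z) * (r : Cz z) * (d : Cz z)⁻¹ ∈ S.R := S.PA_le ((S.planes_stable d).1 hrA)
  have he : S.toR rr = S.toR ⟨_, hconj⟩ := by
    show _ = S.toC (d * Subgroup.inclusion S.R_le_CD ⟨(r : Cz z), S.PA_le hrA⟩ * d⁻¹)
    rw [map_mul, map_mul, map_inv, ← hrr]
    show _ = S.toC d * S.toR rr * (S.toC d)⁻¹
    rw [hcm, mul_inv_cancel_right]
  have he2 : (r : Cz z) = (d : Cz z) * (r : Cz z) * (d : Cz z)⁻¹ := by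
    have := congrArg Subtype.val (S.toR_injective he)
    rwa [hrr] at this
  have h1 := D.iso.2.2.2 (d : Cz z) g hg (aV j) r (D.mk_rep _).symm
  refine D.psi_cg.mp (h1.trans ?_)
  rw [← D.mk_rep]
  exact congrArg QuotientGroup.mk (Subtype.ext he2.symm)

omit [S.N.Normal] in
theorem a_PA : (S.a : Cz z) ∈ PA (D := D) := by
  refine mem_PA.mpr ⟨S.a, rfl, abM.getD 0 0, abM_first 0 (by norm_num), ?_⟩
  rw [← S.vec, ← aV_zero]
  exact D.psi_cg.mpr (ab_facts (by norm_num)).2.1.symm'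

omit [S.N.Normal] in
/-- The centraliser of a fixed element outside the centre has 64 elements. -/
theorem card_cent_fixed {r₀ : ↥S.R} (h1 : r₀ ≠ 1) (hz : r₀ ≠ ⟨(D.zq : Cz z), S.zq_mem_R⟩) :
    Nat.card ↥(Subgroup.centralizer ({r₀} : Set ↥S.R)) = 64 := by
  set C := Subgroup.centralizer ({r₀} : Set ↥S.R)
  obtain ⟨g₀, hg₀⟩ : ∃ g₀, g₀ * r₀ ≠ r₀ * g₀ := by
    by_contra hall
    push Not at hall
    rcases (S.ext2R.center_iff r₀).mp (Subgroup.mem_center_iff.mpr hall) with h | h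
    exacts [h1 h, hz h]
  have hidx : C.index = 2 := by
    refine Subgroup.index_eq_two_iff.mpr ⟨g₀, fun b => ?_⟩
    by_cases hb : b ∈ C
    · refine Or.inr ⟨hb, fun h => hg₀ ?_⟩
      have := S.ext2R.mul_comm_iff.mp (Subgroup.mem_centralizer_singleton_iff.mp h)
      exact this.mp (Subgroup.mem_centralizer_singleton_iff.mp hb)
    · refine Or.inl ⟨Subgroup.mem_centralizer_singleton_iff.mpr (S.ext2R.mul_comm_iff.mpr ⟨fun h => ?_, fun h => ?_⟩), hb⟩
      · exact absurd (Subgroup.mem_centralizer_singleton_iff.mpr h) hb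
      · exact absurd h hg₀
  have h := C.card_mul_index
  rw [hidx, S.card_R] at h
  omega

omit [S.N.Normal] in
/-- The centraliser of a fixed element outside the centre is not commutative. -/
theorem cent_fixed_noncomm {r₀ : ↥S.R} (h1 : r₀ ≠ 1) (hz : r₀ ≠ ⟨(D.zq : Cz z), S.zq_mem_R⟩) :
    ∃ x y : ↥S.R, x * r₀ = r₀ * x ∧ y * r₀ = r₀ * y ∧ x * y ≠ y * x := by
  set C := Subgroup.centralizer ({r₀} : Set ↥S.R)
  by_contra hall
  push Not at hall
  have hzC : (⟨(D.zq : Cz z), S.zq_mem_R⟩ : ↥S.R) ∈ C :=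
    Subgroup.mem_centralizer_singleton_iff.mpr (S.ext2R.z_comm r₀).eq.symm
  have hle : C ≤ Subgroup.centralizer (C : Set ↥S.R) := fun x hx => Subgroup.mem_centralizer_iff.mpr fun y hy =>
    hall y x (Subgroup.mem_centralizer_singleton_iff.mp hy) (Subgroup.mem_centralizer_singleton_iff.mp hx)
  have h := S.ext2R.card_mul_card_centralizer hzC
  have h2 := Subgroup.card_le_of_le hle
  rw [S.card_R, S.card_cent_fixed h1 hz] at h
  rw [S.card_cent_fixed h1 hz] at h2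
  omega

variable {n : G} (hnβ : n * (S.β : G) = (S.β : G) * n) (hnz : n * z * n⁻¹ = ((S.a : Cz z) : G))
include hnβ hnz

omit [S.N.Normal] in
theorem exists_back : ∃ r₀ : ↥S.R, r₀ ≠ 1 ∧ r₀ ≠ ⟨(D.zq : Cz z), S.zq_mem_R⟩ ∧
    n * ((r₀ : Cz z) : G) * n⁻¹ = z := by
  obtain ⟨y, hy⟩ := S.y_mem_Q hnz
  have hβz : (S.β : G) * z = z * (S.β : G) := Subgroup.mem_centralizer_singleton_iff.mp S.β.2
  have hn' : n⁻¹ * (S.β : G) = (S.β : G) * n⁻¹ := by
    calc n⁻¹ * (S.β : G) = n⁻¹ * ((S.β : G) * n) * n⁻¹ := by group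
      _ = n⁻¹ * (n * (S.β : G)) * n⁻¹ := by rw [hnβ]
      _ = _ := by group
  have hyR : (y : Cz z) ∈ S.R := by
    refine S.mem_R.mpr ⟨y.2, Subtype.ext ?_⟩
    show (S.β : G) * ((y : Cz z) : G) = ((y : Cz z) : G) * (S.β : G)
    rw [hy]
    exact (((show Commute (n⁻¹) (S.β : G) from hn').mul_left (hβz.symm : Commute z (S.β : G))).mul_left hnβ).eq.symm
  have hne : ((y : Cz z) : G) ≠ z := fun h => S.a_facts.2 (by
    rw [← hnz]
    calc n * z * n⁻¹ = n * ((y : Cz z) : G) * n⁻¹ := by rw [h]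
      _ = z := by rw [hy]; group)
  refine ⟨⟨(y : Cz z), hyR⟩, fun h => ?_, fun h => ?_, ?_⟩
  · have h' : ((y : Cz z) : G) = 1 := congrArg (fun r : ↥S.R => ((r : Cz z) : G)) h
    have hz1 : z = 1 := by
      calc z = n * ((y : Cz z) : G) * n⁻¹ := by rw [hy]; group
        _ = 1 := by rw [h']; group
    have h2 := D.set'.1
    rw [hz1, orderOf_one] at h2
    norm_num at h2
  · exact hne ((congrArg (fun r : ↥S.R => ((r : Cz z) : G)) h).trans D.coe_zq)
  · show n * ((y : Cz z) : G) * n⁻¹ = z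
    rw [hy]; group

/-- A fixed element of the conjugate of `Q` is the conjugate of a fixed element. -/
theorem exists_pre_fixed {x : Cz z} (hx : x ∈ Qc Q n) (hxR : x ∈ S.R) :
    ∃ p : ↥S.R, n * ((p : Cz z) : G) * n⁻¹ = (x : G) := by
  obtain ⟨p, hp, hpe⟩ := mem_Qc.mp hx
  refine ⟨⟨p, S.mem_R.mpr ⟨hp, Subtype.ext ?_⟩⟩, hpe⟩
  show (S.β : G) * (p : G) = (p : G) * (S.β : G)
  have hxβ : (S.β : G) * (x : G) = (x : G) * (S.β : G) := congrArg Subtype.val (S.mem_R.mp hxR).2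
  rw [← hpe] at hxβ
  calc (S.β : G) * (p : G) = n⁻¹ * (n * (S.β : G)) * (p : G) := by group
    _ = n⁻¹ * ((S.β : G) * n) * (p : G) := by rw [hnβ]
    _ = n⁻¹ * ((S.β : G) * (n * (p : G) * n⁻¹)) * n := by group
    _ = n⁻¹ * (n * (p : G) * n⁻¹ * (S.β : G)) * n := by rw [hxβ]
    _ = (p : G) * (n⁻¹ * ((S.β : G) * n)) := by group
    _ = (p : G) * (n⁻¹ * (n * (S.β : G))) := by rw [hnβ]
    _ = _ := by group

theorem exists_witness : ∃ (Dd : Subgroup S.Cb) (y : S.Cb), y ∉ S.R' ∧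
    y * S.toR ⟨_, S.a_mem_R⟩ = S.toR ⟨_, S.a_mem_R⟩ * y ∧
    (y * y = 1 ∨ y * y = S.toR ⟨_, S.a_mem_R⟩) ∧ Dd ≤ S.R' ∧ (∀ d ∈ Dd, d * d = 1) ∧
    (∀ x ∈ S.R', (∀ d ∈ Dd, x * d = d * x) → x ∈ Dd) ∧
    ∀ d ∈ Dd, y * d * y⁻¹ * d⁻¹ = 1 ∨ y * d * y⁻¹ * d⁻¹ = S.toR ⟨_, S.a_mem_R⟩ := by
  classical
  obtain ⟨r₀, h01, h0z, h0⟩ := S.exists_back hnβ hnz
  set C := Subgroup.centralizer ({r₀} : Set ↥S.R)
  set aR : ↥S.R := ⟨_, S.a_mem_R⟩ with haR
  set zR : ↥S.R := ⟨(D.zq : Cz z), S.zq_mem_R⟩ with hzR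
  have hconjC : ∀ x : ↥C, ∃ d : ↥S.CD, ((d : Cz z) : G) = n * (((x : ↥S.R) : Cz z) : G) * n⁻¹ := by
    intro x
    have hxr : (((x : ↥S.R) : Cz z) : G) * ((r₀ : Cz z) : G) = ((r₀ : Cz z) : G) * (((x : ↥S.R) : Cz z) : G) :=
      congrArg (fun r : ↥S.R => ((r : Cz z) : G)) (Subgroup.mem_centralizer_singleton_iff.mp x.2)
    refine ⟨⟨⟨n * (((x : ↥S.R) : Cz z) : G) * n⁻¹, Subgroup.mem_centralizer_singleton_iff.mpr ?_⟩,
      Subgroup.mem_centralizer_singleton_iff.mpr (Subtype.ext ?_)⟩, rfl⟩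
    · have h := (show Commute _ _ from hxr).map (MulAut.conj n).toMonoidHom
      simp only [MulEquiv.coe_toMonoidHom, MulAut.conj_apply] at h
      rw [h0] at h
      exact h.eq
    · have hxβ : Commute (((x : ↥S.R) : Cz z) : G) (S.β : G) :=
        (congrArg Subtype.val (S.mem_R.mp (x : ↥S.R).2).2).symm
      exact (((show Commute n (S.β : G) from hnβ).mul_left hxβ).mul_left
        (show Commute n (S.β : G) from hnβ).inv_left).eq
  choose dd hdd using hconjC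
  let θ : ↥C →* S.Cb := MonoidHom.mk' (fun x => S.toC (dd x)) fun x y => by
    rw [← map_mul]
    refine congrArg S.toC (Subtype.ext (Subtype.ext ?_))
    simp only [Subgroup.coe_mul, hdd]
    group
  have hθ : ∀ x, θ x = S.toC (dd x) := fun x => rfl
  -- the image of an element of the centre is trivial or the fused element
  have hcen : ∀ x : ↥C, ((x : ↥S.R) = 1 ∨ (x : ↥S.R) = zR) → θ x = 1 ∨ θ x = S.toR aR := by
    rintro x (hx | hx)
    · left; rw [show x = 1 from Subtype.ext hx, map_one]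
    · right
      refine congrArg S.toC (Subtype.ext (Subtype.ext ?_))
      show ((dd x : Cz z) : G) = ((S.a : Cz z) : G)
      rw [hdd, hx, ← hnz]
      exact congrArg (fun t => n * t * n⁻¹) D.coe_zq
  have haR' : S.toR aR ∈ S.R' := by rw [S.R'_eq]; exact ⟨_, rfl⟩
  -- an element lands in the kernel only when its conjugate is fixed in `Q`
  have hker : ∀ x : ↥C, θ x ∈ S.R' → (dd x : Cz z) ∈ S.R ⊓ Qc Q n := by
    intro x hx
    rw [S.R'_eq] at hx
    obtain ⟨r, hr⟩ := hx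
    have hb : ((dd x : Cz z) : G)⁻¹ * ((r : Cz z) : G) ∈ S.B := (S.toC_eq.mp hr.symm)
    obtain ⟨b, hb', hrb⟩ : ∃ b ∈ S.B, ((r : Cz z) : G) = ((dd x : Cz z) : G) * b :=
      ⟨_, hb, by rw [mul_inv_cancel_left]⟩
    have hcomm : Commute ((dd x : Cz z) : G) b :=
      (Subgroup.mem_centralizer_iff.mp (S.cd_mem (dd x)) b hb').symm
    have hx4 : ((dd x : Cz z) : G) ^ 4 = 1 := by
      rw [hdd, ← MulAut.conj_apply, ← map_pow]
      have := congrArg (fun t : ↥S.R => ((t : Cz z) : G)) (S.ext2R.pow_four (x : ↥S.R))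
      simp only [SubgroupClass.coe_pow, OneMemClass.coe_one] at this
      rw [this, map_one]
    have hr4 : ((r : Cz z) : G) ^ 4 = 1 := congrArg (fun t : ↥S.R => ((t : Cz z) : G)) (S.ext2R.pow_four r)
    have hb1 : b = 1 := by
      rw [hrb, hcomm.mul_pow, hx4, one_mul] at hr4
      have h7 := S.B_pow hb'
      have h8 : b ^ 8 = b := by rw [pow_succ, h7, one_mul]
      rw [← h8, show (8 : ℕ) = 4 * 2 from rfl, pow_mul, hr4, one_pow]
    rw [hb1, mul_one] at hrb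
    have he : (dd x : Cz z) = (r : Cz z) := Subtype.ext hrb.symm
    refine ⟨by rw [he]; exact r.2, mem_Qc.mpr ⟨_, (S.mem_R.mp (x : ↥S.R).2).1, (hdd x).symm⟩⟩
  have key : ∀ x y : ↥S.R, (x : Cz z) ∈ Qc Q n → (y : Cz z) ∈ Qc Q n → x * y = y * x ∧ x * x = 1 := by
    intro x y hx hy
    obtain ⟨h1, h2⟩ := D.qc_comm_sq hnz S.a_facts.2 ⟨_, (S.mem_R.mp x.2).1⟩ ⟨_, (S.mem_R.mp y.2).1⟩ hx hy
    exact ⟨Subtype.ext (congrArg (fun t : Q => (t : Cz z)) h1), Subtype.ext (congrArg (fun t : Q => (t : Cz z)) h2)⟩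
  set E := (Qc Q n).subgroupOf S.R with hE
  -- the intersection is large
  have hE16 : 16 ≤ Nat.card ↥E := by
    obtain ⟨F, -, hFk⟩ := S.exists_fixer
    set f := F.comp θ
    have hsq : ∀ u ∈ f.range, u * u = 1 := by
      rintro _ ⟨x, rfl⟩
      rw [← map_mul, MonoidHom.comp_apply, ← MonoidHom.mem_ker, hFk]
      rcases hcen (x * x) (S.ext2R.sq (x : ↥S.R)) with h | h <;> rw [h]
      exacts [one_mem _, haR']
    have h4 := card_elementary_T_le f.range hsq
    have hk : Nat.card ↥f.ker ≤ Nat.card ↥E := by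
      have hm : ∀ x : ↥f.ker, (dd (x : ↥C) : Cz z) ∈ S.R ⊓ Qc Q n := fun x => hker _ (by
        rw [← hFk]; exact x.2)
      refine Nat.card_le_card_of_injective (fun x => (⟨⟨_, (hm x).1⟩, (hm x).2⟩ : ↥E)) fun x y h => ?_
      have h' : ((dd (x : ↥C) : Cz z) : G) = ((dd (y : ↥C) : Cz z) : G) :=
        congrArg (fun t : ↥E => (((t : ↥S.R) : Cz z) : G)) h
      rw [hdd, hdd] at h'
      exact Subtype.ext (Subtype.ext (Subtype.ext (Subtype.ext (mul_left_cancel (mul_right_cancel h')))))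
    have hmul := f.ker.card_mul_index
    rw [Subgroup.index_ker, S.card_cent_fixed h01 h0z] at hmul
    nlinarith
  have hzE : zR ∈ E := mem_Qc.mpr ⟨_, (S.mem_R.mp r₀.2).1, h0.trans D.coe_zq.symm⟩
  have hEle : E ≤ Subgroup.centralizer (E : Set ↥S.R) := fun x hx => Subgroup.mem_centralizer_iff.mpr fun y hy =>
    (key y x hy hx).1
  have hEeq : Subgroup.centralizer (E : Set ↥S.R) ≤ E := by
    refine (Subgroup.eq_of_le_of_card_ge hEle ?_).ge
    have h := S.ext2R.card_mul_card_centralizer hzE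
    rw [S.card_R] at h
    nlinarith
  -- an element outside the kernel
  obtain ⟨y₀, hy₀⟩ : ∃ y₀ : ↥C, θ y₀ ∉ S.R' := by
    by_contra hall
    push Not at hall
    obtain ⟨x, y, hx, hy, hxy⟩ := S.cent_fixed_noncomm h01 h0z
    obtain ⟨x', rfl⟩ : ∃ x' : ↥C, (x' : ↥S.R) = x := ⟨⟨x, Subgroup.mem_centralizer_singleton_iff.mpr hx⟩, rfl⟩
    obtain ⟨y', rfl⟩ : ∃ y' : ↥C, (y' : ↥S.R) = y := ⟨⟨y, Subgroup.mem_centralizer_singleton_iff.mpr hy⟩, rfl⟩
    obtain ⟨hxR, hxQ⟩ := hker x' (hall x')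
    obtain ⟨hyR, hyQ⟩ := hker y' (hall y')
    refine hxy (Subtype.ext (Subtype.ext ?_))
    have h := congrArg (fun t : ↥S.R => ((t : Cz z) : G)) (key ⟨_, hxR⟩ ⟨_, hyR⟩ hxQ hyQ).1
    simp only [Subgroup.coe_mul] at h ⊢
    rw [hdd, hdd, ← MulAut.conj_apply, ← MulAut.conj_apply, ← map_mul, ← map_mul] at h
    exact (MulAut.conj n).injective h
  refine ⟨E.map S.toR, θ y₀, hy₀, ?_, ?_, ?_, ?_, ?_, ?_⟩
  · obtain ⟨zc, hzc⟩ : ∃ zc : ↥C, (zc : ↥S.R) = zR :=
      ⟨⟨zR, Subgroup.mem_centralizer_singleton_iff.mpr (S.ext2R.z_comm r₀).eq.symm⟩, rfl⟩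
    have he : θ zc = S.toR aR := by
      refine congrArg S.toC (Subtype.ext (Subtype.ext ?_))
      show ((dd zc : Cz z) : G) = ((S.a : Cz z) : G)
      rw [hdd, hzc, ← hnz]
      exact congrArg (fun t => n * t * n⁻¹) D.coe_zq
    rw [← he, ← map_mul, ← map_mul]
    refine congrArg θ (Subtype.ext ?_)
    simp only [Subgroup.coe_mul, hzc]
    exact (S.ext2R.z_comm _).eq
  · rw [← map_mul]
    exact hcen _ (S.ext2R.sq (y₀ : ↥S.R))
  · rintro _ ⟨r, -, rfl⟩
    rw [S.R'_eq]; exact ⟨r, rfl⟩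
  · rintro _ ⟨r, hr, rfl⟩
    rw [← map_mul, (key r r hr hr).2, map_one]
  · intro x hx hxc
    rw [S.R'_eq] at hx
    obtain ⟨r, rfl⟩ := hx
    refine Subgroup.mem_map_of_mem _ (hEeq (Subgroup.mem_centralizer_iff.mpr fun e he => ?_))
    refine S.toR_injective ?_
    rw [map_mul, map_mul]
    exact (hxc _ (Subgroup.mem_map_of_mem _ he)).symm
  · rintro _ ⟨e, he, rfl⟩
    obtain ⟨p, hp⟩ := S.exists_pre_fixed hnβ hnz (Subgroup.mem_subgroupOf.mp he) e.2
    have hpC : p ∈ C := by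
      refine Subgroup.mem_centralizer_singleton_iff.mpr (Subtype.ext (Subtype.ext ?_))
      have hez : ((e : Cz z) : G) * z = z * ((e : Cz z) : G) := Subgroup.mem_centralizer_singleton_iff.mp (e : Cz z).2
      refine (MulAut.conj n).injective ?_
      show MulAut.conj n (((p : Cz z) : G) * ((r₀ : Cz z) : G)) = MulAut.conj n (((r₀ : Cz z) : G) * ((p : Cz z) : G))
      rw [map_mul, map_mul, MulAut.conj_apply, MulAut.conj_apply, hp, h0]
      exact hez
    have hep : θ ⟨p, hpC⟩ = S.toR e := congrArg S.toC (Subtype.ext (Subtype.ext ((hdd _).trans hp)))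
    rw [← hep, ← map_inv, ← map_mul, ← map_inv, ← map_mul, ← map_mul]
    refine hcen _ ?_
    show (y₀ : ↥S.R) * p * (y₀ : ↥S.R)⁻¹ * p⁻¹ = 1 ∨ _ = zR
    rw [← commutatorElement_def]
    exact S.ext2R.comm_cases _ _

omit hnβ hnz

theorem exists_shape : Nonempty (HeldShape.Shape S.Cb) := by
  obtain ⟨n, hnβ, hnz⟩ := S.exists_fuse_a
  obtain ⟨Dd, y, hy, hya, hy2, hDle, hDsq, hDself, hyD⟩ := S.exists_witness hnβ hnz
  obtain ⟨F, hFs, hFk⟩ := S.exists_fixer
  have hz : ∀ x : S.Cb, x * S.zC = S.zC * x := fun x => Subtype.ext (by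
    show (x : S.Gb) * (S.zC : S.Gb) = (S.zC : S.Gb) * (x : S.Gb)
    rw [S.zC_val]
    exact Subgroup.mem_centralizer_singleton_iff.mp x.2)
  exact ⟨{
    z := S.zC
    R := S.R'
    A := S.up (PA (D := D))
    B := S.up (PB (D := D))
    A_normal := S.upA_normal
    B_normal := S.upB_normal
    zz := by
      show S.toR _ * S.toR _ = 1
      rw [← map_mul, S.ext2R.zz, map_one]
    z_ne := fun h => S.ext2R.ne (S.toR_injective (h.trans (map_one _).symm))
    z_comm := hz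
    A_le := S.up_le _
    B_le := S.up_le _
    z_A := ⟨_, zq_PA, rfl⟩
    z_B := ⟨_, zq_PB, rfl⟩
    sq_A := fun x hx => S.up_sq (fun w hw => PA_sq hw) hx
    sq_B := fun x hx => S.up_sq (fun w hw => PB_sq hw) hx
    card_A := by rw [S.card_up S.PA_le, card_PA]
    card_B := by rw [S.card_up S.PB_le, card_PB]
    card_R := S.card_R'
    inf_AB := fun x hA hB => S.up_inf hA hB
    center_R := fun x hx hc => by
      rw [S.R'_eq] at hx
      obtain ⟨r, rfl⟩ := hx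
      rcases (S.ext2R.center_iff r).mp (Subgroup.mem_center_iff.mpr fun t => S.toR_injective (by
        rw [map_mul, map_mul]
        exact (hc _ (by rw [S.R'_eq]; exact ⟨t, rfl⟩)).symm)) with rfl | rfl
      exacts [Or.inl (map_one _), Or.inr rfl]
    F := F
    F_surj := hFs
    F_ker := hFk
    cent_A := fun c hc => S.cent_up hc
    a := S.toR ⟨_, S.a_mem_R⟩
    a_mem := ⟨_, S.a_PA, rfl⟩
    a_ne := fun h => S.a_nc (by
      rw [show S.a = 1 from Subtype.ext (congrArg (fun r : ↥S.R => (r : Cz z))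
        (S.toR_injective (h.trans (map_one _).symm)))]
      exact one_mem _)
    a_ne_z := fun h => S.a_facts.2
      ((congrArg (fun r : ↥S.R => ((r : Cz z) : G)) (S.toR_injective h)).trans D.coe_zq)
    D := Dd
    y := y
    y_out := hy
    y_a := hya
    y_sq := hy2
    D_le := hDle
    D_sq := hDsq
    D_self := hDself
    y_D := hyD }⟩

end Sev

end CfsgLib.MonsterQ.Seven
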