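/-
Groups of Monster type: the centraliser of the element of order seven modulo the group it generates is the Held
group.
-/
import Cfsg.Agent.Lib.MonsterQ.Seven.Shape
import Cfsg.Agent.Lib.HeldRecog.Strict

set_option autoImplicit false
set_option maxRecDepth 100000
set_option linter.style.haveILetI false
set_option linter.unusedSectionVars false

namespace CfsgLib.MonsterQ.Seven

open Cfsg CfsgGolay CfsgLeech CfsgLib.ExtraTwo CfsgLib.HeldRecog CfsgLib.HeCent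
open scoped Pointwise commutatorElement

attribute [local irreducible] codeL octadL dodecadL slpCodes r7

variable {G : Type*} [Group G] [Finite G] {z : G} {Q : Subgroup (Subgroup.centralizer ({z} : Set G))} [Q.Normal]

namespace Sev

variable {D : Data z Q} (S : Sev D) [S.N.Normal]

/-- A class of norm 64 in a plane. -/
theorem fused_of_plane {f : ℕ → Bool} (hsub : ∀ m < 64, f m = true → m ≠ 0 → ∃ k < 14, abM.getD k 0 = m)
    {M : Subgroup (Cz z)} (hM : ∀ x ∈ M, PlaneMem (D := D) f x) {x : S.Cb} (hx : x ∈ S.up M) (h1 : x ≠ 1)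
    (hz : x ≠ S.zC) : IsConj S.zb (x : S.Gb) := by
  obtain ⟨r, hr, rfl⟩ := hx
  obtain ⟨q, hq, m, hm, hfm, hv⟩ := hM _ hr
  have hqR : (q : Cz z) ∈ S.R := hq ▸ r.2
  have h0 : m ≠ 0 := by
    rintro rfl
    rw [sub_zero', D.psi_zero] at hv
    rcases (D.ext2.center_iff q).mp ((QuotientGroup.eq_one_iff q).mp hv.symm) with rfl | rfl
    · exact h1 (by rw [show r = 1 from Subtype.ext hq.symm, map_one])
    · exact hz (congrArg S.toR (Subtype.ext hq.symm))
  obtain ⟨k, hk, rfl⟩ := hsub m hm hfm h0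
  have := S.conj_zb hqR (D.conj_of_norm64 (ab_facts hk).2.2.1 ((D.psi_cg.mpr (ab_facts hk).2.1).trans hv)).1
  convert this using 1
  exact congrArg QuotientGroup.mk (Subtype.ext (congrArg (fun t : Cz z => (t : G)) (show (r : Cz z) = (q : Cz z) from hq.symm)))

theorem exists_outer {M : Subgroup (Cz z)} (hle : M ≤ S.R) (hc : Nat.card ↥M = 16) :
    ∃ x ∈ S.up M, x ≠ 1 ∧ x ≠ S.zC := by
  classical
  by_contra hall
  push Not at hall
  let T : Finset S.Cb := {1, S.zC}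
  have h1 : Nat.card ↥(S.up M) ≤ Nat.card ↥T :=
    Nat.card_le_card_of_injective (fun x => (⟨x.1, by
      by_cases hx : (x : S.Cb) = 1
      · simp [T, hx]
      · simp [T, hall _ x.2 hx]⟩ : ↥T)) fun x y h =>
      Subtype.ext (congrArg (fun s : ↥T => (s : S.Cb)) h)
  rw [S.card_up hle, hc, Nat.card_eq_finsetCard] at h1
  have : T.card ≤ 2 := Finset.card_le_two
  omega

theorem exists_conjugator_fixed {n : G} (hnβ : n * (S.β : G) = (S.β : G) * n)
    (hnz : n * z * n⁻¹ = ((S.a : Cz z) : G)) {r : ↥S.R} (hc : IsConj z ((r : Cz z) : G))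
    (hne : ((r : Cz z) : G) ≠ z) :
    ∃ (m : G) (d e : ↥S.R), m * (S.β : G) = (S.β : G) * m ∧ m * z * m⁻¹ = ((r : Cz z) : G) ∧
      ((d : Cz z) : G) ≠ 1 ∧ ¬ IsConj z ((d : Cz z) : G) ∧ m * ((e : Cz z) : G) * m⁻¹ = ((d : Cz z) : G) := by
  obtain ⟨q, hqR, hqn, hq1, hqc⟩ := S.exists_fixed_norm32 hnz
  obtain ⟨p, hp⟩ := S.exists_pre_fixed hnβ hnz hqn hqR
  obtain ⟨x, j, hxj, hxa⟩ := S.exists_move_a (q := ⟨_, (S.mem_R.mp r.2).1⟩) r.2 hc hne
  have hj : x * S.β * x⁻¹ ≠ 1 := fun h => by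
    rw [mul_inv_eq_one, mul_eq_left] at h
    have := S.order_β
    rw [h, orderOf_one] at this
    norm_num at this
  have hgen : Subgroup.zpowers (S.β ^ j) = Subgroup.zpowers S.β :=
    zpowers_eq_of_seven _ (by rw [Nat.card_zpowers, S.order_β]) (Subgroup.npow_mem_zpowers _ _) (hxj ▸ hj)
  -- anything commuting with the conjugate commutes with the generator
  have hcomm : ∀ w : G, Commute w (S.β : G) → Commute ((x : G) * w * (x : G)⁻¹) (S.β : G) := by
    intro w hw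
    obtain ⟨i, -, hi⟩ := mem_pow (x := S.β ^ j) (by rw [← pow_mul, mul_comm, pow_mul, S.pow7, one_pow])
      (hgen ▸ Subgroup.mem_zpowers S.β)
    have h := hw.map (MulAut.conj (x : G)).toMonoidHom
    simp only [MulEquiv.coe_toMonoidHom, MulAut.conj_apply] at h
    have hxj' : (x : G) * (S.β : G) * (x : G)⁻¹ = ((S.β ^ j : Cz z) : G) := congrArg Subtype.val hxj
    rw [hxj'] at h
    have hi' : (S.β : G) = ((S.β ^ j : Cz z) : G) ^ i := by
      rw [← SubgroupClass.coe_pow, ← hi]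
    rw [hi']
    exact h.pow_right i
  have hfix : ∀ w : ↥S.R, ∃ w' : ↥S.R, ((w' : Cz z) : G) = (x : G) * ((w : Cz z) : G) * (x : G)⁻¹ := fun w =>
    ⟨⟨x * (w : Cz z) * x⁻¹, S.mem_R.mpr ⟨(inferInstance : Q.Normal).conj_mem _ (S.mem_R.mp w.2).1 x, Subtype.ext
      (hcomm _ (congrArg Subtype.val (S.mem_R.mp w.2).2).symm).eq.symm⟩⟩, rfl⟩
  obtain ⟨d, hd⟩ := hfix ⟨(q : Cz z), hqR⟩
  obtain ⟨e, he⟩ := hfix p
  have hxz : (x : G) * z = z * (x : G) := Subgroup.mem_centralizer_singleton_iff.mp x.2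
  refine ⟨(x : G) * n * (x : G)⁻¹, d, e, (hcomm n hnβ).eq, ?_, ?_, ?_, ?_⟩
  · rw [← hxa, ← hnz]
    calc (x : G) * n * (x : G)⁻¹ * z * ((x : G) * n * (x : G)⁻¹)⁻¹
        = (x : G) * n * ((x : G)⁻¹ * (z * (x : G))) * n⁻¹ * (x : G)⁻¹ := by group
      _ = (x : G) * n * ((x : G)⁻¹ * ((x : G) * z)) * n⁻¹ * (x : G)⁻¹ := by rw [hxz]
      _ = _ := by group
  · intro h
    rw [hd, mul_inv_eq_one, mul_eq_left] at h
    exact hq1 h
  · intro h
    refine hqc ?_
    rw [hd] at h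
    exact h.trans (isConj_iff.mpr ⟨(x : G)⁻¹, by group⟩)
  · rw [hd, he]
    show _ = (x : G) * ((q : Cz z) : G) * (x : G)⁻¹
    rw [← hp]
    group

/-- The group is the Held group. -/
theorem isoHe : Cfsg.Spor.IsoHe S.Gb := by
  classical
  obtain ⟨sh⟩ := S.exists_shape
  obtain ⟨eC⟩ := sh.equiv sTr mat_transvection
  obtain ⟨D0, f, hDz, hf⟩ := exists_emb sTr mat_transvection S.zb_order eC
  obtain ⟨n, hnβ, hnz⟩ := S.exists_fuse_a
  let mS : S.Gb ≃* Shrink.{0} S.Gb := (Shrink.mulEquiv : Shrink.{0} S.Gb ≃* S.Gb).symm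
  haveI : Finite (Shrink.{0} S.Gb) := Finite.of_equiv _ mS.toEquiv
  let E : Emb (Shrink.{0} S.Gb) :=
    { z := mS D0.z
      φ := mS.toMonoidHom.comp D0.φ
      inj := mS.injective.comp D0.inj
      mem_range := fun a => by
        obtain ⟨b, rfl⟩ := mS.surjective a
        rw [← map_mul, ← map_mul, mS.injective.eq_iff, D0.mem_range]
        exact exists_congr fun x => mS.injective.eq_iff.symm
      map_Zh := congrArg mS D0.map_Zh }
  have hEz : E.z = mS S.zb := congrArg mS hDz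
  have hEφ : ∀ y : S.Cb, E.φ (f y) = mS (y : S.Gb) := fun y => congrArg mS (hf y)
  have hisZ : ∀ y : S.Cb, E.IsZ (E.φ (f y)) ↔ IsConj S.zb (y : S.Gb) := fun y => by
    rw [hEφ, Emb.IsZ, hEz, isConj_iff]
    refine ⟨fun ⟨h, hh⟩ => ?_, fun ⟨c, hc⟩ => ⟨mS c, by rw [← map_inv, ← map_mul, ← map_mul, hc]⟩⟩
    obtain ⟨c, rfl⟩ := mS.surjective h
    exact ⟨c, mS.injective (by rw [map_mul, map_mul, map_inv, hh])⟩
  have hcore : ∀ y : S.Cb, f y ∈ Cfsg.pCore 2 HS ↔ y ∈ S.R' := fun y => by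
    rw [← CfsgLib.pCore_map_equiv 2 f, S.pCore_R']
    exact Subgroup.mem_map_iff_mem f.injective
  have hzh : f S.zC = Zh := E.inj (by rw [hEφ, S.zC_val, E.map_Zh, hEz])
  -- a fused element of a plane gives one of the classes 2 and 3
  have hcls : ∀ y : S.Cb, y ∈ S.R' → y * y = 1 → y ≠ 1 → y ≠ S.zC → IsConj S.zb (y : S.Gb) →
      ∃ k, (k = 2 ∨ k = 3) ∧ rep k ∈ Cfsg.pCore 2 HS ∧ E.IsZ (E.φ (rep k)) ∧ ∃ u : HS, f y = u * rep k * u⁻¹ := by
    intro y hyR hy2 hy1 hyz hyc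
    obtain ⟨k, hk, u, hu⟩ := inv_cases (x := f y) (by rw [← map_mul, hy2, map_one])
      (fun h => hy1 (f.injective (h.trans (map_one f).symm)))
    have hkc : rep k ∈ Cfsg.pCore 2 HS := by
      have h := (inferInstance : (Cfsg.pCore 2 HS).Normal).conj_mem _ ((hcore y).mpr hyR) u⁻¹
      rwa [hu, show u⁻¹ * (u * rep k * u⁻¹) * u⁻¹⁻¹ = rep k by group] at h
    have hkz : E.IsZ (E.φ (rep k)) := by
      obtain ⟨g, hg⟩ := (hisZ y).mpr hyc
      refine ⟨(E.φ u)⁻¹ * g, ?_⟩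
      calc (E.φ u)⁻¹ * g * E.z * ((E.φ u)⁻¹ * g)⁻¹ = (E.φ u)⁻¹ * (g * E.z * g⁻¹) * E.φ u := by group
        _ = _ := by rw [hg, hu, map_mul, map_mul, map_inv]; group
    refine ⟨k, ?_, hkc, hkz, u, hu⟩
    have h0 : k ≠ 0 := by
      rintro rfl
      obtain ⟨g, hg⟩ := hkz
      exact E.not_rep_zero hg
    have h6 : k ≠ 6 := by
      rintro rfl
      refine hyz (f.injective ?_)
      rw [hzh, hu, rep_six, Zh_comm, mul_inv_cancel_right]
    have hn : k ∉ [1, 4, 5, 7] := fun h => rep_not_mem_pCore h hkc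
    simp only [List.mem_cons, List.not_mem_nil, or_false, not_or] at hn
    omega
  obtain ⟨xA, hxA, hA1, hAz⟩ := S.exists_outer S.PA_le card_PA
  obtain ⟨xB, hxB, hB1, hBz⟩ := S.exists_outer S.PB_le card_PB
  obtain ⟨kA, hkA, hAc, hAi, uA, huA⟩ := hcls xA (S.up_le _ hxA) (S.up_sq (fun w hw => PA_sq hw) hxA) hA1 hAz
    (S.fused_of_plane (f := firstB) (fun m hm hf h0 => by
      obtain ⟨k, hk, e⟩ := (abM_cover m hm h0).1 (Nat.blt_eq.mp hf)
      exact ⟨k, by omega, e⟩) (fun _ h => h) hxA hA1 hAz)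
  obtain ⟨kB, hkB, hBc, hBi, uB, huB⟩ := hcls xB (S.up_le _ hxB) (S.up_sq (fun w hw => PB_sq hw) hxB) hB1 hBz
    (S.fused_of_plane (f := secondB) (fun m hm hf h0 => by
      obtain ⟨k, hk, e⟩ := (abM_cover m hm h0).2 (Nat.beq_eq.mp hf)
      exact ⟨7 + k, by omega, e⟩) (fun _ h => h) hxB hB1 hBz)
  have hne : kA ≠ kB := by
    rintro rfl
    obtain ⟨c, hc⟩ := f.surjective (uB * uA⁻¹)
    have he : c * xA * c⁻¹ = xB := f.injective (by rw [map_mul, map_mul, map_inv, hc, huA, huB]; group)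
    rcases S.up_inf (he ▸ S.upA_normal.conj_mem _ hxA c) hxB with h | h
    exacts [hB1 h, hBz h]
  have hboth : ∀ k, k = 2 ∨ k = 3 → rep k ∈ Cfsg.pCore 2 HS ∧ E.IsZ (E.φ (rep k)) := by
    intro k hk
    rcases (show k = kA ∨ k = kB by omega) with rfl | rfl
    exacts [⟨hAc, hAi⟩, ⟨hBc, hBi⟩]
  have hstrict : E.Strict := by
    refine ⟨⟨(hboth 2 (Or.inl rfl)).2, (hboth 3 (Or.inr rfl)).2⟩, fun g b hb hbz hg => ?_⟩
    obtain ⟨g, rfl⟩ := mS.surjective g
    obtain ⟨y, rfl⟩ := f.surjective b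
    have hy := (hcore y).mp hb
    rw [S.R'_eq] at hy
    obtain ⟨r, rfl⟩ := hy
    have hgz : g * S.zb * g⁻¹ = (S.toR r : S.Gb) := mS.injective (by
      rw [map_mul, map_mul, map_inv, ← hEz, hg, hEφ])
    have hconj : IsConj z ((r : Cz z) : G) :=
      S.conj_of_conj_zb (q := ⟨_, (S.mem_R.mp r.2).1⟩) r.2 (isConj_iff.mpr ⟨g, hgz⟩)
    have hrz : ((r : Cz z) : G) ≠ z := fun h => hbz (by
      rw [show r = ⟨(D.zq : Cz z), S.zq_mem_R⟩ from Subtype.ext (Subtype.ext (h.trans D.coe_zq.symm))]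
      exact hzh)
    obtain ⟨m, d, e, hmβ, hmz, hd1, hdc, hme⟩ := S.exists_conjugator_fixed hnβ hnz hconj hrz
    set mb := S.im m (S.mem_X.mpr hmβ) with hmb
    have hmbz : mb * S.zb * mb⁻¹ = (S.toR r : S.Gb) := congrArg QuotientGroup.mk
      (Subtype.ext (show m * z * m⁻¹ = ((r : Cz z) : G) from hmz))
    have hmbe : mb * (S.toR e : S.Gb) * mb⁻¹ = (S.toR d : S.Gb) := congrArg QuotientGroup.mk
      (Subtype.ext (show m * ((e : Cz z) : G) * m⁻¹ = ((d : Cz z) : G) from hme))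
    obtain ⟨c, hc⟩ : ∃ c : S.Cb, (c : S.Gb) = mb⁻¹ * g := ⟨⟨mb⁻¹ * g, Subgroup.mem_centralizer_singleton_iff.mpr (by
      have h := hmbz.trans hgz.symm
      calc mb⁻¹ * g * S.zb = mb⁻¹ * (g * S.zb * g⁻¹) * g := by group
        _ = mb⁻¹ * (mb * S.zb * mb⁻¹) * g := by rw [h]
        _ = _ := by group)⟩, rfl⟩
    have hdR : S.toR d ∈ S.R' := by rw [S.R'_eq]; exact ⟨_, rfl⟩
    have heR : c⁻¹ * S.toR e * c ∈ S.R' := by
      have h : S.toR e ∈ S.R' := by rw [S.R'_eq]; exact ⟨_, rfl⟩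
      simpa using (inferInstance : S.R'.Normal).conj_mem _ h c⁻¹
    refine ⟨f (S.toR d), (hcore _).mpr hdR, f (c⁻¹ * S.toR e * c), (hcore _).mpr heR, fun h => hd1 ?_, fun h => hdc ?_, ?_⟩
    · have := S.toR_injective ((f.injective (h.trans (map_one f).symm)).trans (map_one S.toR).symm)
      exact congrArg (fun t : ↥S.R => ((t : Cz z) : G)) this
    · exact S.conj_of_conj_zb (q := ⟨_, (S.mem_R.mp d.2).1⟩) d.2 ((hisZ _).mp h)
    · rw [hEφ, hEφ, ← map_inv, ← map_mul, ← map_mul]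
      refine congrArg mS ?_
      rw [Subgroup.coe_mul, Subgroup.coe_mul, Subgroup.coe_inv, hc, ← hmbe]
      group
  obtain ⟨iso⟩ := strict_iso E hstrict fun k hk => (hboth k hk).1
  exact ⟨mS.trans iso⟩

end Sev

end CfsgLib.MonsterQ.Seven
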